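import Cfsg.Agent.FusionComponents.GenSat
import Cfsg.Agent.FusionLayer.Product.Normal

/-!
# Automorphisms trivial modulo a strongly closed subgroup

For a subsystem `E` over `T` normal in `F` and `R ≤ S`: the group `AE F E R` of the automorphisms of
`R` trivial modulo `T` and acting on `R ⊓ T` as elements of `E`, the `p`-group `K2 F T R` of those
fixing `R ⊓ T`, and the subgroup `ext1 F T R` of `R T` inducing `K2 F T R` and inner automorphisms.
-/

set_option autoImplicit false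

namespace CfsgLib.FusionComponents

open Cfsg Cfsg.FusionSystem CfsgLib.Fusion CfsgLib.FusionClosed

variable {Ω : Type*} [Group Ω] {S T : Subgroup Ω} {F : FusionSystem S} {E : FusionSystem T}
  {R R' W : Subgroup Ω} {p : ℕ}

/-- The automorphism `g` moves every element inside its coset modulo `T`. -/
def Tr (T : Subgroup Ω) (g : MulAut R) : Prop := ∀ x : R, (x : Ω)⁻¹ * (g x : Ω) ∈ T

theorem Tr.one : Tr T (1 : MulAut R) := fun x => by
  rw [MulAut.one_apply, inv_mul_cancel]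
  exact one_mem _

theorem Tr.mul {a b : MulAut R} (ha : Tr T a) (hb : Tr T b) : Tr T (a * b) := fun x => by
  have := mul_mem (hb x) (ha (b x))
  rwa [mul_assoc, mul_inv_cancel_left] at this

theorem Tr.inv {a : MulAut R} (ha : Tr T a) : Tr T a⁻¹ := fun x => by
  have := inv_mem (ha (a⁻¹ x))
  rwa [MulAut.apply_inv_self, mul_inv_rev, inv_inv] at this

theorem Tr.pow {a : MulAut R} (ha : Tr T a) (n : ℕ) : Tr T (a ^ n) := by
  induction n with
  | zero => rw [pow_zero]; exact Tr.one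
  | succ n ih => rw [pow_succ]; exact ih.mul ha

theorem Tr.congr (hT : F.StronglyClosed T) {e : R ≃* R'} (he : IsIso F e) {g : MulAut R}
    (hg : Tr T g) : Tr T (MulAut.congr e g) := fun y => by
  obtain ⟨x, rfl⟩ := e.surjective y
  rw [congr_apply, ← Subgroup.coe_inv, ← Subgroup.coe_mul, ← map_inv, ← map_mul]
  exact stronglyClosed_apply hT he (x := x⁻¹ * g x) (hg x)

/-- The automorphisms trivial modulo `T` which act on `R ⊓ T` as elements of `E`. -/
def AE (F : FusionSystem S) (E : FusionSystem T) (R : Subgroup Ω) : Subgroup (MulAut R) where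
  carrier := {g | g ∈ F.autGroup R ∧ Tr T g ∧
    ∃ b ∈ E.autGroup (R ⊓ T), Agrees (inf_le_left : R ⊓ T ≤ R) b g}
  one_mem' := ⟨one_mem _, Tr.one, 1, one_mem _, Agrees.one _⟩
  mul_mem' := fun ⟨ha, had, b, hb, hab⟩ ⟨ha', had', b', hb', hab'⟩ =>
    ⟨mul_mem ha ha', had.mul had', b * b', mul_mem hb hb', hab.mul hab'⟩
  inv_mem' := fun ⟨ha, had, b, hb, hab⟩ => ⟨inv_mem ha, had.inv, b⁻¹, inv_mem hb, hab.inv⟩

/-- The automorphisms trivial modulo `T` and fixing `R ⊓ T` pointwise. -/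
def K2 (F : FusionSystem S) (T R : Subgroup Ω) : Subgroup (MulAut R) where
  carrier := {g | g ∈ F.autGroup R ∧ Tr T g ∧ ∀ x : R, (x : Ω) ∈ T → g x = x}
  one_mem' := ⟨one_mem _, Tr.one, fun _ _ => rfl⟩
  mul_mem' := fun {a b} ha hb => ⟨mul_mem ha.1 hb.1, ha.2.1.mul hb.2.1, fun x hx => by
    rw [MulAut.mul_apply, hb.2.2 x hx, ha.2.2 x hx]⟩
  inv_mem' := fun {a} ha => ⟨inv_mem ha.1, ha.2.1.inv, fun x hx => by
    conv_lhs => rw [← ha.2.2 x hx]
    rw [MulAut.inv_apply_self]⟩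

/-- The group `AE F E R` times the inner automorphisms. -/
def Aplus (F : FusionSystem S) (E : FusionSystem T) (R : Subgroup Ω) : Subgroup (MulAut R) :=
  AE F E R ⊔ Inn R

/-- The elements of `R T` inducing on `R` an element of `K2 F T R` times an inner automorphism. -/
def ext1 (F : FusionSystem S) (T R : Subgroup Ω) : Subgroup Ω :=
  kNormalizer (R ⊔ T) R (K2 F T R ⊔ Inn R)

/-- `R ⊓ T` and all its conjugates contain their centralizers in `T`. -/
def HT (F : FusionSystem S) (T R : Subgroup Ω) : Prop := InH F T (R ⊓ T)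

theorem AE_le_autGroup : AE F E R ≤ F.autGroup R := fun _ h => h.1

theorem K2_le_autGroup : K2 F T R ≤ F.autGroup R := fun _ h => h.1

theorem K2_le_AE : K2 F T R ≤ AE F E R := fun _ hg =>
  ⟨hg.1, hg.2.1, 1, one_mem _, fun x => congrArg Subtype.val (hg.2.2 ⟨x, x.2.1⟩ x.2.2)⟩

theorem congr_Inn {e : R ≃* R'} {a : MulAut R} (ha : a ∈ Inn R) : MulAut.congr e a ∈ Inn R' := by
  obtain ⟨r, rfl⟩ := ha
  exact ⟨e r, MulEquiv.ext fun y => by simp [MulAut.congr]⟩

theorem Agrees.congr {U V U' V' : Subgroup Ω} {h : U ≤ V} {h' : U' ≤ V'} {b : MulAut U}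
    {a : MulAut V} (hab : Agrees h b a) {e : V ≃* V'} {e₀ : U ≃* U'}
    (he : ∀ x : U, (e₀ x : Ω) = e ⟨x, h x.2⟩) :
    Agrees h' (MulAut.congr e₀ b) (MulAut.congr e a) := fun y => by
  obtain ⟨x, rfl⟩ := e₀.surjective y
  rw [show (⟨(e₀ x : Ω), h' (e₀ x).2⟩ : V') = e ⟨x, h x.2⟩ from
    Subtype.ext (he x), congr_apply, congr_apply, he]
  exact congrArg (fun w => (e w : Ω)) (Subtype.ext (hab x))

/-- An isomorphism of `F` restricts to one of the traces on `T`. -/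
theorem exists_inf_iso (hT : F.StronglyClosed T) {e : R ≃* R'} (he : IsIso F e) :
    ∃ e₀ : ↥(R ⊓ T) ≃* ↥(R' ⊓ T), IsIso F e₀ ∧
      ∀ x : ↥(R ⊓ T), (e₀ x : Ω) = e ⟨x, x.2.1⟩ := by
  obtain ⟨e₀, he₀, hv⟩ := Fusion.exists_iso (restrict_mem he (inf_le_left : R ⊓ T ≤ R))
    (Q := R' ⊓ T) (by
      ext y
      constructor
      · rintro ⟨x, rfl⟩
        exact ⟨(e _).2, stronglyClosed_apply hT he (x := ⟨x, x.2.1⟩) x.2.2⟩
      · rintro ⟨hyR, hyT⟩
        exact ⟨⟨e.symm ⟨y, hyR⟩, (e.symm ⟨y, hyR⟩).2,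
          stronglyClosed_apply hT he.symm (x := ⟨y, hyR⟩) hyT⟩,
          congrArg Subtype.val (e.apply_symm_apply ⟨y, hyR⟩)⟩)
  exact ⟨e₀, he₀, fun x => hv x⟩

theorem HT.of_isConj (hT : F.StronglyClosed T) (h : HT F T R) (hc : F.IsConj R R') :
    HT F T R' := by
  obtain ⟨e, he⟩ := isConj_iff.1 hc
  obtain ⟨e₀, he₀, -⟩ := exists_inf_iso hT he
  exact InH.of_isConj hT h he₀.isConj

theorem HT.of_le (hT : F.StronglyClosed T) (h : HT F T R) (hle : R ≤ W) : HT F T W :=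
  InH.of_le hT h (inf_le_inf_right T hle) inf_le_right

/-- Covariance of `AE`. -/
theorem congr_mem_AE (hE : E.IsNormalIn F p) {e : R ≃* R'} (he : IsIso F e) {g : MulAut R}
    (hg : g ∈ AE F E R) : MulAut.congr e g ∈ AE F E R' := by
  obtain ⟨hgF, hgT, b, hb, hbg⟩ := hg
  have hT := hE.1.2.2.2.1
  obtain ⟨e₀, he₀, hv⟩ := exists_inf_iso hT he
  exact ⟨congr_mem_autGroup he hgF, hgT.congr hT he, MulAut.congr e₀ b,
    congr_mem_of_invariant (strongInvariant_of_invariant hE.1.2.2) inf_le_right inf_le_right he₀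
      hb, hbg.congr hv⟩

/-- Covariance of `K2`. -/
theorem congr_mem_K2 (hT : F.StronglyClosed T) {e : R ≃* R'} (he : IsIso F e) {g : MulAut R}
    (hg : g ∈ K2 F T R) : MulAut.congr e g ∈ K2 F T R' := by
  refine ⟨congr_mem_autGroup he hg.1, hg.2.1.congr hT he, fun y hy => ?_⟩
  obtain ⟨x, rfl⟩ := e.surjective y
  rw [congr_apply]
  refine congrArg e (hg.2.2 x ?_)
  have := stronglyClosed_apply hT he.symm (x := e x) hy
  simpa using this

theorem congr_mem_K2Inn (hT : F.StronglyClosed T) {e : R ≃* R'} (he : IsIso F e) {g : MulAut R}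
    (hg : g ∈ K2 F T R ⊔ Inn R) : MulAut.congr e g ∈ K2 F T R' ⊔ Inn R' := by
  have h : (K2 F T R ⊔ Inn R).map (MulAut.congr e).toMonoidHom ≤ K2 F T R' ⊔ Inn R' := by
    rw [Subgroup.map_sup]
    refine sup_le_sup ?_ ?_
    · rintro _ ⟨a, ha, rfl⟩
      exact congr_mem_K2 hT he ha
    · rintro _ ⟨a, ha, rfl⟩
      exact congr_Inn ha
  exact h ⟨g, hg, rfl⟩

theorem congr_mem_Aplus (hE : E.IsNormalIn F p) {e : R ≃* R'} (he : IsIso F e) {g : MulAut R}
    (hg : g ∈ Aplus F E R) : MulAut.congr e g ∈ Aplus F E R' := by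
  have h : (Aplus F E R).map (MulAut.congr e).toMonoidHom ≤ Aplus F E R' := by
    rw [Aplus, Subgroup.map_sup]
    refine sup_le_sup ?_ ?_
    · rintro _ ⟨a, ha, rfl⟩
      exact congr_mem_AE hE he ha
    · rintro _ ⟨a, ha, rfl⟩
      exact congr_Inn ha
  exact h ⟨g, hg, rfl⟩

/-! ### Elements of `R T` -/

theorem exists_rt (hT : F.StronglyClosed T) (hR : R ≤ S) {x : Ω} (hx : x ∈ R ⊔ T) :
    ∃ r ∈ R, ∃ t ∈ T, r * t = x := by
  have hn : R ≤ Subgroup.normalizer (T : Set Ω) := fun r hr =>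
    stronglyClosed_le_normalizer hT (hR hr)
  have hx' : x ∈ ((R ⊔ T : Subgroup Ω) : Set Ω) := hx
  rw [Subgroup.coe_mul_of_left_le_normalizer_right _ _ hn] at hx'
  exact hx'

theorem sup_le_S (hT : F.StronglyClosed T) (hR : R ≤ S) : R ⊔ T ≤ S := sup_le hR hT.1

theorem normalizerIn_le_normalizer_inf [Finite S] (hT : F.StronglyClosed T) :
    normalizerIn S R ≤ Subgroup.normalizer ((R ⊓ T : Subgroup Ω) : Set Ω) := fun x hx => by
  have := finite_of_le ((inf_le_right : R ⊓ T ≤ T).trans hT.1)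
  exact SatCriterion.mem_normalizer_of_finite fun y hy =>
    ⟨(Subgroup.mem_normalizer_iff.1 hx.2 y).1 hy.1,
      FusionFactor.conj_mem_of_stronglyClosed hT hx.1 hy.2⟩

theorem Tr.of_conj (hT : F.StronglyClosed T) (hR : R ≤ S) {t : Ω} (ht : t ∈ T) {c : MulAut R}
    (hc : ∀ x : R, (c x : Ω) = t * x * t⁻¹) : Tr T c := fun x => by
  rw [hc, show (x : Ω)⁻¹ * (t * x * t⁻¹) = (x : Ω)⁻¹ * t * ((x : Ω)⁻¹)⁻¹ * t⁻¹ by group]
  exact mul_mem (FusionFactor.conj_mem_of_stronglyClosed hT (inv_mem (hR x.2)) ht) (inv_mem ht)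

theorem autInducedBy_le_AE [Finite S] (hE : E.IsNormalIn F p) (hR : R ≤ S) :
    autInducedBy T R ≤ AE F E R := by
  intro c hc
  have hT := hE.1.2.2.2.1
  obtain ⟨t, ht, htN, htv⟩ := mem_autInducedBy_iff.1 hc
  have htn : t ∈ Subgroup.normalizer ((R ⊓ T : Subgroup Ω) : Set Ω) :=
    normalizerIn_le_normalizer_inf hT ⟨hT.1 ht, htN⟩
  exact ⟨autInducedBy_le_autGroup hR (autInducedBy_mono hT.1 R hc), Tr.of_conj hT hR ht htv,
    (R ⊓ T).normalizerMonoidHom ⟨t, htn⟩,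
    autInducedBy_le_autGroup inf_le_right (mem_autInducedBy_iff.2 ⟨t, ht, htn, fun _ => rfl⟩),
    fun x => htv ⟨x, x.2.1⟩⟩

/-- An element of `R T` normalizing `R` induces an element of `Aut_T(R) Inn(R)`. -/
theorem autInducedBy_sup_eq (hT : F.StronglyClosed T) (hR : R ≤ S) :
    autInducedBy (R ⊔ T) R = autInducedBy T R ⊔ Inn R := by
  refine le_antisymm (fun c hc => ?_)
    (sup_le (autInducedBy_mono le_sup_right R) (Inn_eq R ▸ autInducedBy_mono le_sup_left R))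
  obtain ⟨x, hx, hxN, hxv⟩ := mem_autInducedBy_iff.1 hc
  obtain ⟨r, hr, t, ht, rfl⟩ := exists_rt hT hR hx
  have htN : t ∈ Subgroup.normalizer (R : Set Ω) := by
    rw [← inv_mul_cancel_left r t]
    exact mul_mem (inv_mem (Subgroup.le_normalizer hr)) hxN
  rw [show c = R.normalizerMonoidHom ⟨r, Subgroup.le_normalizer hr⟩ *
      R.normalizerMonoidHom ⟨t, htN⟩ from MulEquiv.ext fun y => Subtype.ext (by
        rw [hxv]
        show r * t * (y : Ω) * (r * t)⁻¹ = r * (t * y * t⁻¹) * r⁻¹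
        group)]
  exact mul_mem
    (Subgroup.mem_sup_right (Inn_eq R ▸
      mem_autInducedBy_iff.2 ⟨r, hr, Subgroup.le_normalizer hr, fun _ => rfl⟩))
    (Subgroup.mem_sup_left (mem_autInducedBy_iff.2 ⟨t, ht, htN, fun _ => rfl⟩))

theorem autInducedBy_sup_le_Aplus [Finite S] (hE : E.IsNormalIn F p) (hR : R ≤ S) :
    autInducedBy (R ⊔ T) R ≤ Aplus F E R := by
  rw [autInducedBy_sup_eq hE.1.2.2.2.1 hR]
  exact sup_le_sup_right (autInducedBy_le_AE hE hR) _

/-- A map on a subgroup containing `R` carries induced automorphisms of `R T` to such. -/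
theorem congr_mem_autRT (hT : F.StronglyClosed T) (hR : R ≤ S) (hW : R ≤ W) {φ : W →* Ω}
    (hφ : φ ∈ F.Hom W) {e : R ≃* R'} (he : ∀ x : R, φ ⟨x, hW x.2⟩ = (e x : Ω)) {x : Ω}
    (hx : x ∈ W) (hxRT : x ∈ R ⊔ T) {c : MulAut R} (hc : ∀ r : R, (c r : Ω) = x * r * x⁻¹) :
    φ ⟨x, hx⟩ ∈ R' ⊔ T ∧ MulAut.congr e c ∈ autInducedBy (R' ⊔ T) R' := by
  obtain ⟨r, hr, t, ht, hrt⟩ := exists_rt hT hR hxRT
  have htW : t ∈ W := by
    rw [← inv_mul_cancel_left r t, hrt]
    exact W.mul_mem (W.inv_mem (hW hr)) hx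
  have hmem : φ ⟨x, hx⟩ ∈ R' ⊔ T := by
    rw [show (⟨x, hx⟩ : W) = ⟨r, hW hr⟩ * ⟨t, htW⟩ from Subtype.ext hrt.symm, map_mul]
    refine Subgroup.mul_mem_sup ?_ (stronglyClosed_apply hT hφ ht)
    rw [he ⟨r, hr⟩]
    exact Subtype.mem _
  refine ⟨hmem, Subgroup.subset_closure ⟨_, hmem, fun y => ?_⟩⟩
  obtain ⟨z, rfl⟩ := e.surjective y
  rw [congr_apply, ← he, ← he, ← map_inv, ← map_mul, ← map_mul]
  exact congrArg φ (Subtype.ext (hc z))

/-! ### Fully normalized subgroups -/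

variable [Finite S] [Fact p.Prime] (hS : IsPGroup p S) (hF : F.IsSaturated p)

include hS hF in
/-- A conjugate with fully normalized normalizer data into which a `p`-group of automorphisms is
carried. -/
theorem exists_iso_fullyNormalized (hW : W ≤ S) {Y : Subgroup (MulAut W)}
    (hY : Y ≤ F.autGroup W) (hYp : IsPGroup p Y) :
    ∃ (V : Subgroup Ω) (θ : W ≃* V), IsIso F θ ∧ F.IsFullyNormalized V ∧
      ∀ a ∈ Y, MulAut.congr θ a ∈ autInducedBy S V := by
  obtain ⟨V, hc, hV⟩ := exists_fullyNormalized (F := F) hW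
  obtain ⟨θ₀, hθ₀⟩ := isConj_iff.1 hc
  obtain ⟨γ, hγ, hγc⟩ := exists_conj_autInducedBy (automized_receptive hS hF hV).1
    (X := Y.map (MulAut.congr θ₀).toMonoidHom)
    (by
      rintro _ ⟨a, ha, rfl⟩
      exact congr_mem_autGroup hθ₀ (hY ha))
    (hYp.map _)
  refine ⟨V, θ₀.trans γ, hθ₀.trans ((mem_autGroup_iff hV.1).1 hγ), hV, fun a ha => ?_⟩
  rw [congr_trans, congr_self_eq]
  exact hγc _ ⟨a, ha, rfl⟩

include hS hF in
/-- The normalizers of conjugate fully normalized subgroups are isomorphic in the system. -/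
theorem exists_normalizer_iso (h : F.IsFullyNormalized R) (h' : F.IsFullyNormalized R')
    (hc : F.IsConj R R') :
    ∃ (e : R ≃* R') (χ : normalizerIn S R ≃* normalizerIn S R'), IsIso F e ∧ IsIso F χ ∧
      ∀ (x : R) (hx : (x : Ω) ∈ normalizerIn S R), (χ ⟨x, hx⟩ : Ω) = e x := by
  obtain ⟨ha, hr⟩ := automized_receptive hS hF h'
  obtain ⟨φ, hφ, hφN, himg⟩ := exists_map_normalizerIn hS ha hr hc
  have hRN : R ≤ normalizerIn S R := le_normalizerIn h.1
  obtain ⟨e, he, hev⟩ := Fusion.exists_iso (restrict_mem hφ hRN)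
    ((range_restrictHom φ hRN).trans himg)
  obtain ⟨χ, hχ, hχv⟩ := Fusion.exists_iso hφ (Q := normalizerIn S R') (by
    have := finite_of_le (normalizerIn_le S R')
    refine Subgroup.eq_of_le_of_card_ge (by rintro _ ⟨x, rfl⟩; exact hφN x) ?_
    rw [← imgHom_self, card_imgHom (F.injective_of_mem hφ) le_rfl]
    exact h.2 R' hc)
  exact ⟨e, χ, he, hχ, fun x hx => (hχv _).trans (hev x).symm⟩

omit [Finite S] in
theorem fullyNormalized_of_card (h : F.IsFullyNormalized R) (hc : F.IsConj R R')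
    (hle : Nat.card (normalizerIn S R) ≤ Nat.card (normalizerIn S R')) :
    F.IsFullyNormalized R' :=
  ⟨le_of_isConj_right hc, fun Q hQ => (h.2 Q (isConj_trans hc hQ)).trans hle⟩

include hS hF in
/-- Every class has a fully normalized member with fully normalized trace on `T`. -/
theorem exists_goodRep (hT : F.StronglyClosed T) (hR : R ≤ S) :
    ∃ R', F.IsConj R R' ∧ F.IsFullyNormalized R' ∧ F.IsFullyNormalized (R' ⊓ T) := by
  obtain ⟨R₁, hc₁, hR₁⟩ := exists_fullyNormalized (F := F) hR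
  obtain ⟨Q, hcQ, hQ⟩ := exists_fullyNormalized (F := F)
    ((inf_le_left : R₁ ⊓ T ≤ R₁).trans hR₁.1)
  obtain ⟨ha, hr⟩ := automized_receptive hS hF hQ
  obtain ⟨φ, hφ, -, himg⟩ := exists_map_normalizerIn hS ha hr hcQ
  have hle : normalizerIn S R₁ ≤ normalizerIn S (R₁ ⊓ T) := fun x hx =>
    ⟨hx.1, normalizerIn_le_normalizer_inf hT hx⟩
  have hRN : R₁ ≤ normalizerIn S R₁ := le_normalizerIn hR₁.1
  have hψ := restrict_mem hφ hle
  obtain ⟨R₂, hR₂⟩ : ∃ R₂, R₂ = imgHom (restrictHom φ hle) R₁ := ⟨_, rfl⟩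
  have hc₂ : F.IsConj R₁ R₂ := hR₂ ▸ isConj_restrict hψ hRN
  have hmap : ∀ x, restrictHom φ hle x ∈ normalizerIn S R₂ := fun x =>
    hR₂ ▸ SatCriterion.apply_mem_normalizerIn hψ hRN le_rfl x
  refine ⟨R₂, isConj_trans hc₁ hc₂,
    fullyNormalized_of_card hR₁ hc₂ (card_normalizerIn_le hψ hmap), ?_⟩
  suffices h : R₂ ⊓ T = Q from h ▸ hQ
  rw [← himg, hR₂]
  ext y
  constructor
  · rintro ⟨⟨x, hx, rfl⟩, hyT⟩
    exact ⟨Subgroup.inclusion hle x,
      ⟨hx, (stronglyClosed_apply_iff hT hψ).1 hyT⟩, rfl⟩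
  · rintro ⟨x, hx, rfl⟩
    refine ⟨⟨⟨x, hRN hx.1⟩, hx.1, rfl⟩, stronglyClosed_apply hT hφ hx.2⟩

include hS hF in
/-- The trace condition may be checked at a fully normalized trace. -/
theorem HT_of_centralizer (hT : F.StronglyClosed T) (hn : F.IsFullyNormalized (R ⊓ T))
    (hC : centralizerIn T (R ⊓ T) ≤ R ⊓ T) : HT F T R := by
  refine ⟨inf_le_right, fun Q hQ => ?_⟩
  by_contra hnot
  exact not_centralizer_le_fullyNormalized hS hF hT (isConj_symm hQ) hn hnot hC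

/-! ### The group `K2` -/

include hS in
theorem isPGroup_K2 (hR : R ≤ S) : IsPGroup p (K2 F T R) := by
  have := finite_of_le hR
  obtain ⟨n, hn⟩ := (isPGroup_of_le_S hS hR).exists_card_eq
  intro k
  refine ⟨n, Subtype.ext ?_⟩
  show (k : MulAut R) ^ p ^ n = 1
  refine FusionLayer.pow_eq_one_of_displacement (fun x => k.2.2.2 _ (k.2.2.1 x)) fun x => ?_
  exact hn ▸ pow_card_eq_one'

include hS hF in
theorem K2Inn_le_autInducedBy (hT : F.StronglyClosed T) (h : F.IsFullyNormalized R) :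
    K2 F T R ⊔ Inn R ≤ autInducedBy S R := by
  refine sup_le (fun k hk => ?_) (Inn_le_autInducedBy h.1)
  obtain ⟨α, hα, hαc⟩ := exists_conj_autInducedBy (automized_receptive hS hF h).1
    (X := K2 F T R) K2_le_autGroup (isPGroup_K2 hS h.1)
  have hk' : α⁻¹ * k * α ∈ K2 F T R := by
    have := congr_mem_K2 hT ((mem_autGroup_iff h.1).1 (inv_mem hα)) hk
    rwa [congr_self_eq, inv_inv] at this
  have := hαc _ hk'
  rwa [← mul_assoc, ← mul_assoc, mul_inv_cancel, one_mul, mul_inv_cancel_right] at this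

/-! ### The subgroup `ext1` -/

omit [Finite S] in
theorem le_ext1 : R ≤ ext1 F T R := le_kNormalizer le_sup_left le_sup_right

omit [Finite S] in
theorem ext1_le_sup : ext1 F T R ≤ R ⊔ T := kNormalizer_le _

omit [Finite S] in
theorem ext1_sup : ext1 F T R ⊔ T = R ⊔ T :=
  le_antisymm (sup_le ext1_le_sup le_sup_right) (sup_le_sup_right le_ext1 T)

omit [Finite S] in
theorem ext1_le_normalizerIn (hT : F.StronglyClosed T) (hR : R ≤ S) :
    ext1 F T R ≤ normalizerIn S R := fun x hx =>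
  ⟨sup_le_S hT hR (ext1_le_sup hx), (kNormalizer_le_normalizerIn _ hx).2⟩

include hS hF in
/-- Outside `HT` the subgroup `ext1` is bigger. -/
theorem lt_ext1 (hT : F.StronglyClosed T) (h : F.IsFullyNormalized R) (hH : ¬ HT F T R) :
    R < ext1 F T R := by
  obtain ⟨R', hc, hR', hR'T⟩ := exists_goodRep hS hF hT h.1
  have hC : ¬ centralizerIn T (R' ⊓ T) ≤ R' ⊓ T := fun hle =>
    hH ((HT_of_centralizer hS hF hT hR'T hle).of_isConj hT (isConj_symm hc))
  have hn : R' ≤ Subgroup.normalizer ((centralizerIn T (R' ⊓ T) : Subgroup Ω) : Set Ω) := by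
    intro r hr
    have := finite_of_le ((centralizerIn_le T (R' ⊓ T)).trans hT.1)
    refine SatCriterion.mem_normalizer_of_finite fun c hc => mem_centralizerIn'.2
      ⟨FusionFactor.conj_mem_of_stronglyClosed hT (hR'.1 hr) hc.1, fun y hy => ?_⟩
    have hrn := normalizerIn_le_normalizer_inf hT (le_normalizerIn hR'.1 hr)
    have h1 := (mem_centralizerIn'.1 hc).2 _ ((Subgroup.mem_normalizer_iff''.1 hrn y).1 hy)
    calc r * c * r⁻¹ * y * (r * c * r⁻¹)⁻¹ = r * (c * (r⁻¹ * y * r) * c⁻¹) * r⁻¹ := by group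
      _ = y := by rw [h1]; group
  obtain ⟨c, hcC, hcN, hcR⟩ := FusionLayer.Product.exists_normalizing hS
    ((centralizerIn_le T (R' ⊓ T)).trans hT.1) hR'.1 hn fun hle =>
      hC fun x hx => ⟨hle hx, hx.1⟩
  obtain ⟨e, χ, he, hχ, hv⟩ := exists_normalizer_iso hS hF hR' h (isConj_symm hc)
  have hk : R'.normalizerMonoidHom ⟨c, hcN.2⟩ ∈ K2 F T R' :=
    ⟨autInducedBy_le_autGroup hR'.1 (mem_autInducedBy_iff.2 ⟨c, hcN.1, hcN.2, fun _ => rfl⟩),
      Tr.of_conj hT hR'.1 hcC.1 fun _ => rfl,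
      fun x hx => Subtype.ext ((mem_centralizerIn'.1 hcC).2 x ⟨x.2, hx⟩)⟩
  have hχT : (χ ⟨c, hcN⟩ : Ω) ∈ T := stronglyClosed_apply hT hχ (x := ⟨c, hcN⟩) hcC.1
  refine lt_of_le_of_ne le_ext1 fun heq => hcR ?_
  have hmem : (χ ⟨c, hcN⟩ : Ω) ∈ ext1 F T R := by
    refine mem_kNormalizer.2 ⟨Subgroup.mem_sup_right hχT, _,
      Subgroup.mem_sup_left (congr_mem_K2 hT he hk), fun y => ?_⟩
    obtain ⟨x, rfl⟩ := e.surjective y
    have hRN : R' ≤ normalizerIn S R' := le_normalizerIn hR'.1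
    rw [congr_apply, ← hv _ (hRN (Subtype.mem _)), ← hv x (hRN x.2), ← Subgroup.coe_inv,
      ← Subgroup.coe_mul, ← Subgroup.coe_mul, ← map_inv, ← map_mul, ← map_mul]
    exact congrArg (fun z => (χ z : Ω)) (Subtype.ext rfl)
  rw [← heq] at hmem
  obtain ⟨x, hx⟩ := e.surjective ⟨_, hmem⟩
  have h1 : χ ⟨x, le_normalizerIn hR'.1 x.2⟩ = χ ⟨c, hcN⟩ :=
    Subtype.ext ((hv x _).trans (congrArg Subtype.val hx))
  have h2 : (x : Ω) = c := congrArg Subtype.val (χ.injective h1)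
  exact h2 ▸ x.2

include hS hF in
theorem exists_ext1_map (hT : F.StronglyClosed T) (h' : F.IsFullyNormalized R') {e : R ≃* R'}
    (he : IsIso F e) :
    ∃ ψ ∈ F.Hom (ext1 F T R),
      (∀ (x : R) (hx : (x : Ω) ∈ ext1 F T R), ψ ⟨x, hx⟩ = e x) ∧
        ∀ x, ψ x ∈ ext1 F T R' := by
  have hR := he.le_left
  obtain ⟨ψ, hψ, hψv⟩ := exists_extension (T := ext1 F T R) (automized_receptive hS hF h').2 he
    fun g hg => by
      obtain ⟨-, z, hz, hzv⟩ := mem_kNormalizer.1 hg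
      exact mem_extender_of_congr (ext1_le_normalizerIn hT hR hg) hzv
        (K2Inn_le_autInducedBy hS hF hT h' (congr_mem_K2Inn hT he hz))
  refine ⟨ψ, hψ, hψv, fun x => ?_⟩
  obtain ⟨hxRT, z, hz, hzv⟩ := mem_kNormalizer.1 x.2
  refine mem_kNormalizer.2 ⟨(congr_mem_autRT hT hR le_ext1 hψ (fun y => hψv y _) x.2 hxRT hzv).1,
    _, congr_mem_K2Inn hT he hz, fun y => ?_⟩
  obtain ⟨r, rfl⟩ := e.surjective y
  rw [congr_apply, ← hψv _ (le_ext1 (Subtype.mem _)), ← hψv r (le_ext1 r.2), ← map_inv,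
    ← map_mul, ← map_mul]
  exact congrArg ψ (Subtype.ext (hzv r))

include hS hF in
/-- An isomorphism between fully normalized subgroups extends to the subgroups `ext1`. -/
theorem exists_ext1_iso (hT : F.StronglyClosed T) (h : F.IsFullyNormalized R)
    (h' : F.IsFullyNormalized R') {e : R ≃* R'} (he : IsIso F e) :
    ∃ e₁ : ext1 F T R ≃* ext1 F T R', IsIso F e₁ ∧
      ∀ x : R, (e₁ ⟨x, le_ext1 x.2⟩ : Ω) = e x := by
  obtain ⟨ψ, hψ, hψv, hψm⟩ := exists_ext1_map hS hF hT h' he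
  obtain ⟨φ, hφ, -, hφm⟩ := exists_ext1_map hS hF hT h he.symm
  have := finite_of_le (le_left hφ)
  have := finite_of_le (le_left hψ)
  obtain ⟨e₁, he₁, hv⟩ := Fusion.exists_iso hψ (Q := ext1 F T R') (by
    refine Subgroup.eq_of_le_of_card_ge (by rintro _ ⟨x, rfl⟩; exact hψm x) ?_
    rw [← imgHom_self, card_imgHom (F.injective_of_mem hψ) le_rfl]
    exact Nat.card_le_card_of_injective (fun x => (⟨φ x, hφm x⟩ : ext1 F T R))
      fun a b hab => F.injective_of_mem hφ (congrArg Subtype.val hab))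
  exact ⟨e₁, he₁, fun x => (hv _).trans (hψv x _)⟩

end CfsgLib.FusionComponents
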