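import Cfsg.Agent.FusionComponents.Balance.Mod
import Cfsg.Agent.FusionComponents.SelfCentralizing
import Cfsg.Agent.FusionComponents.Mutual
import Cfsg.Agent.FusionLayer.CharPType
import Cfsg.Agent.FusionTransport.Components
import Cfsg.Agent.FusionTransport.Normal
import Cfsg.Agent.WeakClosed.Normalizer

/-!
# Components of normalizer systems live on the layer

If `C` is a component of `N_F(X)` then the subgroup underlying `C` lies in that of the layer of `F`.
-/

set_option autoImplicit false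

universe u

namespace CfsgLib.FusionComponents

open Cfsg Cfsg.FusionSystem CfsgLib.Fusion CfsgLib.FusionClosed

variable {Ω : Type u} [Group Ω] {S T U V X Z : Subgroup Ω} {F : FusionSystem S} {p : ℕ}

/-- A subgroup outside `X` normalized by `X` has elements outside `X` normalizing `X`. -/
theorem lt_sup_normalizerIn [Finite S] [Fact p.Prime] (hS : IsPGroup p S) {A : Subgroup Ω}
    (hA : F.StronglyClosed A) (hX : X ≤ S) (h : ¬ A ≤ X) : X < X ⊔ normalizerIn A X := by
  have hXA : X ⊔ A ≤ S := sup_le hX hA.1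
  have := finite_of_le hXA
  have hlt : X < X ⊔ A :=
    lt_of_le_of_ne le_sup_left fun e => h (le_sup_right.trans e.ge)
  obtain ⟨g, hg, hgX⟩ := SetLike.exists_of_lt (Fusion.lt_normalizerIn (hS.to_le hXA) hlt)
  obtain ⟨r, hr, t, ht, hrt⟩ := exists_rt hA hX hg.1
  have htn : t ∈ normalizerIn A X := by
    refine ⟨ht, ?_⟩
    rw [show t = r⁻¹ * g by rw [← hrt, inv_mul_cancel_left]]
    exact Subgroup.mul_mem _ (Subgroup.inv_mem _ (Subgroup.le_normalizer hr)) hg.2
  refine lt_of_le_of_ne le_sup_left fun e => hgX ?_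
  rw [← hrt]
  exact X.mul_mem hr (e.ge (Subgroup.mem_sup_right htn))

/-- Centralizer maps of a subsystem are centralizer maps. -/
theorem centralizerHom_mono {D : FusionSystem V} (hD : D.IsSubsystemOf F) (Z P : Subgroup Ω) :
    D.centralizerHom Z P ⊆ F.centralizerHom Z P := by
  have hle : centralizerIn V Z ≤ centralizerIn S Z :=
    inf_le_inf_right _ (le_of_isSubsystemOf hD)
  rintro φ ⟨hφ, hP, hv, ψ, hψ, h1, h2⟩
  exact ⟨hD P hφ, hP.trans hle, fun x => hle (hv x), ψ, hD _ hψ, h1, h2⟩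

section Norm

variable {N : FusionSystem (normalizerIn S X)} (hN : F.IsNormalizerSystem X N)

/-- Above `X`, centralizers in `N_S(X)` are centralizers in `S`. -/
theorem centralizerIn_normalizerIn (hXZ : X ≤ Z) :
    centralizerIn (normalizerIn S X) Z = centralizerIn S Z :=
  le_antisymm (inf_le_inf_right _ (normalizerIn_le S X)) fun _ hc =>
    ⟨centralizerIn_le_normalizerIn S X (centralizerIn_anti hXZ hc), hc.2⟩

include hN in
/-- Above `X`, the centralizer maps of `N_F(X)` are those of `F`. -/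
theorem centralizerHom_normSystem (hXZ : X ≤ Z) (hZN : Z ≤ normalizerIn S X) (P : Subgroup Ω) :
    N.centralizerHom Z P = F.centralizerHom Z P := by
  refine Set.Subset.antisymm (centralizerHom_mono (WeakClosed.normSystem_le hN) Z P) ?_
  rintro φ ⟨hφ, hP, hv, ψ, hψ, h1, h2⟩
  have hC := centralizerIn_normalizerIn (S := S) hXZ
  have hCN : centralizerIn S Z ≤ normalizerIn S X := hC.ge.trans inf_le_left
  have hψm : ψ ∈ N.Hom (P ⊔ Z) := WeakClosed.mem_normSystem hN hψ (hXZ.trans le_sup_right)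
    (sup_le (hP.trans hCN) hZN)
    (fun w => forall_mem_sup ψ le_sup_left le_sup_right
      (fun x hx => (h1 ⟨x, hx⟩).symm ▸ hCN (hv ⟨x, hx⟩))
      (fun x hx => (h2 ⟨x, hx⟩).symm ▸ hZN hx) w.2 w.2) (by
      ext y
      constructor
      · rintro ⟨x, hx, rfl⟩
        exact (h2 ⟨x, hXZ hx⟩).symm ▸ hx
      · exact fun hy => ⟨⟨y, Subgroup.mem_sup_right (hXZ hy)⟩, hy, h2 ⟨y, hXZ hy⟩⟩)
  exact ⟨mem_of_agree hψm le_sup_left fun x => (h1 x).symm, hP.trans hC.ge,
    fun x => hC.ge (hv x), ψ, hψm, h1, h2⟩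

variable [Finite S] [Fact p.Prime] (hS : IsPGroup p S) (hF : F.IsSaturated p)
  (hX : F.IsFullyNormalized X)
include hN hS hF hX

/-- A subgroup above `X` strongly closed in `N_F(X)` is fully centralized in `F`. -/
theorem isFullyCentralized_of_norm (hXZ : X ≤ Z) (hZs : N.StronglyClosed Z) :
    F.IsFullyCentralized Z := by
  have hZN := hZs.1
  have hZS := hZN.trans (normalizerIn_le S X)
  refine ⟨hZS, fun Q hQ => ?_⟩
  obtain ⟨φ, hφ, hφQ⟩ := hQ
  obtain ⟨X', hX'⟩ : ∃ X', X' = imgHom φ X := ⟨_, rfl⟩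
  have hc : F.IsConj X' X := isConj_symm (hX' ▸ isConj_restrict hφ hXZ)
  obtain ⟨ha, hr⟩ := automized_receptive hS hF hX
  obtain ⟨χ, hχ, hχN, himg⟩ := exists_map_normalizerIn hS ha hr hc
  have hQS : Q ≤ S := le_of_isConj_right ⟨φ, hφ, hφQ⟩
  have hφm : ∀ z : Z, φ z ∈ normalizerIn S X' := fun z =>
    ⟨apply_mem hφ z, by rw [hX']; exact map_mem_normalizer (ψ := φ) hXZ (hZN z.2).2⟩
  obtain ⟨ω, hω⟩ : ∃ ω, ω = χ.comp (φ.codRestrict _ hφm) := ⟨_, rfl⟩
  have hωF : ω ∈ F.Hom Z := hω ▸ F.comp_mem hφ hχ hφm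
  have hωX : imgHom ω X = X := by
    ext y
    constructor
    · rintro ⟨x, hx, rfl⟩
      rw [hω]
      exact himg.le ⟨⟨φ x, hφm x⟩, hX'.ge ⟨x, hx, rfl⟩, rfl⟩
    · intro hy
      obtain ⟨w, hw, rfl⟩ := himg.ge hy
      obtain ⟨x, hx, hxw⟩ := hX'.le hw
      refine ⟨x, hx, ?_⟩
      rw [hω]
      exact congrArg χ (Subtype.ext hxw)
  have hωN : ω ∈ N.Hom Z :=
    WeakClosed.mem_normSystem hN hωF hXZ hZN (fun x => hω ▸ hχN _) hωX
  have hωZ : ∀ x : Z, ω x ∈ Z := hZs.2 Z le_rfl ω hωN
  have := finite_of_le hZS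
  have hsurj : Function.Surjective fun x : Z => (⟨ω x, hωZ x⟩ : Z) :=
    Finite.injective_iff_surjective.1 fun a b h =>
      F.injective_of_mem hωF (congrArg Subtype.val h)
  have hcX : centralizerIn S Q ≤ normalizerIn S X' := by
    refine le_trans (centralizerIn_anti ?_) (centralizerIn_le_normalizerIn S X')
    rw [hX', ← hφQ]
    exact imgHom_le_range φ X
  have hmem : ∀ c : centralizerIn S Q, χ ⟨c, hcX c.2⟩ ∈ centralizerIn S Z := fun c => by
    refine mem_centralizerIn'.2 ⟨apply_mem hχ _, fun z hz => ?_⟩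
    obtain ⟨x, hx⟩ := hsurj ⟨z, hz⟩
    obtain rfl : ω x = z := congrArg Subtype.val hx
    rw [hω]
    show χ _ * χ ⟨φ x, hφm x⟩ * (χ _)⁻¹ = χ ⟨φ x, hφm x⟩
    rw [← map_inv, ← map_mul, ← map_mul]
    exact congrArg χ (Subtype.ext ((mem_centralizerIn'.1 c.2).2 _ (hφQ ▸ ⟨x, rfl⟩)))
  have := finite_of_le (centralizerIn_le S Z)
  exact Nat.card_le_card_of_injective (fun c => (⟨_, hmem c⟩ : centralizerIn S Z)) fun a b h =>
    Subtype.ext (congrArg Subtype.val (F.injective_of_mem hχ (congrArg Subtype.val h)) :)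

end Norm

variable [Finite S] [Fact p.Prime] (hS : IsPGroup p S) (hF : F.IsSaturated p)

include hS hF in
/-- A component of the centralizer system of a fully centralized subgroup is carried to a component
of the normalizer system of a fully normalized conjugate. -/
theorem component_le_transport (hT : F.StronglyClosed T) (hZ : F.IsFullyCentralized Z)
    (hV : V = centralizerIn S Z) {K : FusionSystem V}
    (hK : ∀ P, K.Hom P = F.centralizerHom Z P) {C : FusionSystem U} (hC : C.IsComponentIn K p)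
    (IH : ∀ {Z' : Subgroup Ω}, Nat.card Z' = Nat.card Z → F.IsFullyNormalized Z' →
      ∀ {N' : FusionSystem (normalizerIn S Z')}, F.IsNormalizerSystem Z' N' →
      ∀ {U' : Subgroup Ω} (C' : FusionSystem U'), C'.IsComponentIn N' p → U' ≤ T) : U ≤ T := by
  subst hV
  have hCS := centralizerIn_le S Z
  have := finite_of_le hCS
  have hUK : U ≤ centralizerIn S Z := FusionLayer.le_of_isSubnormalIn hC.1
  obtain ⟨Z', hc, hZ'⟩ := exists_fullyNormalized (F := F) hZ.1
  obtain ⟨ha, hr⟩ := automized_receptive hS hF hZ'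
  obtain ⟨φ, hφ, hφN, himg⟩ := exists_map_normalizerIn hS ha hr hc
  obtain ⟨W, hW⟩ : ∃ W, W = Z ⊔ centralizerIn S Z := ⟨_, rfl⟩
  have hWN : W ≤ normalizerIn S Z :=
    hW ▸ sup_le (le_normalizerIn hZ.1) (centralizerIn_le_normalizerIn S Z)
  have hZW : Z ≤ W := hW ▸ le_sup_left
  have hCW : centralizerIn S Z ≤ W := hW ▸ le_sup_right
  obtain ⟨e, he, hev⟩ := exists_iso_restrict hφ hWN
  have hZ'W : Z' ≤ imgHom φ W := himg ▸ Subgroup.map_mono fun x hx => hZW hx
  have heZ : ∀ w : W, (e w : Ω) ∈ Z' ↔ (w : Ω) ∈ Z := fun w => by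
    rw [hev, ← himg]
    exact mem_imgHom_apply_iff (F.injective_of_mem hφ) (x := ⟨w, hWN w.2⟩)
  obtain ⟨θ, hθ⟩ : ∃ θ, θ = restrictHom φ (hCW.trans hWN) := ⟨_, rfl⟩
  have hθe : ∀ (x : centralizerIn S Z), θ x = (e ⟨x, hCW x.2⟩ : Ω) := fun x => by
    rw [hθ, hev]; rfl
  have hθC : ∀ x, θ x ∈ centralizerIn S Z' := fun x => by
    refine mem_centralizerIn'.2 ⟨hθ ▸ apply_mem hφ _, fun z hz => ?_⟩
    obtain ⟨w, hw, rfl⟩ := himg.ge hz
    rw [hθ]
    show φ _ * φ w * (φ _)⁻¹ = φ w
    rw [← map_inv, ← map_mul, ← map_mul]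
    exact congrArg φ (Subtype.ext ((mem_centralizerIn'.1 x.2).2 _ hw))
  have hθinj : Function.Injective θ := fun a b h => by
    rw [hθ] at h
    exact Subtype.ext (congrArg Subtype.val (F.injective_of_mem hφ h) :)
  have hθr : θ.range = centralizerIn S Z' := by
    have := finite_of_le (centralizerIn_le S Z')
    refine Subgroup.eq_of_le_of_card_ge (by rintro _ ⟨x, rfl⟩; exact hθC x) ?_
    rw [← Nat.card_congr (MonoidHom.ofInjective hθinj).toEquiv]
    exact hZ.2 Z' hc
  have hC'W : centralizerIn S Z' ≤ imgHom φ W := fun y hy => by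
    obtain ⟨x, rfl⟩ := hθr.ge hy
    rw [hθe]
    exact (e _).2
  have heC : ∀ w : W, (w : Ω) ∈ centralizerIn S Z ↔ (e w : Ω) ∈ centralizerIn S Z' := by
    refine fun w => ⟨fun h => hθe ⟨w, h⟩ ▸ hθC _, fun h => ?_⟩
    obtain ⟨x, hx⟩ := hθr.ge h
    rw [hθe] at hx
    rw [← show (x : Ω) = w from congrArg Subtype.val (e.injective (Subtype.ext hx))]
    exact x.2
  obtain ⟨K', hK'⟩ := exists_isCentralizerSystem F hZ'.1
  have hiso : FusionTransport.IsSysIso K K' θ := by
    refine ⟨hθinj, hθr, fun P ψ hψ => ?_, fun P' ψ' hψ' => ?_⟩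
    · have hψF := (hK P).le hψ
      have hPC := hψF.2.1
      have hP'W : imageAlong θ P ≤ imgHom φ W :=
        ((FusionTransport.imageAlong_le_range P).trans hθr.le).trans hC'W
      obtain ⟨ψ', hψ', hv⟩ := FusionLayer.exists_centralizerHom_transport he hZW hCW hZ'W heZ hψF
        hP'W (fun y => by
          obtain ⟨x, hx, hxy⟩ := FusionTransport.mem_imageAlong.1 y.2
          rw [show (⟨y, hP'W y.2⟩ : imgHom φ W) = e ⟨x, hCW x.2⟩ from
            Subtype.ext (hxy ▸ hθe x), e.symm_apply_apply]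
          exact hx)
      refine ⟨ψ', (hK' _).ge hψ', hPC, hψF.2.2.1, fun x => ⟨⟨x, hPC x.2⟩, x.2, rfl⟩,
        fun x => ?_⟩
      refine ((hv _ (hCW (hψF.2.2.1 _))).trans ?_).trans (hθe _).symm
      refine congrArg (fun w : W => (e w : Ω)) (Subtype.ext (congrArg ψ (Subtype.ext ?_)))
      exact congrArg (fun w : W => (w : Ω)) ((MulEquiv.symm_apply_eq e).2 (Subtype.ext (hθe _)) :
        e.symm ⟨θ ⟨x, hPC x.2⟩, hC'W (hθC _)⟩ = ⟨(x : Ω), hCW (hPC x.2)⟩)
    · have hψF := (hK' P').le hψ'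
      have hPC := hψF.2.1
      have hmem : ∀ {x : Ω}, x ∈ preimageAlong θ P' → x ∈ W := fun {x} hx =>
        hCW (FusionFactor.mem_preimageAlong.1 hx).1
      obtain ⟨ψ, hψ, hv⟩ := FusionLayer.exists_centralizerHom_transport he.symm hZ'W hC'W hZW
        (fun y => by rw [← heZ, e.apply_symm_apply]) hψF (P' := preimageAlong θ P')
        (fun x hx => hmem hx) (fun x => by
          obtain ⟨h, hx⟩ := FusionFactor.mem_preimageAlong.1 x.2
          rw [hθe] at hx
          exact hx)
      refine ⟨ψ, (hK _).ge hψ, hψ.2.1, hψ.2.2.1,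
        fun x => (FusionFactor.mem_preimageAlong.1 x.2).2, fun x => ?_⟩
      have hC0 : (x : Ω) ∈ centralizerIn S Z := (FusionFactor.mem_preimageAlong.1 x.2).1
      have hxP : (e ⟨x, hCW hC0⟩ : Ω) ∈ P' :=
        hθe ⟨x, hC0⟩ ▸ (FusionFactor.mem_preimageAlong.1 x.2).2
      have hm : ψ' ⟨_, hxP⟩ ∈ imgHom φ W := hC'W (hψF.2.2.1 _)
      have hv' : (ψ x : Ω) = (e.symm ⟨_, hm⟩ : Ω) := hv x hm
      refine Eq.trans ?_ (hθe _).symm
      rw [show (⟨ψ x, hCW (hψ.2.2.1 x)⟩ : W) = e.symm ⟨_, hm⟩ from Subtype.ext hv',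
        e.apply_symm_apply]
      exact congrArg ψ' (Subtype.ext (hθe _))
  have hKp := hS.to_le hCS
  obtain ⟨hU, hsub⟩ := FusionTransport.isSubnormalIn_image hC.1 inferInstance hiso inferInstance hKp
  obtain ⟨C', hC'⟩ := FusionTransport.exists_restrict hiso hU C
  have := finite_of_le hU
  have hq := hC'.quasisimple (hKp.to_le hU) hC.2
  obtain ⟨N', hN'⟩ := exists_isNormalizerSystem F hZ'.1
  have hN's := isSaturated_normalizerSystem hS hF hZ' hN'
  have hN'p : IsPGroup p (normalizerIn S Z') := hS.to_le (normalizerIn_le S Z')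
  have := finite_of_le (normalizerIn_le S Z')
  have hV' := centralizerIn_normalizerIn (S := S) (le_refl Z')
  have hcomp : C'.IsComponentIn N' p := by
    refine ⟨.step (hsub hC') ?_, hq⟩
    have key : ∀ {V : Subgroup Ω} (hV : V = centralizerIn (normalizerIn S Z') Z')
        (L : FusionSystem V), (∀ P, L.Hom P = N'.centralizerHom Z' P) → L.IsNormalIn N' p := by
      rintro V rfl L hL
      exact FusionLayer.centralizerSystem_isNormalIn hN'p hN's
        (WeakClosed.normSystem_isNormal hZ'.1 hN') hL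
    exact key hV'.symm K' fun P => (hK' P).trans
      (centralizerHom_normSystem hN' le_rfl (le_normalizerIn hZ'.1) P).symm
  have hle := IH (card_eq_of_isConj hc).symm hZ' hN' C' hcomp
  intro u hu
  have h1 : θ ⟨u, hU hu⟩ ∈ T := hle ⟨⟨u, hU hu⟩, hu, rfl⟩
  rw [hθ] at h1
  exact (stronglyClosed_apply_iff hT hφ (x := ⟨u, hWN (hCW (hU hu))⟩)).1 h1

include hS hF in
/-- **The subgroup underlying a component of a normalizer system lies in that of the layer.** -/
theorem component_le_layer {E : FusionSystem T} (hE : E.IsLayerOf F p) :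
    ∀ (n : ℕ) {X : Subgroup Ω}, Nat.card S ≤ Nat.card X + n → F.IsFullyNormalized X →
      ∀ {N : FusionSystem (normalizerIn S X)}, F.IsNormalizerSystem X N →
      ∀ {U : Subgroup Ω} (C : FusionSystem U), C.IsComponentIn N p → U ≤ T := by
  intro n
  induction n using Nat.strong_induction_on with
  | _ n ih =>
    intro X hn hX N hN U C hC
    have hT := hE.1.1.2.2.2.1
    have hQ := FusionFactor.isNormal_core F
    have hXS := hX.1
    have hNS := normalizerIn_le S X
    have := finite_of_le hNS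
    have hNp : IsPGroup p (normalizerIn S X) := hS.to_le hNS
    have hNs := isSaturated_normalizerSystem hS hF hX hN
    have hUN : U ≤ normalizerIn S X := le_of_isSubsystemOf (isSubsystemOf_of_subnormal hC.1)
    have := finite_of_le hUN
    -- climbing to a larger subgroup
    have climb : ∀ {Z : Subgroup Ω}, X < Z → N.StronglyClosed Z →
        ∀ {K : FusionSystem (centralizerIn (normalizerIn S X) Z)}, N.IsCentralizerSystem Z K →
          C.IsComponentIn K p → U ≤ T := by
      intro Z hXZ hZs K hK hCK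
      refine component_le_transport hS hF hT
        (isFullyCentralized_of_norm hN hS hF hX hXZ.le hZs)
        (centralizerIn_normalizerIn hXZ.le)
        (fun P => (hK P).trans (centralizerHom_normSystem hN hXZ.le hZs.1 P)) hCK ?_
      intro Z' hcard hZ' N' hN' U' C' hC'
      have := finite_of_le (hZs.1.trans hNS)
      have h1 : Nat.card X < Nat.card Z := by
        by_contra hnlt
        exact hXZ.ne (Subgroup.eq_of_le_of_card_ge hXZ.le (not_lt.1 hnlt))
      have h2 : Nat.card Z ≤ Nat.card S := Subgroup.card_le_of_le (hZs.1.trans hNS)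
      exact ih (Nat.card S - Nat.card Z) (by omega) (by omega) hZ' hN' C' hC'
    have hXc : X ≤ N.core := le_sSup (WeakClosed.normSystem_isNormal hXS hN)
    by_cases hTX : T ≤ X
    swap
    · obtain ⟨O, hO, hOhyp, -⟩ := exists_balance_normal hS hE.1 hX hN
      rcases component_mutual hNp hC hO with h | ⟨hUZ, hCZ, hOU⟩
      · exact hC.2.2.1.ge.trans (hOhyp C h)
      · obtain ⟨Y, hY, hOY, hmax⟩ := exists_largest_centralized hNp hO
        obtain ⟨M, hM, -, hMK⟩ := exists_normal_centralizer' hNp hO hY hOY hmax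
        obtain ⟨K, hK⟩ := exists_isCentralizerSystem N hO.1.2.2.2.1.1
        rcases component_dichotomy hNp hC hM with h | ⟨-, hCY⟩
        · exact climb (lt_sup_normalizerIn hS hT hXS hTX) hO.1.2.2.2.1 hK
            (isComponentIn_of_normal (isComponentIn_of_le hNp hC hM h) (hMK K hK))
        · exact (not_centralized hC.2 (hmax U hUZ hOU) hCY).elim
    by_cases hQX : F.core ≤ X
    swap
    · obtain ⟨Z, hZ⟩ : ∃ Z, Z = X ⊔ normalizerIn F.core X := ⟨_, rfl⟩
      have hZN : Z ≤ normalizerIn S X :=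
        hZ ▸ sup_le (le_normalizerIn hXS) (inf_le_inf_right _ hQ.1)
      have hZn : N.IsNormal Z := by
        refine ⟨hZN, fun P φ hφ => ?_⟩
        obtain ⟨ω, hω, hωP, hωX⟩ := WeakClosed.normSystem_ext hN hφ
        obtain ⟨ψ, hψ, hψω, hψQ⟩ := exists_normal_extension hQ hω
        have hZQ : Z ≤ (P ⊔ X) ⊔ F.core :=
          hZ ▸ sup_le (le_sup_right.trans le_sup_left) (inf_le_left.trans le_sup_right)
        have hXD : X ≤ (P ⊔ X) ⊔ F.core := le_sup_right.trans le_sup_left
        have hψX : imgHom ψ X = X := by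
          refine Eq.trans ?_ hωX
          ext y
          constructor
          · rintro ⟨x, hx, rfl⟩
            exact ⟨⟨x, Subgroup.mem_sup_right hx⟩, hx,
              (hψω ⟨x, Subgroup.mem_sup_right hx⟩).symm⟩
          · rintro ⟨x, hx, rfl⟩
            exact ⟨⟨x, hXD hx⟩, hx, hψω x⟩
        have hle : P ⊔ Z ≤ (P ⊔ X) ⊔ F.core := sup_le (le_sup_left.trans le_sup_left) hZQ
        have hPN : P ≤ normalizerIn S X := le_left hφ
        have hXPZ : X ≤ P ⊔ Z := le_sup_of_le_right (hZ ▸ le_sup_left)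
        have hψZ : ∀ z (hz : z ∈ Z), ψ ⟨z, hZQ hz⟩ ∈ Z := fun z hz =>
          forall_mem_sup (restrictHom ψ hZQ) (A := X) (B := normalizerIn F.core X)
            (hZ ▸ le_sup_left) (hZ ▸ le_sup_right)
            (fun x hx => hZ.ge (Subgroup.mem_sup_left (hψX.le ⟨⟨x, hXD hx⟩, hx, rfl⟩)))
            (fun x hx => hZ.ge (Subgroup.mem_sup_right (show _ ∈ normalizerIn F.core X from
              ⟨hψQ.le ⟨⟨x, Subgroup.mem_sup_right hx.1⟩, hx.1, rfl⟩, by
                have h := map_mem_normalizer (ψ := ψ) hXD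
                  (g := ⟨x, Subgroup.mem_sup_right hx.1⟩) hx.2
                rwa [hψX] at h⟩)))
            hz (hZ ▸ hz)
        have hval : ∀ w : ↥(P ⊔ Z), restrictHom ψ hle w ∈ normalizerIn S X := fun w =>
          forall_mem_sup (restrictHom ψ hle) le_sup_left le_sup_right
            (fun x hx => by
              show ψ ⟨x, _⟩ ∈ _
              rw [show ψ ⟨x, hle (Subgroup.mem_sup_left hx)⟩ = φ ⟨x, hx⟩ from
                (hψω ⟨x, Subgroup.mem_sup_left hx⟩).trans (hωP ⟨x, hx⟩)]
              exact apply_mem hφ _)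
            (fun x hx => hZN (hψZ x hx)) w.2 w.2
        have hinj := F.injective_of_mem hψ
        refine ⟨restrictHom ψ hle, WeakClosed.mem_normSystem hN (restrict_mem hψ hle) hXPZ
          (sup_le hPN hZN) hval ?_, fun x => ?_, ?_⟩
        · refine Eq.trans ?_ hψX
          ext y
          constructor
          · rintro ⟨x, hx, rfl⟩
            exact ⟨⟨x, hle x.2⟩, hx, rfl⟩
          · rintro ⟨x, hx, rfl⟩
            exact ⟨⟨x, hXPZ hx⟩, hx, rfl⟩
        · exact (hψω ⟨x, Subgroup.mem_sup_left x.2⟩).trans (hωP x)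
        · have := finite_of_le (hZN.trans hNS)
          refine Subgroup.eq_of_le_of_card_ge ?_ (le_of_eq ?_)
          · rintro _ ⟨x, hx, rfl⟩
            exact hψZ x hx
          · exact (card_imgHom (φ := restrictHom ψ hle)
              (F.injective_of_mem (restrict_mem hψ hle)) le_sup_right).symm
      obtain ⟨K, hK⟩ := exists_isCentralizerSystem N hZN
      have hCK : C.IsSubsystemOf K := fun P χ hχ => (hK P).ge
        (centralizerHom_anti (le_sSup hZn) P (component_le_centralizerHom_core hNp hC P hχ))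
      exact climb (hZ ▸ lt_sup_normalizerIn hS (stronglyClosed_of_normal hQ) hXS hQX)
        (stronglyClosed_of_normal hZn) hK (isComponentIn_of_le hNp hC
          (FusionLayer.centralizerSystem_isNormalIn hNp hNs hZn hK) hCK)
    -- `X` contains the core and the subgroup of the layer
    obtain ⟨D, hDc, -, hDn, -⟩ := exists_core_mul_layer hS hF hE
    have := finite_of_le hDn.1.2.2.2.1.1
    have hQTX : F.core ⊔ T ≤ X := sup_le hQX hTX
    have hCQT : ∀ P, C.Hom P ⊆ F.centralizerHom (F.core ⊔ T) P := fun P χ hχ =>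
      centralizerHom_mono (WeakClosed.normSystem_le hN) _ _ (centralizerHom_anti
        (hQTX.trans hXc) P (component_le_centralizerHom_core hNp hC P hχ))
    have hUC : U ≤ centralizerIn S (F.core ⊔ T) :=
      (hCQT U (subtype_mem le_rfl)).2.1
    refine (not_centralized hC.2 ?_ hCQT).elim
    exact ((fitting_selfCentralizing hS hF (D := D) ⟨T, E, hE, hDc⟩).2 U hUC
      (le_centralizerHom_of_centralizes hS hDn hC.2.2.1 hCQT)).trans
      (FusionFactor.isCentral_center D).1

end CfsgLib.FusionComponents
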