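import Cfsg.Agent.FusionComponents.Balance.ExtendAux

/-!
# The family `J` is closed under restriction and extension

Both properties are proved together by induction on the index of the subgroup in `S`.
-/

set_option autoImplicit false
set_option linter.unusedSectionVars false

namespace CfsgLib.FusionComponents

open Cfsg Cfsg.FusionSystem CfsgLib.Fusion CfsgLib.FusionClosed

variable {Ω : Type*} [Group Ω] {S T : Subgroup Ω} {F : FusionSystem S} {E : FusionSystem T}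
  {R X : Subgroup Ω} {p : ℕ}

/-- Elements of order prime to `p` of `J R` extend inside `J`. -/
def ExtProp (F : FusionSystem S) (E : FusionSystem T) (p : ℕ) (R : Subgroup Ω) : Prop :=
  ∀ g ∈ J F E p R, (orderOf g).Coprime p → ∀ Q : Subgroup (MulAut R), Inn R ≤ Q →
    Q ≤ autInducedBy (R ⊔ T) R → (∀ z ∈ Q, g * z * g⁻¹ ∈ Q) →
      ∃ (hle : R ≤ kNormalizer (R ⊔ T) R Q), ∃ β ∈ J F E p (kNormalizer (R ⊔ T) R Q),
        (orderOf β).Coprime p ∧ Agrees hle g β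

/-- `J` is closed under restriction to `R`. -/
def ResProp (F : FusionSystem S) (E : FusionSystem T) (p : ℕ) (R : Subgroup Ω) : Prop :=
  ∀ (X : Subgroup Ω) (h : R ≤ X), X ≤ R ⊔ T → ∀ a ∈ J F E p X, ∀ b : MulAut R,
    Agrees h b a → b ∈ J F E p R

variable [Finite S] [Fact p.Prime] (hS : IsPGroup p S) (hE : E.IsNormalIn F p)
include hS hE

/-- Extension in `HT`. -/
theorem extProp_of_HT (hR : F.IsFullyNormalized R) (hH : HT F T R) : ExtProp F E p R := by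
  intro g hg hgp Q hI hQ hgQ
  have hF := hE.1.2.1
  have hT := hE.1.2.2.2.1
  obtain ⟨M, hM⟩ : ∃ M, M = kNormalizer (R ⊔ T) R Q := ⟨_, rfl⟩
  rw [← hM]
  have hRM : R ≤ M := hM ▸ le_kNormalizer le_sup_left hI
  refine ⟨hRM, ?_⟩
  have hMRT : M ≤ R ⊔ T := hM ▸ kNormalizer_le Q
  have hMS : M ≤ S := hMRT.trans (sup_le hR.1 hT.1)
  have := finite_of_le hMS
  have := finite_mulAut (V := M)
  have hMn : M ≤ normalizerIn S R := le_inf hMS
    (hM ▸ (kNormalizer_le_normalizerIn Q).trans inf_le_right)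
  have hgA : g ∈ AE F E R := mem_AE_of_coprime hS hE hR.1 (J_le_Aplus hS hE hg) hgp
  have hQS : Q ≤ autInducedBy S R := hQ.trans (autInducedBy_mono (sup_le hR.1 hT.1) R)
  obtain ⟨ψ, hψ, hψv⟩ := exists_extension (T := M) (automized_receptive hS hF hR).2
    ((mem_autGroup_iff hR.1).1 hgA.1) fun x hx => by
      obtain ⟨-, z, hz, hzv⟩ := mem_kNormalizer.1 (hM ▸ hx)
      refine mem_extender_of_congr (hMn hx) hzv ?_
      rw [congr_self_eq]
      exact hQS (hgQ z hz)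
  have hmem : ∀ x (hx : x ∈ M), ψ ⟨x, hx⟩ ∈ M := by
    intro x hx
    obtain ⟨-, z, hz, hzv⟩ := mem_kNormalizer.1 (hM ▸ hx)
    refine hM.ge (mem_kNormalizer.2
      ⟨(congr_mem_autRT hT hR.1 hRM hψ (fun r => hψv r _) hx (hMRT hx) hzv).1, g * z * g⁻¹,
        hgQ z hz, fun q => ?_⟩)
    obtain ⟨r, rfl⟩ := g.surjective q
    show (g (z (g⁻¹ (g r))) : Ω) = _
    rw [MulAut.inv_apply_self, ← hψv _ (hRM (Subtype.mem _)), ← hψv r (hRM r.2), ← map_inv,
      ← map_mul, ← map_mul]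
    exact congrArg ψ (Subtype.ext (hzv r))
  obtain ⟨ψ₀, hψ₀, hψ₀v⟩ := exists_aut_restrict hψ le_rfl fun x hx => hmem x hx
  obtain ⟨k, hk, hkg⟩ := FusionLayer.exists_coprime_pow hgp ψ₀
  have hagree : Agrees hRM g (ψ₀ ^ k) := by
    have h1 : Agrees hRM g ψ₀ := fun x => (hψ₀v _).trans (hψv x _)
    have h2 := h1.pow k
    rwa [hkg] at h2
  have hF' : ψ₀ ^ k ∈ F.autGroup M := pow_mem hψ₀ k
  refine ⟨ψ₀ ^ k, ?_, hk, hagree⟩
  generalize ψ₀ ^ k = β at hk hagree hF' ⊢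
  have hT' : ∀ x : M, (x : Ω) ∈ T → (β x : Ω) ∈ T := fun x hx =>
    stronglyClosed_apply hT ((mem_autGroup_iff hMS).1 hF') hx
  have htr : Tr T β := fun x => by
    obtain ⟨r, hr, t, ht, hrt⟩ := exists_rt hT hR.1 (hMRT x.2)
    have htM : t ∈ M := by
      rw [← inv_mul_cancel_left r t, hrt]
      exact M.mul_mem (M.inv_mem (hRM hr)) x.2
    rw [show x = ⟨r, hRM hr⟩ * ⟨t, htM⟩ from Subtype.ext hrt.symm, map_mul, Subgroup.coe_mul,
      Subgroup.coe_mul, hagree ⟨r, hr⟩,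
      show (r * t)⁻¹ * ((g ⟨r, hr⟩ : Ω) * (β ⟨t, htM⟩ : Ω)) =
        t⁻¹ * (r⁻¹ * (g ⟨r, hr⟩ : Ω)) * (β ⟨t, htM⟩ : Ω) by group]
    exact mul_mem (mul_mem (inv_mem ht) (hgA.2.1 ⟨r, hr⟩)) (hT' _ ht)
  obtain ⟨b, hb, hbg⟩ := hgA.2.2
  obtain ⟨b₀, hb₀, hb₀v⟩ := exists_aut_restrict ((mem_autGroup_iff hMS).1 hF')
    (inf_le_left : M ⊓ T ≤ M) fun x hx => ⟨(β ⟨x, hx.1⟩).2, hT' ⟨x, hx.1⟩ hx.2⟩
  have hb₀β : Agrees (inf_le_left : M ⊓ T ≤ M) b₀ β := fun x => (hb₀v x).symm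
  have hb₀E : b₀ ∈ E.autGroup (M ⊓ T) :=
    aut_mem_of_restrict hS hE (inf_le_inf_right T hRM) inf_le_right
      (fun x hx => normalizerIn_le_normalizer_inf hT (hMn hx.1)) hH hb₀ (hb₀β.coprime hk) hb
      fun x => (hb₀v ⟨x, inf_le_inf_right T hRM x.2⟩).trans
        ((hagree ⟨x, x.2.1⟩).trans (hbg x))
  exact (Gen.seed hMS (hH.of_le hT hRM) ⟨hF', htr, b₀, hb₀E, hb₀β⟩ hk).mem_J

variable (hup : ∀ V : Subgroup Ω, V ≤ S → Nat.card R < Nat.card V →
    ResProp F E p V ∧ (F.IsFullyNormalized V → ExtProp F E p V))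
include hup

/-- Extension outside `HT`, when `ext1` is fully normalized. -/
theorem extProp_of_not_HT (hR : F.IsFullyNormalized R) (hH : ¬ HT F T R)
    (hX : F.IsFullyNormalized (ext1 F T R)) : ExtProp F E p R := by
  intro g hg hgp Q hI hQ hgQ
  have hF := hE.1.2.1
  have hT := hE.1.2.2.2.1
  obtain ⟨X, hXd⟩ : ∃ X, X = ext1 F T R := ⟨_, rfl⟩
  rw [← hXd] at hX
  have hRX : R ≤ X := hXd ▸ le_ext1
  have hXRT : X ≤ R ⊔ T := hXd ▸ ext1_le_sup
  have hXsup : X ⊔ T = R ⊔ T := hXd ▸ ext1_sup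
  have hXS : X ≤ S := hX.1
  have hcard : Nat.card R < Nat.card X :=
    hXd ▸ card_lt_of_lt (lt_ext1 hS hF hT hR hH) (hXd ▸ hXS)
  have := finite_of_le hR.1
  have := finite_mulAut (V := R)
  have := finite_of_le hXS
  have := finite_mulAut (V := X)
  rw [J_eq_JB hS hE hR, mem_JB_of_not_HT hH] at hg
  obtain ⟨g₀, hg₀, hgg₀⟩ : ∃ a ∈ J F E p X, Agrees hRX g a := by
    subst hXd
    exact hg
  obtain ⟨k₀, hk₀, hk₀g⟩ := FusionLayer.exists_coprime_pow hgp g₀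
  have hgg₁ : Agrees hRX g (g₀ ^ k₀) := by
    have := hgg₀.pow k₀
    rwa [hk₀g] at this
  have hg₁ : g₀ ^ k₀ ∈ J F E p X := pow_mem hg₀ k₀
  generalize g₀ ^ k₀ = g₁ at hk₀ hgg₁ hg₁
  have hXN : X ≤ normalizerIn S R := hXd ▸ ext1_le_normalizerIn hT hR.1
  obtain ⟨Qp, hQp⟩ : ∃ Qp, Qp = Q ⊔ autInducedBy X R := ⟨_, rfl⟩
  have hQpT : Qp ≤ autInducedBy (R ⊔ T) R := hQp ▸ sup_le hQ (autInducedBy_mono hXRT R)
  have hIp : Inn R ≤ Qp := hQp ▸ hI.trans le_sup_left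
  have hgQp : g ∈ Subgroup.normalizer (Qp : Set (MulAut R)) := by
    refine SatCriterion.mem_normalizer_of_finite fun z hz => ?_
    suffices h : Qp.map (MulAut.conj g).toMonoidHom ≤ Qp from h ⟨z, hz, rfl⟩
    conv_lhs => rw [hQp, Subgroup.map_sup]
    refine hQp ▸ sup_le_sup ?_ ?_
    · rintro _ ⟨y, hy, rfl⟩
      exact hgQ y hy
    · rintro _ ⟨y, hy, rfl⟩
      obtain ⟨x, hx, -, hxv⟩ := mem_autInducedBy_iff.1 hy
      refine Subgroup.subset_closure ⟨_, (g₁ ⟨x, hx⟩).2, fun r => ?_⟩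
      obtain ⟨q, rfl⟩ := g.surjective r
      show (g (y (g⁻¹ (g q))) : Ω) = _
      rw [MulAut.inv_apply_self, ← hgg₁, ← hgg₁ q, ← Subgroup.coe_inv, ← Subgroup.coe_mul,
        ← Subgroup.coe_mul, ← map_inv, ← map_mul, ← map_mul]
      exact congrArg (fun w => (g₁ w : Ω)) (Subtype.ext (hxv q))
  obtain ⟨Mb, hMb⟩ : ∃ Mb, Mb = kNormalizer (R ⊔ T) R Qp := ⟨_, rfl⟩
  have hXMb : X ≤ Mb := fun x hx => hMb.ge (mem_kNormalizer.2 ⟨hXRT hx,
    R.normalizerMonoidHom ⟨x, (hXN hx).2⟩,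
    hQp ▸ Subgroup.mem_sup_right (mem_autInducedBy_iff.2 ⟨x, hx, (hXN hx).2, fun _ => rfl⟩),
    fun _ => rfl⟩)
  have hMbRT : Mb ≤ R ⊔ T := hMb ▸ kNormalizer_le Qp
  have hMbS : Mb ≤ S := hMbRT.trans (sup_le hR.1 hT.1)
  have hMbN : Mb ≤ normalizerIn S R := le_inf hMbS
    (hMb ▸ (kNormalizer_le_normalizerIn Qp).trans inf_le_right)
  have hMbn : Mb ≤ Subgroup.normalizer (X : Set Ω) :=
    hMbN.trans (hXd ▸ normalizerIn_le_normalizer_ext1 hS hE hR.1)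
  -- the automorphisms of `X` inducing elements of `Qp`
  let L : Subgroup (MulAut X) :=
    { carrier := {a | a ∈ J F E p X ∧ ∃ b ∈ Qp, Agrees hRX b a}
      one_mem' := ⟨one_mem _, 1, one_mem _, Agrees.one _⟩
      mul_mem' := fun ⟨ha, b, hb, hab⟩ ⟨ha', b', hb', hab'⟩ =>
        ⟨mul_mem ha ha', b * b', mul_mem hb hb', hab.mul hab'⟩
      inv_mem' := fun ⟨ha, b, hb, hab⟩ => ⟨inv_mem ha, b⁻¹, inv_mem hb, hab.inv⟩ }
  obtain ⟨K, hK⟩ : ∃ K, K = autInducedBy Mb X := ⟨_, rfl⟩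
  have hKT : K ≤ autInducedBy (X ⊔ T) X := hK ▸ autInducedBy_mono (hMbRT.trans hXsup.ge) X
  have hKL : K ≤ L := fun a ha => by
    obtain ⟨m, hm, -, hmv⟩ := mem_autInducedBy_iff.1 (hK ▸ ha)
    obtain ⟨-, z, hz, hzv⟩ := mem_kNormalizer.1 (hMb ▸ hm)
    exact ⟨autRT_le_J hS hE hXS (hKT ha), z, hz, fun x => (hmv _).trans (hzv x).symm⟩
  have hKp : IsPGroup p K := (isPGroup_autRT hS hE hXS).to_le hKT
  have hQpS : Qp ≤ autInducedBy S R := hQpT.trans (autInducedBy_mono (sup_le hR.1 hT.1) R)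
  have hKsyl : IsSylowIn p L K := by
    refine isSylowIn_of_card_max hKL hKp fun Y hY hYp => ?_
    obtain ⟨V, θ, hθ, hV, hθY⟩ := exists_conj_autRT hS hE hXS (fun y hy => (hY hy).1) hYp
    obtain ⟨eR, heR, heRv⟩ := exists_iso_restrict (φ := V.subtype.comp θ.toMonoidHom) hθ hRX
    have hVle := le_sup_of_iso hT hR.1 hRX hXRT hθ
    generalize hR'' : imgHom (V.subtype.comp θ.toMonoidHom) R = R'' at eR heR heRv hVle
    have hR''V : R'' ≤ V := hR'' ▸ (imgHom_le_range _ R).trans (range_subtype_comp θ).le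
    obtain ⟨W, hW⟩ : ∃ W, W = kNormalizer (R'' ⊔ T) R'' (Qp.map (MulAut.congr eR).toMonoidHom) :=
      ⟨_, rfl⟩
    have hR''S : R'' ≤ S := heR.le_right
    have hWS : W ≤ S := hW ▸ (kNormalizer_le _).trans (sup_le hR''S hT.1)
    have hVW : V ≤ W := fun v hv => by
      obtain ⟨y, hy⟩ := θ.surjective ⟨v, hv⟩
      obtain ⟨-, z, hz, hzv⟩ := mem_kNormalizer.1 (hMb ▸ hXMb y.2)
      refine hW.ge (mem_kNormalizer.2 ⟨hVle hv, _, ⟨z, hz, rfl⟩, fun r => ?_⟩)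
      obtain ⟨q, rfl⟩ := eR.surjective r
      show (MulAut.congr eR z (eR q) : Ω) = _
      rw [congr_apply, heRv, heRv, show v = (θ y : Ω) from (congrArg Subtype.val hy).symm]
      show (θ _ : Ω) = (θ y : Ω) * (θ _ : Ω) * (θ y : Ω)⁻¹
      rw [← Subgroup.coe_inv, ← Subgroup.coe_mul, ← Subgroup.coe_mul, ← map_inv, ← map_mul,
        ← map_mul]
      exact congrArg (fun w => (θ w : Ω)) (Subtype.ext (hzv q))
    obtain ⟨ψ, hψ, hψv⟩ := exists_extension (T := W) (automized_receptive hS hF hR).2 heR.symm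
      fun x hx => by
        obtain ⟨-, z', hz', hzv⟩ := mem_kNormalizer.1 (hW ▸ hx)
        refine mem_extender_of_congr
          ⟨hWS hx, (kNormalizer_le_normalizerIn _ (hW ▸ hx)).2⟩ hzv ?_
        obtain ⟨z, hz, rfl⟩ := hz'
        show MulAut.congr eR.symm (MulAut.congr eR z) ∈ _
        rw [congr_symm_congr]
        exact hQpS hz
    have hR''W : R'' ≤ W := hR''V.trans hVW
    have hψmem : ∀ x (hx : x ∈ W), ψ ⟨x, hx⟩ ∈ Mb := by
      intro x hx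
      obtain ⟨hxRT, z', hz', hzv⟩ := mem_kNormalizer.1 (hW ▸ hx)
      obtain ⟨z, hz, rfl⟩ := hz'
      refine hMb.ge (mem_kNormalizer.2
        ⟨(congr_mem_autRT hT hR''S hR''W hψ (fun r => hψv r _) hx hxRT hzv).1, z, hz, fun q => ?_⟩)
      have h1 : ∀ q : R, ψ ⟨(eR q : Ω), hR''W (eR q).2⟩ = (q : Ω) := fun q => by
        rw [hψv, MulEquiv.symm_apply_apply]
      rw [← h1, ← h1 q, ← map_inv, ← map_mul, ← map_mul]
      refine congrArg ψ (Subtype.ext ?_)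
      show (eR (z q) : Ω) = x * (eR q : Ω) * x⁻¹
      rw [← congr_apply z q]
      exact hzv (eR q)
    have hψV : (restrictHom ψ hVW).range = X := by
      refine Subgroup.eq_of_le_of_card_ge ?_ ?_
      · rintro _ ⟨⟨v, hv⟩, rfl⟩
        obtain ⟨y, hy⟩ := θ.surjective ⟨v, hv⟩
        obtain ⟨hyRT, z, hz, hzv⟩ := mem_kNormalizer.1 (hXd ▸ y.2 : (y : Ω) ∈ ext1 F T R)
        refine hXd.ge (mem_kNormalizer.2 ⟨hMbRT (hψmem v (hVW hv)), z, hz, fun q => ?_⟩)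
        have h1 : ∀ q : R, ψ ⟨(eR q : Ω), hR''W (eR q).2⟩ = (q : Ω) := fun q => by
          rw [hψv, MulEquiv.symm_apply_apply]
        show (z q : Ω) = ψ ⟨v, hVW hv⟩ * q * (ψ ⟨v, hVW hv⟩)⁻¹
        rw [← h1, ← h1 q, ← map_inv, ← map_mul, ← map_mul]
        refine congrArg ψ (Subtype.ext ?_)
        show (eR (z q) : Ω) = v * (eR q : Ω) * v⁻¹
        rw [heRv, heRv, show v = (θ y : Ω) from (congrArg Subtype.val hy).symm]
        show (θ _ : Ω) = (θ y : Ω) * (θ _ : Ω) * (θ y : Ω)⁻¹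
        rw [← Subgroup.coe_inv, ← Subgroup.coe_mul, ← Subgroup.coe_mul, ← map_inv, ← map_mul,
          ← map_mul]
        exact congrArg (fun w => (θ w : Ω)) (Subtype.ext (hzv q))
      · rw [← imgHom_self, card_imgHom (F.injective_of_mem (restrict_mem hψ hVW)) le_rfl]
        exact hθ.card_eq.le
    obtain ⟨δ, hδ, hδv⟩ := Fusion.exists_iso (restrict_mem hψ hVW) hψV
    refine Nat.card_le_card_of_injective
      (fun y : Y => (⟨MulAut.congr (θ.trans δ) (y : MulAut X), ?_⟩ : K))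
      fun a b hab => Subtype.ext ((MulAut.congr (θ.trans δ)).injective (congrArg Subtype.val hab))
    obtain ⟨x, hx, hxN, hxv⟩ := mem_autInducedBy_iff.1 (hθY y y.2)
    obtain ⟨hyJ, b, hb, hby⟩ := hY y.2
    have hxW : x ∈ W := by
      refine hW.ge (mem_kNormalizer.2
        ⟨sup_le hVle le_sup_right hx, _, ⟨b, hb, rfl⟩, fun r => ?_⟩)
      obtain ⟨q, rfl⟩ := eR.surjective r
      show (MulAut.congr eR b (eR q) : Ω) = _
      rw [congr_apply, heRv, heRv, show (⟨(b q : Ω), hRX (b q).2⟩ : X) =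
        (y : MulAut X) ⟨q, hRX q.2⟩ from Subtype.ext (hby q).symm]
      show (θ ((y : MulAut X) ⟨q, _⟩) : Ω) = _
      rw [← congr_apply (e := θ)]
      exact hxv _
    rw [hK]
    refine Subgroup.subset_closure ⟨ψ ⟨x, hxW⟩, hψmem x hxW, fun v => ?_⟩
    obtain ⟨u, rfl⟩ := δ.surjective v
    rw [congr_trans, congr_apply, hδv, hδv, restrictHom_apply, restrictHom_apply, ← map_inv,
      ← map_mul, ← map_mul]
    exact congrArg ψ (Subtype.ext (hxv u))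
  -- the Frattini argument
  have hg₁L : ∀ l ∈ L, g₁ * l * g₁⁻¹ ∈ L := fun l ⟨hl, b, hb, hbl⟩ =>
    ⟨mul_mem (mul_mem hg₁ hl) (inv_mem hg₁), g * b * g⁻¹,
      (Subgroup.mem_normalizer_iff.1 hgQp b).1 hb, (hgg₁.mul hbl).mul hgg₁.inv⟩
  obtain ⟨l, ⟨hlJ, bl, hbl, hlb⟩, hn⟩ := exists_normalizing_mul hKL hKsyl hg₁L
  obtain ⟨j, hj, hjg⟩ := exists_pow_coprime_mod (r := bl * g) hgQp
    (by rwa [mul_inv_cancel_right]) hgp (l * g₁)
  obtain ⟨n, hndef⟩ : ∃ n, n = (l * g₁) ^ j := ⟨_, rfl⟩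
  rw [← hndef] at hj
  have hnJ : n ∈ J F E p X := hndef ▸ pow_mem (mul_mem hlJ hg₁) j
  obtain ⟨q, hq⟩ : ∃ q, q = (bl * g) ^ j * g⁻¹ := ⟨_, rfl⟩
  rw [← hq] at hjg
  have hnq : Agrees hRX (q * g) n := by
    rw [hq, inv_mul_cancel_right, hndef]
    exact (hlb.mul hgg₁).pow j
  have hnN : ∀ z ∈ K, n * z * n⁻¹ ∈ K := fun z hz => by
    have hN : l * g₁ ∈ Subgroup.normalizer (K : Set (MulAut X)) :=
      SatCriterion.mem_normalizer_of_finite hn
    exact (Subgroup.mem_normalizer_iff.1 (hndef ▸ Subgroup.pow_mem _ hN j) z).1 hz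
  have hIX : Inn X ≤ K := by
    rw [hK, Inn_eq]
    exact autInducedBy_mono hXMb X
  obtain ⟨W, hW⟩ : ∃ W, W = kNormalizer (X ⊔ T) X K := ⟨_, rfl⟩
  have hext := (hup X hXS hcard).2 hX n hnJ hj K hIX hKT hnN
  rw [← hW] at hext
  obtain ⟨hXW, β, hβ, hβp, hβn⟩ := hext
  have hWMb : W = Mb := by
    refine le_antisymm (fun x hx => ?_) fun x hx => ?_
    · obtain ⟨hxXT, z, hz, hzv⟩ := mem_kNormalizer.1 (hW ▸ hx)
      obtain ⟨m, hm, -, hmv⟩ := mem_autInducedBy_iff.1 (hK ▸ hz)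
      obtain ⟨-, c, hc, hcv⟩ := mem_kNormalizer.1 (hMb ▸ hm)
      refine hMb.ge (mem_kNormalizer.2 ⟨hXsup ▸ hxXT, c, hc, fun r => ?_⟩)
      rw [hcv]
      exact (hmv ⟨r, hRX r.2⟩).symm.trans (hzv ⟨r, hRX r.2⟩)
    · exact hW.ge (mem_kNormalizer.2 ⟨hXsup.ge (hMbRT hx),
        X.normalizerMonoidHom ⟨x, hMbn hx⟩,
        hK ▸ mem_autInducedBy_iff.2 ⟨x, hx, hMbn hx, fun _ => rfl⟩, fun _ => rfl⟩)
  obtain ⟨m, hm, -, hmv⟩ := mem_autInducedBy_iff.1 (hQpT hjg)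
  have hmMb : m ∈ Mb := hMb.ge (mem_kNormalizer.2 ⟨hm, q, hjg, hmv⟩)
  subst hWMb
  have hRW : R ≤ W := hRX.trans hXMb
  have hcq : Agrees hRW q (W.normalizerMonoidHom ⟨m, Subgroup.le_normalizer hmMb⟩) :=
    fun x => (hmv x).symm
  obtain ⟨β₂, hβ₂def⟩ : ∃ b, b = (W.normalizerMonoidHom ⟨m, Subgroup.le_normalizer hmMb⟩)⁻¹ * β :=
    ⟨_, rfl⟩
  have hgβ₂ : Agrees hRW g β₂ := by
    have := hcq.inv.mul (hnq.trans hβn)
    rwa [inv_mul_cancel_left, ← hβ₂def] at this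
  have hβ₂ : β₂ ∈ J F E p W := hβ₂def ▸ mul_mem (inv_mem (autRT_le_J hS hE hMbS
    (mem_autInducedBy_iff.2
      ⟨m, Subgroup.mem_sup_left hmMb, Subgroup.le_normalizer hmMb, fun _ => rfl⟩))) hβ
  have := finite_of_le hMbS
  have := finite_mulAut (V := W)
  obtain ⟨i, hi, hig⟩ := FusionLayer.exists_coprime_pow hgp β₂
  have hgβ₃ : Agrees hRW g (β₂ ^ i) := by
    have := hgβ₂.pow i
    rwa [hig] at this
  have hβ₃ : β₂ ^ i ∈ J F E p W := pow_mem hβ₂ i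
  generalize β₂ ^ i = β₃ at hi hgβ₃ hβ₃
  obtain ⟨M, hM⟩ : ∃ M, M = kNormalizer (R ⊔ T) R Q := ⟨_, rfl⟩
  rw [← hM]
  have hRM : R ≤ M := hM ▸ le_kNormalizer le_sup_left hI
  refine ⟨hRM, ?_⟩
  have hMW : M ≤ W := fun x hx => by
    obtain ⟨hxRT, z, hz, hzv⟩ := mem_kNormalizer.1 (hM ▸ hx)
    exact hMb.ge (mem_kNormalizer.2 ⟨hxRT, z, hQp ▸ Subgroup.mem_sup_left hz, hzv⟩)
  have hmem : ∀ x (hx : x ∈ M), (β₃ ⟨x, hMW hx⟩ : Ω) ∈ M := by
    intro x hx
    obtain ⟨hxRT, z, hz, hzv⟩ := mem_kNormalizer.1 (hM ▸ hx)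
    refine hM.ge (mem_kNormalizer.2 ⟨hMbRT (Subtype.mem _), g * z * g⁻¹, hgQ z hz, fun q => ?_⟩)
    obtain ⟨r, rfl⟩ := g.surjective q
    show (g (z (g⁻¹ (g r))) : Ω) = _
    rw [MulAut.inv_apply_self, ← hgβ₃, ← hgβ₃ r, ← Subgroup.coe_inv, ← Subgroup.coe_mul,
      ← Subgroup.coe_mul, ← map_inv, ← map_mul, ← map_mul]
    exact congrArg (fun w => (β₃ w : Ω)) (Subtype.ext (hzv r))
  obtain ⟨b, -, hbv⟩ := exists_aut_restrict
    ((mem_autGroup_iff hMbS).1 (J_le_autGroup hS hE hβ₃)) hMW hmem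
  have hbβ : Agrees hMW b β₃ := fun x => (hbv x).symm
  have hgb : Agrees hRM g b := fun x => (hbv _).trans (hgβ₃ x)
  rcases hRM.eq_or_lt with heq | hlt
  · subst heq
    refine ⟨g, ?_, hgp, fun x => rfl⟩
    rw [J_eq_JB hS hE hR, mem_JB_of_not_HT hH]
    subst hXd
    exact ⟨g₁, hg₁, hgg₁⟩
  · have hMS : M ≤ S := hMW.trans hMbS
    refine ⟨b, (hup M hMS (card_lt_of_lt hlt hMS)).1 W hMW ?_ β₃ hβ₃ b hbβ, hbβ.coprime hi, hgb⟩
    exact hMbRT.trans (sup_le_sup_right hRM T)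

/-- **Extension.** -/
theorem extProp_step (hR : F.IsFullyNormalized R) : ExtProp F E p R := by
  have hF := hE.1.2.1
  have hT := hE.1.2.2.2.1
  by_cases hH : HT F T R
  · exact extProp_of_HT hS hE hR hH
  intro g hg hgp Q hI hQ hgQ
  have hRN : R ≤ normalizerIn S R := le_normalizerIn hR.1
  have hXS : ext1 F T R ≤ S := ext1_le_sup.trans (sup_le hR.1 hT.1)
  have hNn := normalizerIn_le_normalizer_ext1 hS hE hR.1
  obtain ⟨V, θ, hθ, hV, hθc⟩ := exists_iso_fullyNormalized hS hF hXS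
    (Y := autInducedBy (normalizerIn S R) (ext1 F T R))
    ((autInducedBy_mono (normalizerIn_le S R) _).trans (autInducedBy_le_autGroup hXS))
    (isPGroup_autInducedBy (hS.to_le (normalizerIn_le S R)) _)
  obtain ⟨Θ, hΘ, hΘv⟩ := exists_extension (T := normalizerIn S R)
    (automized_receptive hS hF hV).2 hθ fun x hx =>
      mem_extender_of_congr ⟨hx.1, hNn hx⟩
        (α := (ext1 F T R).normalizerMonoidHom ⟨x, hNn hx⟩) (fun _ => rfl)
        (hθc _ (mem_autInducedBy_iff.2 ⟨x, hx, hNn hx, fun _ => rfl⟩))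
  obtain ⟨R', hR'd⟩ : ∃ R', R' = imgHom Θ R := ⟨_, rfl⟩
  have hc : F.IsConj R R' := hR'd ▸ isConj_restrict hΘ hRN
  have hΘN : ∀ x, Θ x ∈ normalizerIn S R' := fun x =>
    hR'd ▸ SatCriterion.apply_mem_normalizerIn hΘ hRN le_rfl x
  have hR' : F.IsFullyNormalized R' :=
    fullyNormalized_of_card hR hc (card_normalizerIn_le hΘ hΘN)
  obtain ⟨χ, hχ, hχv⟩ := Fusion.exists_iso hΘ (Q := normalizerIn S R') (by
    have := finite_of_le (normalizerIn_le S R')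
    refine Subgroup.eq_of_le_of_card_ge (by rintro _ ⟨x, rfl⟩; exact hΘN x) ?_
    rw [← imgHom_self, card_imgHom (F.injective_of_mem hΘ) le_rfl]
    exact hR.2 R' hc)
  obtain ⟨e, he, hev⟩ := Fusion.exists_iso (restrict_mem hΘ hRN)
    ((range_restrictHom Θ hRN).trans hR'd.symm)
  have hv : ∀ (x : R) (hx : (x : Ω) ∈ normalizerIn S R), (χ ⟨x, hx⟩ : Ω) = e x :=
    fun x hx => (hχv _).trans (hev x).symm
  obtain ⟨eX, heX, heXv⟩ := exists_kNormalizer_iso hS hE hR.1 hR'.1 hχ hv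
    (Q := K2 F T R ⊔ Inn R) (Q' := K2 F T R' ⊔ Inn R') (le_antisymm
      (by rintro _ ⟨a, ha, rfl⟩; exact congr_mem_K2Inn hT he ha)
      fun a ha => ⟨MulAut.congr e.symm a, congr_mem_K2Inn hT he.symm ha,
        (MulAut.congr e).apply_symm_apply a⟩)
  have hVeq : ext1 F T R' = V := by
    have h1 : ∀ x : ext1 F T R, (eX x : Ω) = θ x := fun x => by
      rw [heXv x (ext1_le_normalizerIn hT hR.1 x.2), hχv]
      exact hΘv x _
    refine le_antisymm (fun y hy => ?_) fun y hy => ?_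
    · obtain ⟨x, hx⟩ := eX.surjective ⟨y, hy⟩
      rw [show y = (θ x : Ω) from (congrArg Subtype.val hx).symm.trans (h1 x)]
      exact Subtype.mem _
    · obtain ⟨x, hx⟩ := θ.surjective ⟨y, hy⟩
      rw [show y = (eX x : Ω) from (congrArg Subtype.val hx).symm.trans (h1 x).symm]
      exact (eX x).2
  have hH' : ¬ HT F T R' := fun h => hH (h.of_isConj hT (isConj_symm hc))
  have hcard : Nat.card R' = Nat.card R := (card_eq_of_isConj hc).symm
  obtain ⟨eM, heM, heMv⟩ := exists_kNormalizer_iso hS hE hR.1 hR'.1 hχ hv (Q := Q) rfl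
  obtain ⟨hle', β, hβ, hβp, hgβ⟩ := extProp_of_not_HT hS hE
    (fun W hW hlt => hup W hW (hcard ▸ hlt)) hR' hH' (hVeq.symm ▸ hV)
    (MulAut.congr e g) (congr_mem_J he hg)
    (by rwa [show orderOf (MulAut.congr e g) = orderOf g from
      orderOf_injective (MulAut.congr e).toMonoidHom (MulAut.congr e).injective g])
    (Q.map (MulAut.congr e).toMonoidHom)
    (fun y hy => ⟨MulAut.congr e.symm y, hI (congr_Inn hy),
      (MulAut.congr e).apply_symm_apply y⟩)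
    (by
      rintro _ ⟨z, hz, rfl⟩
      obtain ⟨x, hx, hxN, hxv⟩ := mem_autInducedBy_iff.1 (hQ hz)
      exact (congr_mem_autRT hT hR.1 hRN hχ (fun r => hv r _) (x := x)
        ⟨sup_le hR.1 hT.1 hx, hxN⟩ hx hxv).2)
    (by
      rintro _ ⟨z, hz, rfl⟩
      refine ⟨g * z * g⁻¹, hgQ z hz, ?_⟩
      show MulAut.congr e (g * z * g⁻¹) = MulAut.congr e g * MulAut.congr e z * _
      rw [map_mul, map_mul, map_inv])
  have hle : R ≤ kNormalizer (R ⊔ T) R Q := le_kNormalizer le_sup_left hI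
  refine ⟨hle, MulAut.congr eM.symm β, congr_mem_J heM.symm hβ, ?_, ?_⟩
  · rwa [show orderOf (MulAut.congr eM.symm β) = orderOf β from
      orderOf_injective (MulAut.congr eM.symm).toMonoidHom (MulAut.congr eM.symm).injective β]
  · have h1 := hgβ.congr (h' := hle) (e := eM.symm) (e₀ := e.symm) fun y => by
      obtain ⟨r, rfl⟩ := e.surjective y
      rw [MulEquiv.symm_apply_apply, show (⟨(e r : Ω), hle' (e r).2⟩ :
        kNormalizer (R' ⊔ T) R' (Q.map (MulAut.congr e).toMonoidHom)) = eM ⟨r, hle r.2⟩ from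
          Subtype.ext (by rw [heMv _ (hRN r.2)]; exact (hv r _).symm), MulEquiv.symm_apply_apply]
    rwa [congr_symm_congr] at h1

/-- Restriction of elements of order prime to `p` from a subgroup normalizing `R`. -/
theorem res_of_coprime (hR : F.IsFullyNormalized R) (hRX : R ≤ X) (hlt : R < X)
    (hX : X ≤ R ⊔ T) (hn : X ≤ normalizerIn S R) {a : MulAut X} (ha : a ∈ J F E p X)
    (hap : (orderOf a).Coprime p) {b : MulAut R} (hab : Agrees hRX b a)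
    (hbig : ∀ (R' Y : Subgroup Ω) (h : R' ≤ Y), Nat.card R' = Nat.card R →
      Nat.card X < Nat.card Y → Y ≤ R' ⊔ T → Y ≤ normalizerIn S R' →
        ∀ a ∈ J F E p Y, ∀ b : MulAut R', Agrees h b a →
        b ∈ J F E p R') :
    b ∈ J F E p R := by
  have hF := hE.1.2.1
  have hT := hE.1.2.2.2.1
  have hXS : X ≤ S := hn.trans (normalizerIn_le S R)
  have hbp := hab.coprime hap
  by_cases hH : HT F T R
  · obtain ⟨g, hg, hgb⟩ := exists_restrict_AE hE hRX hXS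
      (mem_AE_of_coprime hS hE hXS (J_le_Aplus hS hE ha) hap) fun x => (hab x).symm ▸ (b x).2
    exact (Gen.seed hR.1 hH (hgb.unique hab ▸ hg) hbp).mem_J
  have := finite_of_le hR.1
  have := finite_mulAut (V := R)
  have := finite_of_le hXS
  have := finite_mulAut (V := X)
  have hbF : b ∈ F.autGroup R := (mem_autGroup_iff hR.1).2 (mem_of_agree
    ((mem_autGroup_iff hXS).1 (J_le_autGroup hS hE ha)) hRX fun x => (hab x).symm)
  obtain ⟨e₁, he₁, he₁v⟩ := exists_ext1_iso hS hF hT hR hR ((mem_autGroup_iff hR.1).1 hbF)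
  by_cases hle : ext1 F T R ≤ X
  · have hmem : ∀ x (hx : x ∈ ext1 F T R), (a ⟨x, hle hx⟩ : Ω) ∈ ext1 F T R := by
      intro x hx
      obtain ⟨-, z, hz, hzv⟩ := mem_kNormalizer.1 hx
      refine mem_kNormalizer.2 ⟨hX (Subtype.mem _), b * z * b⁻¹, ?_, fun q => ?_⟩
      · rw [← congr_self_eq]
        exact congr_mem_K2Inn hT ((mem_autGroup_iff hR.1).1 hbF) hz
      · obtain ⟨r, rfl⟩ := b.surjective q
        show (b (z (b⁻¹ (b r))) : Ω) = _
        rw [MulAut.inv_apply_self, ← hab, ← hab r, ← Subgroup.coe_inv, ← Subgroup.coe_mul,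
          ← Subgroup.coe_mul, ← map_inv, ← map_mul, ← map_mul]
        exact congrArg (fun w => (a w : Ω)) (Subtype.ext (hzv r))
    obtain ⟨a₀, -, ha₀v⟩ := exists_aut_restrict
      ((mem_autGroup_iff hXS).1 (J_le_autGroup hS hE ha)) hle hmem
    have hXS' : ext1 F T R ≤ S := hle.trans hXS
    have h1 := (hup _ hXS' (card_lt_of_lt (lt_ext1 hS hF hT hR hH) hXS')).1 X hle
      (hX.trans ext1_sup.ge) a ha a₀ fun x => (ha₀v x).symm
    exact JB_le_J hS hE hR ((mem_JB_of_not_HT hH).2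
      ⟨a₀, h1, fun x => (ha₀v _).trans (hab x)⟩)
  -- the group induced by `X` and `ext1`
  obtain ⟨W₀, hW₀⟩ : ∃ W₀, W₀ = X ⊔ ext1 F T R := ⟨_, rfl⟩
  have hW₀RT : W₀ ≤ R ⊔ T := hW₀ ▸ sup_le hX ext1_le_sup
  have hW₀N : W₀ ≤ normalizerIn S R := hW₀ ▸ sup_le hn (ext1_le_normalizerIn hT hR.1)
  obtain ⟨Qy, hQy⟩ : ∃ Qy, Qy = autInducedBy W₀ R := ⟨_, rfl⟩
  have hQyJ : Qy ≤ J F E p R :=
    hQy ▸ (autInducedBy_mono hW₀RT R).trans (autRT_le_J hS hE hR.1)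
  have hQymap : ∀ {Z : Subgroup Ω} (hRZ : R ≤ Z) (c : MulAut Z), Agrees hRZ b c → Z ≤ W₀ →
      Z ≤ normalizerIn S R → ∀ y ∈ autInducedBy Z R, b * y * b⁻¹ ∈ Qy := by
    intro Z hRZ c hbc hZ hZN y hy
    obtain ⟨x, hx, -, hxv⟩ := mem_autInducedBy_iff.1 hy
    rw [hQy]
    refine Subgroup.subset_closure ⟨_, hZ (c ⟨x, hx⟩).2, fun r => ?_⟩
    obtain ⟨q, rfl⟩ := b.surjective r
    show (b (y (b⁻¹ (b q))) : Ω) = _
    rw [MulAut.inv_apply_self, ← hbc, ← hbc q, ← Subgroup.coe_inv, ← Subgroup.coe_mul,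
      ← Subgroup.coe_mul, ← map_inv, ← map_mul, ← map_mul]
    exact congrArg (fun w => (c w : Ω)) (Subtype.ext (hxv q))
  let f : ↥(normalizerIn S R) →* MulAut R :=
    R.normalizerMonoidHom.comp (Subgroup.inclusion inf_le_right)
  have hbQy : b ∈ Subgroup.normalizer (Qy : Set (MulAut R)) := by
    refine SatCriterion.mem_normalizer_of_finite fun y hy => ?_
    have hsup : Qy ≤ autInducedBy X R ⊔ autInducedBy (ext1 F T R) R := by
      rw [hQy]
      intro z hz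
      obtain ⟨x, hx, hxN, hxv⟩ := mem_autInducedBy_iff.1 hz
      have hle' : W₀ ≤ ((autInducedBy X R ⊔ autInducedBy (ext1 F T R) R).comap f).map
          (normalizerIn S R).subtype := by
        rw [hW₀]
        exact sup_le
          (fun w hw => ⟨⟨w, hn hw⟩, Subgroup.mem_sup_left
            (mem_autInducedBy_iff.2 ⟨w, hw, (hn hw).2, fun _ => rfl⟩), rfl⟩)
          fun w hw => ⟨⟨w, ext1_le_normalizerIn hT hR.1 hw⟩, Subgroup.mem_sup_right
            (mem_autInducedBy_iff.2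
              ⟨w, hw, (ext1_le_normalizerIn hT hR.1 hw).2, fun _ => rfl⟩), rfl⟩
      obtain ⟨w, hw, rfl⟩ := hle' hx
      rwa [show z = f w from MulEquiv.ext fun r => Subtype.ext (hxv r)]
    suffices h : (autInducedBy X R ⊔ autInducedBy (ext1 F T R) R).map
        (MulAut.conj b).toMonoidHom ≤ Qy from h ⟨y, hsup hy, rfl⟩
    rw [Subgroup.map_sup]
    refine sup_le ?_ ?_
    · rintro _ ⟨z, hz, rfl⟩
      exact hQymap hRX a hab (hW₀ ▸ le_sup_left) hn z hz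
    · rintro _ ⟨z, hz, rfl⟩
      exact hQymap le_ext1 e₁ (fun x => he₁v x) (hW₀ ▸ le_sup_right)
        (ext1_le_normalizerIn hT hR.1) z hz
  let L : Subgroup (MulAut X) :=
    { carrier := {c | c ∈ J F E p X ∧ ∃ d ∈ Qy, Agrees hRX d c}
      one_mem' := ⟨one_mem _, 1, one_mem _, Agrees.one _⟩
      mul_mem' := fun ⟨hc, d, hd, hcd⟩ ⟨hc', d', hd', hcd'⟩ =>
        ⟨mul_mem hc hc', d * d', mul_mem hd hd', hcd.mul hcd'⟩
      inv_mem' := fun ⟨hc, d, hd, hcd⟩ => ⟨inv_mem hc, d⁻¹, inv_mem hd, hcd.inv⟩ }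
  obtain ⟨N, hN⟩ : ∃ N, N = normalizerIn W₀ X := ⟨_, rfl⟩
  have hXW₀ : X ≤ W₀ := hW₀ ▸ le_sup_left
  have hW₀S : W₀ ≤ S := hW₀N.trans (normalizerIn_le S R)
  have hXN : X < N := by
    have := finite_of_le hW₀S
    refine hN ▸ lt_normalizerIn (hS.to_le hW₀S) (lt_of_le_of_ne hXW₀ fun h => hle ?_)
    rw [h, hW₀]
    exact le_sup_right
  have hNW₀ : N ≤ W₀ := hN ▸ normalizerIn_le W₀ X
  have hNn : N ≤ Subgroup.normalizer (X : Set Ω) := hN ▸ inf_le_right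
  have hNS : N ≤ S := hNW₀.trans hW₀S
  have hXsup : R ⊔ T ≤ X ⊔ T := sup_le_sup_right hRX T
  have hAL : autInducedBy N X ≤ L := fun c hc => by
    obtain ⟨x, hx, -, hxv⟩ := mem_autInducedBy_iff.1 hc
    refine ⟨autRT_le_J hS hE hXS (autInducedBy_mono ((hNW₀.trans hW₀RT).trans hXsup) X hc),
      f ⟨x, hW₀N (hNW₀ hx)⟩, ?_, fun r => hxv ⟨r, hRX r.2⟩⟩
    exact hQy ▸ mem_autInducedBy_iff.2 ⟨x, hNW₀ hx, (hW₀N (hNW₀ hx)).2, fun _ => rfl⟩
  obtain ⟨K, hKL, hAK, hKp, hK⟩ :=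
    SatCriterion.exists_sylowIn_ge hAL (isPGroup_autInducedBy (hS.to_le hNS) X)
  have haL : ∀ l ∈ L, a * l * a⁻¹ ∈ L := fun l ⟨hl, d, hd, hld⟩ =>
    ⟨mul_mem (mul_mem ha hl) (inv_mem ha), b * d * b⁻¹,
      (Subgroup.mem_normalizer_iff.1 hbQy d).1 hd, (hab.mul hld).mul hab.inv⟩
  obtain ⟨l, ⟨hlJ, bl, hbl, hlb⟩, hn'⟩ := exists_normalizing_mul hKL hK haL
  obtain ⟨j, hj, hjb⟩ := exists_pow_coprime_mod (r := bl * b) hbQy
    (by rwa [mul_inv_cancel_right]) hbp (l * a)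
  suffices hkey : (bl * b) ^ j ∈ J F E p R by
    rw [show b = ((bl * b) ^ j * b⁻¹)⁻¹ * (bl * b) ^ j by group]
    exact mul_mem (inv_mem (hQyJ hjb)) hkey
  obtain ⟨n, hndef⟩ : ∃ n, n = (l * a) ^ j := ⟨_, rfl⟩
  rw [← hndef] at hj
  have hnJ : n ∈ J F E p X := hndef ▸ pow_mem (mul_mem hlJ ha) j
  have hnb : Agrees hRX ((bl * b) ^ j) n := hndef ▸ (hlb.mul hab).pow j
  have hnN : ∀ z ∈ K, n * z * n⁻¹ ∈ K := fun z hz => by
    have hN' : l * a ∈ Subgroup.normalizer (K : Set (MulAut X)) :=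
      SatCriterion.mem_normalizer_of_finite hn'
    exact (Subgroup.mem_normalizer_iff.1 (hndef ▸ Subgroup.pow_mem _ hN' j) z).1 hz
  generalize (bl * b) ^ j = c at hnb ⊢
  obtain ⟨V, θ, hθ, hV, hθc⟩ := exists_conj_autRT hS hE hXS (fun z hz => (hKL hz).1) hKp
  obtain ⟨M, hM⟩ : ∃ M, M = kNormalizer (V ⊔ T) V (K.map (MulAut.congr θ).toMonoidHom) :=
    ⟨_, rfl⟩
  have hIV : Inn V ≤ K.map (MulAut.congr θ).toMonoidHom := fun y hy =>
    ⟨MulAut.congr θ.symm y, hAK (autInducedBy_mono hXN.le X (Inn_eq X ▸ congr_Inn hy)),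
      (MulAut.congr θ).apply_symm_apply y⟩
  have hcardV : Nat.card R < Nat.card V := (card_lt_of_lt hlt hXS).trans_le hθ.card_eq.le
  obtain ⟨hVM, β, hβ, -, hβn⟩ : ∃ (h : V ≤ M), ∃ β ∈ J F E p M, (orderOf β).Coprime p ∧
      Agrees h (MulAut.congr θ n) β := by
    rw [hM]
    refine (hup V hV.1 hcardV).2 hV _ (congr_mem_J hθ hnJ) ?_ _ hIV ?_ ?_
    · rwa [show orderOf (MulAut.congr θ n) = orderOf n from
        orderOf_injective (MulAut.congr θ).toMonoidHom (MulAut.congr θ).injective n]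
    · rintro _ ⟨z, hz, rfl⟩
      exact hθc z hz
    · rintro _ ⟨z, hz, rfl⟩
      refine ⟨n * z * n⁻¹, hnN z hz, ?_⟩
      show MulAut.congr θ (n * z * n⁻¹) = MulAut.congr θ n * MulAut.congr θ z * _
      rw [map_mul, map_mul, map_inv]
  obtain ⟨ψ, hψ, hψv⟩ := exists_extension (T := N) (automized_receptive hS hF hV).2 hθ
    fun x hx => by
      refine mem_extender_of_congr ⟨hNS hx, hNn hx⟩ (α := X.normalizerMonoidHom ⟨x, hNn hx⟩)
        (fun _ => rfl) ?_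
      exact autInducedBy_mono (sup_le hV.1 hT.1) V
        (hθc _ (hAK (mem_autInducedBy_iff.2 ⟨x, hx, hNn hx, fun _ => rfl⟩)))
  have hψM : ∀ x (hx : x ∈ N), ψ ⟨x, hx⟩ ∈ M := by
    intro x hx
    refine hM.ge (mem_kNormalizer.2 ⟨(congr_mem_autRT hT hXS hXN.le hψ (fun r => hψv r _) hx
      (hXsup (hW₀RT (hNW₀ hx))) (c := X.normalizerMonoidHom ⟨x, hNn hx⟩) fun _ => rfl).1,
      _, ⟨_, hAK (mem_autInducedBy_iff.2 ⟨x, hx, hNn hx, fun _ => rfl⟩ :
        X.normalizerMonoidHom ⟨x, hNn hx⟩ ∈ autInducedBy N X), rfl⟩, fun v => ?_⟩)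
    obtain ⟨u, rfl⟩ := θ.surjective v
    show (MulAut.congr θ (X.normalizerMonoidHom ⟨x, hNn hx⟩) (θ u) : Ω) = _
    rw [congr_apply, ← hψv _ (hXN.le (Subtype.mem _)), ← hψv u (hXN.le u.2), ← map_inv, ← map_mul,
      ← map_mul]
    rfl
  have hMS : M ≤ S := hM ▸ (kNormalizer_le _).trans (sup_le hV.1 hT.1)
  have hcardM : Nat.card X < Nat.card M := by
    have := finite_of_le hMS
    exact (card_lt_of_lt hXN hNS).trans_le (Nat.card_le_card_of_injective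
      (fun x : N => (⟨ψ x, hψM x x.2⟩ : M))
      fun u v huv => F.injective_of_mem hψ (congrArg Subtype.val huv))
  obtain ⟨eR, heR, heRv⟩ := exists_iso_restrict (φ := V.subtype.comp θ.toMonoidHom) hθ hRX
  have hVle := le_sup_of_iso hT hR.1 hRX hX hθ
  generalize hR'' : imgHom (V.subtype.comp θ.toMonoidHom) R = R'' at eR heR heRv hVle
  have hR''V : R'' ≤ V := hR'' ▸ (imgHom_le_range _ R).trans (range_subtype_comp θ).le
  have hMn : M ≤ normalizerIn S R'' := fun x hx => by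
    obtain ⟨-, _, ⟨z, hz, rfl⟩, hzv⟩ := mem_kNormalizer.1 (hM ▸ hx)
    obtain ⟨-, d, -, hdz⟩ := hKL hz
    refine ⟨hMS hx, ?_⟩
    have := finite_of_le heR.le_right
    refine SatCriterion.mem_normalizer_of_finite fun y hy => ?_
    obtain ⟨r, hr⟩ := eR.surjective ⟨y, hy⟩
    have hyv : y = (θ ⟨r, hRX r.2⟩ : Ω) := (congrArg Subtype.val hr).symm.trans (heRv r)
    rw [hyv, ← hzv (θ ⟨r, hRX r.2⟩)]
    show (MulAut.congr θ z (θ ⟨r, hRX r.2⟩) : Ω) ∈ R''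
    rw [congr_apply, show z ⟨r, hRX r.2⟩ = ⟨(d r : Ω), hRX (d r).2⟩ from Subtype.ext (hdz r)]
    rw [show (θ ⟨(d r : Ω), hRX (d r).2⟩ : Ω) = eR (d r) from (heRv (d r)).symm]
    exact Subtype.mem _
  have h1 := hbig R'' M (hR''V.trans hVM) heR.card_eq.symm hcardM
    (hM ▸ (kNormalizer_le _).trans (sup_le hVle le_sup_right)) hMn β hβ (MulAut.congr eR c)
    ((hnb.congr (h' := hR''V) (e := θ) fun x => heRv x).trans hβn)
  have := congr_mem_J heR.symm h1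
  rwa [congr_symm_congr] at this

/-- Restriction from a subgroup normalizing `R`. -/
theorem res_of_normal (hR : R ≤ S) (hRX : R ≤ X) (hlt : R < X) (hX : X ≤ R ⊔ T)
    (hn : X ≤ normalizerIn S R) {a : MulAut X} (ha : a ∈ J F E p X) {b : MulAut R}
    (hab : Agrees hRX b a)
    (hbig : ∀ (R' Y : Subgroup Ω) (h : R' ≤ Y), Nat.card R' = Nat.card R →
      Nat.card X < Nat.card Y → Y ≤ R' ⊔ T → Y ≤ normalizerIn S R' →
        ∀ a ∈ J F E p Y, ∀ b : MulAut R', Agrees h b a →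
        b ∈ J F E p R') :
    b ∈ J F E p R := by
  have hF := hE.1.2.1
  have hT := hE.1.2.2.2.1
  obtain ⟨R', hc, hR'⟩ := exists_fullyNormalized (F := F) hR
  obtain ⟨hra, hrr⟩ := automized_receptive hS hF hR'
  obtain ⟨χ, hχ, hχN, himg⟩ := exists_map_normalizerIn hS hra hrr hc
  obtain ⟨eX, heX, heXv⟩ := exists_iso_restrict hχ hn
  have hRN : R ≤ normalizerIn S R := le_normalizerIn hR
  obtain ⟨e, he, hev⟩ := Fusion.exists_iso (restrict_mem hχ hRN)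
    ((range_restrictHom χ hRN).trans himg)
  generalize hX' : imgHom χ X = X' at eX heX heXv
  have hR'X' : R' ≤ X' := by
    rw [← hX', ← himg]
    exact imgHom_mono χ hRX
  have hX'RT : X' ≤ R' ⊔ T := by
    rw [← hX']
    rintro _ ⟨⟨x, hxN⟩, hx, rfl⟩
    exact (congr_mem_autRT hT hR hRN hχ (fun r => (hev r).symm) hxN (hX hx)
      (c := R.normalizerMonoidHom ⟨x, hxN.2⟩) fun _ => rfl).1
  have hX'N : X' ≤ normalizerIn S R' := by
    rw [← hX']
    rintro _ ⟨x, hx, rfl⟩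
    exact hχN x
  have hab' : Agrees hR'X' (MulAut.congr e b) (MulAut.congr eX a) :=
    hab.congr fun x => (hev x).trans (heXv ⟨x, hRX x.2⟩).symm
  have hcard : Nat.card R' = Nat.card R := he.card_eq.symm
  have hcardX : Nat.card X' = Nat.card X := heX.card_eq.symm
  have hlt' : R' < X' := lt_of_le_of_ne hR'X' fun h => by
    have h1 := card_lt_of_lt hlt (hn.trans (normalizerIn_le S R))
    rw [← hcard, h, hcardX] at h1
    exact lt_irrefl _ h1
  suffices hkey : MulAut.congr e b ∈ J F E p R' by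
    have := congr_mem_J he.symm hkey
    rwa [congr_symm_congr] at this
  have hX'S : X' ≤ S := heX.le_right
  have := finite_of_le hX'S
  have := finite_mulAut (V := X')
  obtain ⟨a₁, a₂, ha₁, ha₂, ⟨k, hk⟩, ha₂p, hmul⟩ :=
    LocalStructure.exists_pPart_mul (p := p) (MulAut.congr eX a)
  have haJ : MulAut.congr eX a ∈ J F E p X' := congr_mem_J heX ha
  obtain ⟨n, hn'⟩ := (isOfFinOrder_of_finite _).mem_powers_iff_mem_zpowers.2 ha₁
  obtain ⟨m, hm'⟩ := (isOfFinOrder_of_finite _).mem_powers_iff_mem_zpowers.2 ha₂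
  have h1 := hab'.pow n
  have h2 := hab'.pow m
  simp only at hn' hm'
  rw [hn'] at h1
  rw [hm'] at h2
  rw [← hmul] at hab'
  rw [hab'.unique (h1.mul h2)]
  refine mul_mem ?_ ?_
  · exact restrict_mem_J_of_pElement hS hE hR'.1 hR'X' hX'RT (hn' ▸ pow_mem haJ n)
      (k := k) (by rw [← hk, pow_orderOf_eq_one]) h1
  · exact res_of_coprime hS hE (fun W hW h => hup W hW (hcard ▸ h)) hR' hR'X' hlt' hX'RT hX'N
      (hm' ▸ pow_mem haJ m) ha₂p h2
      fun R₂ Y h hc₂ hY => hbig R₂ Y h (hc₂.trans hcard) (hcardX ▸ hY)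

/-- **Restriction.** -/
theorem resProp_step (hR : R ≤ S) : ResProp F E p R := by
  have hT := hE.1.2.2.2.1
  have key : ∀ (d : ℕ) (R' Y : Subgroup Ω) (h : R' ≤ Y), Nat.card S - Nat.card Y = d →
      Nat.card R' = Nat.card R → Y ≤ R' ⊔ T → Y ≤ normalizerIn S R' →
        ∀ a ∈ J F E p Y, ∀ b : MulAut R', Agrees h b a → b ∈ J F E p R' := by
    intro d
    induction d using Nat.strong_induction_on with
    | _ d ih =>
    intro R' Y h hd hcard hY hYn a ha b hab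
    have hYS : Y ≤ S := hYn.trans (normalizerIn_le S R')
    rcases h.eq_or_lt with heq | hlt
    · subst heq
      rwa [show b = a from MulEquiv.ext fun x => Subtype.ext (hab x).symm]
    refine res_of_normal hS hE (fun W hW h' => hup W hW (hcard ▸ h')) (h.trans hYS) h hlt hY hYn
      ha hab fun R₂ Z hZ hc₂ hcY hZle hZn a' ha' b' hab' => ?_
    have h1 := Subgroup.card_le_of_le (hZn.trans (normalizerIn_le S R₂))
    exact ih (Nat.card S - Nat.card Z) (by omega) R₂ Z hZ rfl (hc₂.trans hcard) hZle hZn a' ha'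
      b' hab'
  intro Y h hY a ha b hab
  have hYS : Y ≤ S := hY.trans (sup_le hR hT.1)
  rcases h.eq_or_lt with heq | hlt
  · subst heq
    rwa [show b = a from MulEquiv.ext fun x => Subtype.ext (hab x).symm]
  have := finite_of_le hYS
  have := finite_of_le hR
  obtain ⟨Y₁, hY₁⟩ : ∃ Y₁, Y₁ = normalizerIn Y R := ⟨_, rfl⟩
  have hlt₁ : R < Y₁ := hY₁ ▸ lt_normalizerIn (hS.to_le hYS) hlt
  have hY₁Y : Y₁ ≤ Y := hY₁ ▸ normalizerIn_le Y R
  have hY₁n : Y₁ ≤ Subgroup.normalizer (R : Set Ω) := hY₁ ▸ inf_le_right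
  have hmem : ∀ x (hx : x ∈ Y₁), (a ⟨x, hY₁Y hx⟩ : Ω) ∈ Y₁ := fun x hx =>
    hY₁.ge ⟨(a ⟨x, hY₁Y hx⟩).2, SatCriterion.mem_normalizer_of_finite fun y hy => by
      obtain ⟨q, hq⟩ := b.surjective ⟨y, hy⟩
      have hq' : x * (q : Ω) * x⁻¹ ∈ R := (Subgroup.mem_normalizer_iff.1 (hY₁n hx) q).1 q.2
      rw [show y = (a ⟨q, h q.2⟩ : Ω) from
        (congrArg Subtype.val hq).symm.trans (hab q).symm, ← Subgroup.coe_inv,
        ← Subgroup.coe_mul, ← Subgroup.coe_mul, ← map_inv, ← map_mul, ← map_mul]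
      rw [show ((⟨x, hY₁Y hx⟩ * ⟨q, h q.2⟩ * (⟨x, hY₁Y hx⟩ : Y)⁻¹ : Y)) =
        ⟨((⟨_, hq'⟩ : R) : Ω), h hq'⟩ from Subtype.ext rfl, hab]
      exact Subtype.mem _⟩
  obtain ⟨a₁, -, ha₁v⟩ := exists_aut_restrict
    ((mem_autGroup_iff hYS).1 (J_le_autGroup hS hE ha)) hY₁Y hmem
  have hY₁S : Y₁ ≤ S := hY₁Y.trans hYS
  have ha₁J : a₁ ∈ J F E p Y₁ := (hup Y₁ hY₁S (card_lt_of_lt hlt₁ hY₁S)).1 Y hY₁Y
    (hY.trans (sup_le_sup_right hlt₁.le T)) a ha a₁ fun x => (ha₁v x).symm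
  exact key _ R Y₁ hlt₁.le rfl rfl (hY₁Y.trans hY) (le_inf hY₁S hY₁n) a₁ ha₁J b
    fun x => (ha₁v _).trans (hab x)

omit hup in
/-- Both properties hold everywhere. -/
theorem resProp_and_extProp (hR : R ≤ S) :
    ResProp F E p R ∧ (F.IsFullyNormalized R → ExtProp F E p R) := by
  induction hd : Nat.card S - Nat.card R using Nat.strong_induction_on generalizing R with
  | _ d ih =>
  have hup : ∀ V : Subgroup Ω, V ≤ S → Nat.card R < Nat.card V →
      ResProp F E p V ∧ (F.IsFullyNormalized V → ExtProp F E p V) := fun V hV hlt => by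
    have := Subgroup.card_le_of_le hV
    exact ih (Nat.card S - Nat.card V) (by omega) hV rfl
  exact ⟨resProp_step hS hE hup hR, fun h => extProp_step hS hE hup h⟩

end CfsgLib.FusionComponents
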