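import Cfsg.Agent.FusionComponents.Balance.Sylow

/-!
# Tools for the extension and restriction properties of `J`
-/

set_option autoImplicit false
set_option linter.unusedSectionVars false

namespace CfsgLib.FusionComponents

open Cfsg Cfsg.FusionSystem CfsgLib.Fusion CfsgLib.FusionClosed

/-- A power of `n` of order prime to `p` which lies in the same coset as `g`. -/
theorem exists_pow_coprime_mod {G B : Type*} [Group G] [Group B] [Finite B] {p : ℕ} [Fact p.Prime]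
    {Q : Subgroup G} {g r : G} (hg : g ∈ Subgroup.normalizer (Q : Set G)) (hr : r * g⁻¹ ∈ Q)
    (hgp : (orderOf g).Coprime p) (n : B) :
    ∃ k : ℕ, (orderOf (n ^ k)).Coprime p ∧ r ^ k * g⁻¹ ∈ Q := by
  have hQn : (Q.subgroupOf (Subgroup.normalizer (Q : Set G))).Normal :=
    Subgroup.normal_in_normalizer
  let π := QuotientGroup.mk' (Q.subgroupOf (Subgroup.normalizer (Q : Set G)))
  have hrN : r ∈ Subgroup.normalizer (Q : Set G) := by
    have := mul_mem (Subgroup.le_normalizer hr) hg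
    rwa [inv_mul_cancel_right] at this
  have hπ : π ⟨r, hrN⟩ = π ⟨g, hg⟩ := QuotientGroup.eq_iff_div_mem.2 (by
    rw [Subgroup.mem_subgroupOf, div_eq_mul_inv]
    exact hr)
  obtain ⟨k, hk, hkg⟩ := FusionLayer.exists_coprime_pow (p := p) (a := π ⟨g, hg⟩)
    (hgp.coprime_dvd_left ((orderOf_map_dvd π _).trans (by rw [Subgroup.orderOf_mk]))) n
  refine ⟨k, hk, ?_⟩
  have h : π (⟨r, hrN⟩ ^ k) = π ⟨g, hg⟩ := by rw [map_pow, hπ, hkg]
  have h1 := Subgroup.mem_subgroupOf.1 (QuotientGroup.eq_iff_div_mem.1 h)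
  simpa [div_eq_mul_inv] using h1

/-- A Frattini argument. -/
theorem exists_normalizing_mul {G : Type*} [Group G] {p : ℕ} [Fact p.Prime] {L K : Subgroup G}
    [Finite L] (hKL : K ≤ L) (hK : IsSylowIn p L K) {g : G} (hg : ∀ l ∈ L, g * l * g⁻¹ ∈ L) :
    ∃ l ∈ L, ∀ k ∈ K, l * g * k * (l * g)⁻¹ ∈ K := by
  obtain ⟨l, hl, hlc⟩ := hK.exists_conj (X := K.map (MulAut.conj g).toMonoidHom)
    (by rintro _ ⟨k, hk, rfl⟩; exact hg k (hKL hk)) ((hK.isPGroup hKL).map _)
  refine ⟨l, hl, fun k hk => ?_⟩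
  have := hlc _ ⟨k, hk, rfl⟩
  simpa [mul_assoc] using this

variable {Ω : Type*} [Group Ω] {S T : Subgroup Ω} {F : FusionSystem S} {E : FusionSystem T}
  {R R' X : Subgroup Ω} {p : ℕ}

theorem Agrees.coprime {h : R ≤ X} {b : MulAut R} {a : MulAut X} (hab : Agrees h b a)
    (ha : (orderOf a).Coprime p) : (orderOf b).Coprime p := by
  refine ha.coprime_dvd_left (orderOf_dvd_of_pow_eq_one ?_)
  refine (hab.pow (orderOf a)).unique ?_
  rw [pow_orderOf_eq_one]
  exact Agrees.one h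

/-- Isomorphisms respect containment in `R T`. -/
theorem le_sup_of_iso (hT : F.StronglyClosed T) (hR : R ≤ S) (hRX : R ≤ X) (hX : X ≤ R ⊔ T)
    {V : Subgroup Ω} {θ : X ≃* V} (hθ : IsIso F θ) :
    V ≤ imgHom (V.subtype.comp θ.toMonoidHom) R ⊔ T := by
  intro v hv
  obtain ⟨y, hy⟩ := θ.surjective ⟨v, hv⟩
  obtain ⟨r, hr, t, ht, hrt⟩ := exists_rt hT hR (hX y.2)
  have htX : t ∈ X := by
    rw [← inv_mul_cancel_left r t, hrt]
    exact X.mul_mem (X.inv_mem (hRX hr)) y.2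
  have hv' : v = (θ ⟨r, hRX hr⟩ : Ω) * (θ ⟨t, htX⟩ : Ω) := by
    rw [← Subgroup.coe_mul, ← map_mul, show (⟨r, hRX hr⟩ : X) * ⟨t, htX⟩ = y from Subtype.ext hrt]
    exact (congrArg Subtype.val hy).symm
  rw [hv']
  exact Subgroup.mul_mem_sup ⟨⟨r, hRX hr⟩, hr, rfl⟩
    (stronglyClosed_apply hT hθ (x := ⟨t, htX⟩) ht)

variable [Finite S] [Fact p.Prime] (hS : IsPGroup p S) (hE : E.IsNormalIn F p)
include hS hE

/-- The normalizer of a subgroup normalizes `ext1`. -/
theorem normalizerIn_le_normalizer_ext1 (hR : R ≤ S) :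
    normalizerIn S R ≤ Subgroup.normalizer ((ext1 F T R : Subgroup Ω) : Set Ω) := by
  intro x hx
  have hT := hE.1.2.2.2.1
  have := finite_of_le (ext1_le_sup.trans (sup_le hR hT.1) : ext1 F T R ≤ S)
  refine SatCriterion.mem_normalizer_of_finite fun y hy => ?_
  obtain ⟨hyRT, z, hz, hzv⟩ := mem_kNormalizer.1 hy
  have hcF : R.normalizerMonoidHom ⟨x, hx.2⟩ ∈ F.autGroup R :=
    autInducedBy_le_autGroup hR (mem_autInducedBy_iff.2 ⟨x, hx.1, hx.2, fun _ => rfl⟩)
  have hcomap : R ⊔ T ≤ (R ⊔ T).comap (MulAut.conj x).toMonoidHom := sup_le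
    (fun r hr => Subgroup.mem_sup_left ((Subgroup.mem_normalizer_iff.1 hx.2 r).1 hr))
    fun t ht => Subgroup.mem_sup_right (FusionFactor.conj_mem_of_stronglyClosed hT hx.1 ht)
  refine mem_kNormalizer.2 ⟨hcomap hyRT, _,
    congr_mem_K2Inn hT ((mem_autGroup_iff hR).1 hcF) hz, fun r => ?_⟩
  obtain ⟨q, rfl⟩ := (R.normalizerMonoidHom ⟨x, hx.2⟩).surjective r
  rw [congr_apply]
  show x * (z q : Ω) * x⁻¹ = x * y * x⁻¹ * (x * q * x⁻¹) * (x * y * x⁻¹)⁻¹
  rw [hzv]
  group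

/-- Transport of `kNormalizer (R ⊔ T) R Q` along an isomorphism of normalizers. -/
theorem exists_kNormalizer_iso (hR : R ≤ S) (hR' : R' ≤ S) {e : R ≃* R'}
    {χ : normalizerIn S R ≃* normalizerIn S R'} (hχ : IsIso F χ)
    (hv : ∀ (x : R) (hx : (x : Ω) ∈ normalizerIn S R), (χ ⟨x, hx⟩ : Ω) = e x)
    {Q : Subgroup (MulAut R)} {Q' : Subgroup (MulAut R')}
    (hQ : Q.map (MulAut.congr e).toMonoidHom = Q') :
    ∃ eM : kNormalizer (R ⊔ T) R Q ≃* kNormalizer (R' ⊔ T) R' Q', IsIso F eM ∧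
      ∀ (x : kNormalizer (R ⊔ T) R Q) (hx : (x : Ω) ∈ normalizerIn S R),
        (eM x : Ω) = χ ⟨x, hx⟩ := by
  have hT := hE.1.2.2.2.1
  have hRN : R ≤ normalizerIn S R := le_normalizerIn hR
  have hle : kNormalizer (R ⊔ T) R Q ≤ normalizerIn S R := fun x hx =>
    ⟨sup_le hR hT.1 (kNormalizer_le Q hx), (kNormalizer_le_normalizerIn Q hx).2⟩
  obtain ⟨eM, heM, heMv⟩ := Fusion.exists_iso (restrict_mem hχ hle)
    (Q := kNormalizer (R' ⊔ T) R' Q') (by
      ext y
      constructor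
      · rintro ⟨⟨x, hx⟩, rfl⟩
        obtain ⟨hxRT, z, hz, hzv⟩ := mem_kNormalizer.1 hx
        refine mem_kNormalizer.2 ⟨(congr_mem_autRT hT hR hRN hχ (fun r => hv r _) (hle hx) hxRT
          hzv).1, MulAut.congr e z, hQ ▸ ⟨z, hz, rfl⟩, fun r => ?_⟩
        obtain ⟨q, rfl⟩ := e.surjective r
        rw [congr_apply, ← hv _ (hRN (Subtype.mem _)), ← hv q (hRN q.2)]
        show _ = ((χ ⟨x, hle hx⟩ * χ ⟨q, hRN q.2⟩ * (χ ⟨x, hle hx⟩)⁻¹ : normalizerIn S R') : Ω)
        rw [← map_inv, ← map_mul, ← map_mul]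
        exact congrArg (fun w => (χ w : Ω)) (Subtype.ext (hzv q))
      · intro hy
        obtain ⟨hyRT, z', hz', hzv⟩ := mem_kNormalizer.1 hy
        obtain ⟨z, hz, rfl⟩ := hQ.ge hz'
        obtain ⟨x, hx⟩ := χ.surjective
          ⟨y, sup_le hR' hT.1 hyRT, (kNormalizer_le_normalizerIn _ hy).2⟩
        refine ⟨⟨x, mem_kNormalizer.2 ⟨?_, z, hz, fun q => ?_⟩⟩, congrArg Subtype.val hx⟩
        · have hR'N : R' ≤ normalizerIn S R' := le_normalizerIn hR'
          have hvs : ∀ r : R', (χ.symm ⟨r, hR'N r.2⟩ : Ω) = e.symm r := fun r => by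
            have h1 := hv (e.symm r) (hRN (Subtype.mem _))
            rw [MulEquiv.apply_symm_apply] at h1
            rw [show (⟨(r : Ω), hR'N r.2⟩ : normalizerIn S R') =
              χ ⟨e.symm r, hRN (Subtype.mem _)⟩ from Subtype.ext h1.symm,
              MulEquiv.symm_apply_apply]
          have := (congr_mem_autRT hT hR' hR'N hχ.symm (fun r => hvs r)
            (x := y) ⟨sup_le hR' hT.1 hyRT, (kNormalizer_le_normalizerIn _ hy).2⟩ hyRT hzv).1
          rw [← hx] at this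
          simpa using this
        · have hzq : χ ⟨(z q : Ω), hRN (Subtype.mem _)⟩ = χ (x * ⟨q, hRN q.2⟩ * x⁻¹) := by
            rw [map_mul, map_mul, map_inv, hx]
            refine Subtype.ext ?_
            rw [hv]
            have h2 := hzv (e q)
            rw [show (MulAut.congr e).toMonoidHom z (e q) = e (z q) from congr_apply z q] at h2
            rw [h2, ← hv q (hRN q.2)]
            rfl
          exact congrArg Subtype.val (χ.injective hzq))
  exact ⟨eM, heM, fun x hx => heMv x⟩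

/-- An element of `p`-power order of `J X` restricts into `J R`. -/
theorem restrict_mem_J_of_pElement (hR : R ≤ S) (hRX : R ≤ X) (hX : X ≤ R ⊔ T) {a : MulAut X}
    (ha : a ∈ J F E p X) {k : ℕ} (hk : a ^ p ^ k = 1) {b : MulAut R} (hab : Agrees hRX b a) :
    b ∈ J F E p R := by
  have hT := hE.1.2.2.2.1
  have hXS : X ≤ S := hX.trans (sup_le hR hT.1)
  obtain ⟨V, θ, hθ, hV, hθc⟩ := exists_conj_autRT hS hE hXS (Subgroup.zpowers_le.2 ha)
    (isPGroup_zpowers_of_pow_eq_one hk)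
  obtain ⟨x, hx, -, hxv⟩ := mem_autInducedBy_iff.1 (hθc a (Subgroup.mem_zpowers a))
  obtain ⟨eR, heR, heRv⟩ := exists_iso_restrict (φ := V.subtype.comp θ.toMonoidHom) hθ hRX
  have hle := le_sup_of_iso hT hR hRX hX hθ
  have hmem : MulAut.congr eR b ∈ J F E p _ := autRT_le_J hS hE heR.le_right
    (Subgroup.subset_closure ⟨x, sup_le hle le_sup_right hx, fun y => by
      obtain ⟨r, rfl⟩ := eR.surjective y
      rw [congr_apply, heRv, heRv, show (⟨(b r : Ω), hRX (b r).2⟩ : X) = a ⟨r, hRX r.2⟩ from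
        Subtype.ext (hab r).symm]
      show (θ (a ⟨r, _⟩) : Ω) = _
      rw [← congr_apply (e := θ)]
      exact hxv _⟩)
  have := congr_mem_J heR.symm hmem
  rwa [congr_symm_congr] at this

end CfsgLib.FusionComponents
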