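import Cfsg.Agent.FusionComponents.Balance.Seed

/-!
# The family `J` generated by the seeds

`J F E p R` is generated by the elements of order prime to `p` of `AE F E R` at subgroups in
`HT F T`, the automorphisms induced by `R T` at fully normalized subgroups, restrictions from
`ext1`, and conjugation in `F`. At a fully normalized `R` it has a one-step description `JB`.
-/

set_option autoImplicit false
set_option linter.unusedSectionVars false

namespace CfsgLib.FusionComponents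

open Cfsg Cfsg.FusionSystem CfsgLib.Fusion CfsgLib.FusionClosed

variable {Ω : Type*} [Group Ω] {S T : Subgroup Ω} {F : FusionSystem S} {E : FusionSystem T}
  {R R' : Subgroup Ω} {p : ℕ}

/-- The generators of the family. -/
inductive Gen (F : FusionSystem S) (E : FusionSystem T) (p : ℕ) :
    ∀ R : Subgroup Ω, MulAut R → Prop
  | seed {R : Subgroup Ω} {g : MulAut R} : R ≤ S → HT F T R → g ∈ AE F E R →
      (orderOf g).Coprime p → Gen F E p R g
  | inn {R : Subgroup Ω} {g : MulAut R} : F.IsFullyNormalized R →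
      g ∈ autInducedBy (R ⊔ T) R → Gen F E p R g
  | res {R : Subgroup Ω} {g : MulAut R} {a : MulAut (ext1 F T R)} : F.IsFullyNormalized R →
      ¬ HT F T R → Gen F E p (ext1 F T R) a → Agrees le_ext1 g a → Gen F E p R g
  | conj {R R' : Subgroup Ω} {g : MulAut R} (e : R ≃* R') : IsIso F e → Gen F E p R g →
      Gen F E p R' (MulAut.congr e g)
  | mul {R : Subgroup Ω} {g h : MulAut R} : Gen F E p R g → Gen F E p R h → Gen F E p R (g * h)

/-- The generated family of automorphism groups. -/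
def J (F : FusionSystem S) (E : FusionSystem T) (p : ℕ) (R : Subgroup Ω) : Subgroup (MulAut R) :=
  Subgroup.closure {g | Gen F E p R g}

open Classical in
/-- The one-step description of `J` at a fully normalized subgroup. -/
noncomputable def JB (F : FusionSystem S) (E : FusionSystem T) (p : ℕ) (R : Subgroup Ω) :
    Subgroup (MulAut R) :=
  if HT F T R then coprimeGen p (AE F E R) ⊔ autInducedBy (R ⊔ T) R else
    { carrier := {g | ∃ a ∈ J F E p (ext1 F T R), Agrees le_ext1 g a}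
      one_mem' := ⟨1, one_mem _, Agrees.one _⟩
      mul_mem' := fun ⟨a, ha, hga⟩ ⟨b, hb, hgb⟩ => ⟨a * b, mul_mem ha hb, hga.mul hgb⟩
      inv_mem' := fun ⟨a, ha, hga⟩ => ⟨a⁻¹, inv_mem ha, hga.inv⟩ }

theorem Gen.le_S {g : MulAut R} (hg : Gen F E p R g) : R ≤ S := by
  induction hg with
  | seed h _ _ _ => exact h
  | inn h _ => exact h.1
  | res h _ _ _ _ => exact h.1
  | conj e he _ _ => exact he.le_right
  | mul _ _ ih _ => exact ih

theorem Gen.mem_J {g : MulAut R} (hg : Gen F E p R g) : g ∈ J F E p R := Subgroup.subset_closure hg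

theorem mem_JB_of_HT (h : HT F T R) :
    JB F E p R = coprimeGen p (AE F E R) ⊔ autInducedBy (R ⊔ T) R := if_pos h

theorem mem_JB_of_not_HT (h : ¬ HT F T R) {g : MulAut R} :
    g ∈ JB F E p R ↔ ∃ a ∈ J F E p (ext1 F T R), Agrees le_ext1 g a := by
  rw [JB, if_neg h]
  rfl

variable [Finite S] [Fact p.Prime] (hS : IsPGroup p S) (hE : E.IsNormalIn F p)
include hS hE

omit hS in
theorem Gen.mem_autGroup {g : MulAut R} (hg : Gen F E p R g) : g ∈ F.autGroup R := by
  induction hg with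
  | seed _ _ h _ => exact AE_le_autGroup h
  | @inn R g hR h =>
    exact autInducedBy_le_autGroup hR.1 (autInducedBy_mono (sup_le hR.1 hE.1.2.2.2.1.1) R h)
  | @res R g a hR _ _ hga ih =>
    have hX : ext1 F T R ≤ S := ext1_le_sup.trans (sup_le hR.1 hE.1.2.2.2.1.1)
    exact (mem_autGroup_iff hR.1).2
      (mem_of_agree ((mem_autGroup_iff hX).1 ih) le_ext1 fun x => (hga x).symm)
  | conj e he _ ih => exact congr_mem_autGroup he ih
  | mul _ _ ih ih' => exact mul_mem ih ih'

theorem Gen.one (hR : R ≤ S) : Gen F E p R 1 := by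
  obtain ⟨Q, hc, hQ⟩ := exists_fullyNormalized (F := F) hR
  obtain ⟨e, he⟩ := isConj_iff.1 hc
  have := Gen.conj e.symm he.symm (Gen.inn (E := E) (p := p) hQ (one_mem _))
  rwa [map_one] at this

theorem mem_J_iff (hR : R ≤ S) {g : MulAut R} : g ∈ J F E p R ↔ Gen F E p R g := by
  refine ⟨fun h => ?_, Gen.mem_J⟩
  have := finite_of_le hR
  have := finite_mulAut (V := R)
  rw [J, ← Subgroup.mem_toSubmonoid, Subgroup.closure_toSubmonoid_of_finite] at h
  induction h using Submonoid.closure_induction with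
  | mem x hx => exact hx
  | one => exact Gen.one hS hE hR
  | mul x y _ _ hx hy => exact hx.mul hy

theorem J_le_autGroup : J F E p R ≤ F.autGroup R :=
  (Subgroup.closure_le _).2 fun _ h => Gen.mem_autGroup hE h

omit hS hE in
omit [Finite S] [Fact p.Prime] in
theorem congr_mem_J {e : R ≃* R'} (he : IsIso F e) {g : MulAut R} (hg : g ∈ J F E p R) :
    MulAut.congr e g ∈ J F E p R' := by
  have h : (J F E p R).map (MulAut.congr e).toMonoidHom ≤ J F E p R' := by
    rw [J, MonoidHom.map_closure, Subgroup.closure_le]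
    rintro _ ⟨a, ha, rfl⟩
    exact (Gen.conj e he ha).mem_J
  exact h ⟨g, hg, rfl⟩

omit hS hE in
omit [Finite S] [Fact p.Prime] in
theorem J_conj_mem (hR : R ≤ S) {a g : MulAut R} (ha : a ∈ F.autGroup R) (hg : g ∈ J F E p R) :
    a * g * a⁻¹ ∈ J F E p R := by
  rw [← congr_self_eq]
  exact congr_mem_J ((mem_autGroup_iff hR).1 ha) hg

/-- The automorphisms induced by `R T` lie in the family. -/
theorem autRT_le_J (hR : R ≤ S) : autInducedBy (R ⊔ T) R ≤ J F E p R := by
  intro c hc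
  have hT := hE.1.2.2.2.1
  obtain ⟨Q, hcQ, hQ⟩ := exists_fullyNormalized (F := F) hR
  obtain ⟨ha, hr⟩ := automized_receptive hS hE.1.2.1 hQ
  obtain ⟨χ, hχ, -, himg⟩ := exists_map_normalizerIn hS ha hr hcQ
  have hRN : R ≤ normalizerIn S R := le_normalizerIn hR
  obtain ⟨e, he, hev⟩ := Fusion.exists_iso (restrict_mem hχ hRN)
    ((range_restrictHom χ hRN).trans himg)
  obtain ⟨x, hx, hxN, hxv⟩ := mem_autInducedBy_iff.1 hc
  have h := (congr_mem_autRT hT hR hRN hχ (fun r => (hev r).symm)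
    (x := x) ⟨sup_le hR hT.1 hx, hxN⟩ hx hxv).2
  have := congr_mem_J he.symm (Gen.inn (E := E) (p := p) hQ h).mem_J
  rwa [congr_symm_congr] at this

/-- The elements of order prime to `p` of `Aplus` are in `AE`. -/
theorem mem_AE_of_coprime (hR : R ≤ S) {g : MulAut R} (hg : g ∈ Aplus F E R)
    (hgp : (orderOf g).Coprime p) : g ∈ AE F E R :=
  mem_of_coprime_sup ((isPGroup_autInducedBy hS R).to_le (Inn_le_autInducedBy hR))
    (fun z hz a ha => by
      rw [← congr_self_eq]
      exact congr_mem_AE hE ((mem_autGroup_iff hR).1 (Inn_le_autGroup hR hz)) ha) hg hgp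

theorem exists_of_mem_Aplus (hR : R ≤ S) {g : MulAut R} (hg : g ∈ Aplus F E R) :
    ∃ a ∈ AE F E R, ∃ c ∈ Inn R, a * c = g :=
  exists_mul_of_sup (fun y hy x hx => by
    rw [← congr_self_eq]
    exact congr_mem_AE hE ((mem_autGroup_iff hR).1 (Inn_le_autGroup hR hy)) hx) hg

omit hS in
theorem Aplus_le_autGroup (hR : R ≤ S) : Aplus F E R ≤ F.autGroup R :=
  sup_le AE_le_autGroup (Inn_le_autGroup hR)

omit hS in
theorem Aplus_conj_mem (hR : R ≤ S) {a g : MulAut R} (ha : a ∈ F.autGroup R)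
    (hg : g ∈ Aplus F E R) : a * g * a⁻¹ ∈ Aplus F E R := by
  rw [← congr_self_eq]
  exact congr_mem_Aplus hE ((mem_autGroup_iff hR).1 ha) hg

omit hS in
/-- An element of `AE` preserving a subgroup restricts to one of `AE`. -/
theorem exists_restrict_AE {X : Subgroup Ω} (hRX : R ≤ X) (hX : X ≤ S) {a : MulAut X}
    (ha : a ∈ AE F E X) (h : ∀ x : R, (a ⟨x, hRX x.2⟩ : Ω) ∈ R) :
    ∃ g ∈ AE F E R, Agrees hRX g a := by
  obtain ⟨haF, haT, b, hb, hba⟩ := ha
  have hT := hE.1.2.2.2.1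
  have := finite_of_le hT.1
  have := finite_of_le (hRX.trans hX)
  obtain ⟨g, hg, hgv⟩ := exists_aut_restrict ((mem_autGroup_iff hX).1 haF) hRX
    fun x hx => h ⟨x, hx⟩
  have hga : Agrees hRX g a := fun x => (hgv x).symm
  have hle : R ⊓ T ≤ X ⊓ T := inf_le_inf_right T hRX
  obtain ⟨b₀, hb₀, hb₀v⟩ := exists_aut_restrict ((mem_autGroup_iff inf_le_right).1 hb) hle
    fun x hx => ⟨by
      have h1 := h ⟨x, hx.1⟩
      rwa [show (⟨x, hRX hx.1⟩ : X) = ⟨x, (hle hx).1⟩ from rfl, hba ⟨x, hle hx⟩] at h1,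
      (b ⟨x, hle hx⟩).2.2⟩
  refine ⟨g, ⟨hg, fun x => ?_, b₀, hb₀, fun x => ?_⟩, hga⟩
  · rw [← hga x]
    exact haT ⟨x, hRX x.2⟩
  · rw [← hga ⟨x, x.2.1⟩, hb₀v]
    exact hba ⟨x, hle x.2⟩

/-- The family lies in `Aplus`. -/
theorem Gen.mem_Aplus {g : MulAut R} (hg : Gen F E p R g) : g ∈ Aplus F E R := by
  have hT := hE.1.2.2.2.1
  induction hg with
  | seed _ _ h _ => exact Subgroup.mem_sup_left h
  | @inn R g hR h => exact autInducedBy_sup_le_Aplus hE hR.1 h
  | @res R g a hR _ _ hga ih =>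
    have hX : ext1 F T R ≤ S := ext1_le_sup.trans (sup_le hR.1 hT.1)
    obtain ⟨b, hb, _, ⟨r, rfl⟩, hbr⟩ := exists_of_mem_Aplus hS hE hX ih
    have hrN : (r : Ω) ∈ Subgroup.normalizer (R : Set Ω) := (ext1_le_normalizerIn hT hR.1 r.2).2
    have hb' : b = a * (MulAut.conj r)⁻¹ := by rw [← hbr]; group
    have hc : Agrees le_ext1 (R.normalizerMonoidHom ⟨r, hrN⟩) (MulAut.conj r) := fun x => rfl
    have hga' := hga.mul hc.inv
    rw [← hb'] at hga'
    obtain ⟨g₁, hg₁, hg₁v⟩ := exists_restrict_AE hE le_ext1 hX hb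
      fun x => hga' x ▸ Subtype.mem _
    rw [show g = g₁ * R.normalizerMonoidHom ⟨r, hrN⟩ by
      rw [hg₁v.unique hga', inv_mul_cancel_right]]
    exact mul_mem (Subgroup.mem_sup_left hg₁) (autInducedBy_sup_le_Aplus hE hR.1
      (mem_autInducedBy_iff.2 ⟨r, ext1_le_sup r.2, hrN, fun _ => rfl⟩))
  | conj e he _ ih => exact congr_mem_Aplus hE he ih
  | mul _ _ ih ih' => exact mul_mem ih ih'

theorem J_le_Aplus : J F E p R ≤ Aplus F E R :=
  (Subgroup.closure_le _).2 fun _ h => Gen.mem_Aplus hS hE h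

/-! ### The description at fully normalized subgroups -/

theorem autRT_le_JB (hR : F.IsFullyNormalized R) : autInducedBy (R ⊔ T) R ≤ JB F E p R := by
  intro c hc
  have hT := hE.1.2.2.2.1
  by_cases hH : HT F T R
  · rw [mem_JB_of_HT hH]
    exact Subgroup.mem_sup_right hc
  obtain ⟨x, hx, hxN, hxv⟩ := mem_autInducedBy_iff.1 hc
  have hxS : x ∈ S := sup_le hR.1 hT.1 hx
  have hcF : c ∈ F.autGroup R :=
    autInducedBy_le_autGroup hR.1 (autInducedBy_mono (sup_le hR.1 hT.1) R hc)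
  have hXS : ext1 F T R ≤ S := ext1_le_sup.trans (sup_le hR.1 hT.1)
  have := finite_of_le hXS
  have hxX : x ∈ Subgroup.normalizer ((ext1 F T R : Subgroup Ω) : Set Ω) := by
    refine SatCriterion.mem_normalizer_of_finite fun y hy => ?_
    obtain ⟨hyRT, z, hz, hzv⟩ := mem_kNormalizer.1 hy
    refine mem_kNormalizer.2 ⟨mul_mem (mul_mem hx hyRT) (inv_mem hx), _,
      congr_mem_K2Inn hT ((mem_autGroup_iff hR.1).1 hcF) hz, fun r => ?_⟩
    obtain ⟨q, rfl⟩ := c.surjective r
    rw [congr_apply, hxv, hzv, hxv]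
    group
  refine (mem_JB_of_not_HT hH).2 ⟨(ext1 F T R).normalizerMonoidHom ⟨x, hxX⟩,
    autRT_le_J hS hE hXS (mem_autInducedBy_iff.2 ⟨x, ?_, hxX, fun _ => rfl⟩),
    fun r => (hxv r).symm⟩
  rw [ext1_sup]
  exact hx

/-- `JB` is contained in `J`. -/
theorem JB_le_J (hR : F.IsFullyNormalized R) : JB F E p R ≤ J F E p R := by
  intro g hg
  by_cases hH : HT F T R
  · rw [mem_JB_of_HT hH] at hg
    exact sup_le ((Subgroup.closure_le _).2 fun a ha => (Gen.seed hR.1 hH ha.1 ha.2).mem_J)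
      (autRT_le_J hS hE hR.1) hg
  · obtain ⟨a, ha, hga⟩ := (mem_JB_of_not_HT hH).1 hg
    exact (Gen.res hR hH ((mem_J_iff hS hE (ext1_le_sup.trans (sup_le hR.1 hE.1.2.2.2.1.1))).1 ha)
      hga).mem_J

/-- The automorphisms of a fully normalized subgroup in `HT` normalize `JB`. -/
theorem conj_autRT_mem_JB (hR : F.IsFullyNormalized R) {γ c : MulAut R}
    (hγ : γ ∈ F.autGroup R) (hc : c ∈ autInducedBy (R ⊔ T) R) :
    γ * c * γ⁻¹ ∈ coprimeGen p (AE F E R) ⊔ autInducedBy (R ⊔ T) R := by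
  have hF := hE.1.2.1
  have hT := hE.1.2.2.2.1
  have := finite_of_le hR.1
  have := finite_mulAut (V := R)
  obtain ⟨hRa, hRr⟩ := automized_receptive hS hF hR
  have hAn : F.autGroup R ≤ Subgroup.normalizer (Aplus F E R : Set (MulAut R)) := fun a ha =>
    SatCriterion.mem_normalizer_of_finite fun g hg => Aplus_conj_mem hE hR.1 ha hg
  obtain ⟨P, hP⟩ : ∃ P, P = autInducedBy S R ⊓ Aplus F E R := ⟨_, rfl⟩
  have hPsyl : IsSylowIn p (Aplus F E R) P :=
    hP ▸ IsSylowIn.inf_normal hRa.2 (autInducedBy_le_autGroup hR.1) (Aplus_le_autGroup hE hR.1) hAn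
  have hPS : P ≤ autInducedBy S R := hP ▸ inf_le_left
  have hPA : P ≤ Aplus F E R := hP ▸ inf_le_right
  obtain ⟨a, ha, hac⟩ := hPsyl.exists_conj (X := P.map (MulAut.conj γ).toMonoidHom)
    (by rintro _ ⟨s, hs, rfl⟩; exact Aplus_conj_mem hE hR.1 hγ (hPA hs))
    (((isPGroup_autInducedBy hS R).to_le hPS).map _)
  have hmF : a * γ ∈ F.autGroup R := mul_mem (Aplus_le_autGroup hE hR.1 ha) hγ
  have hIP : Inn R ≤ P := hP ▸ le_inf (Inn_le_autInducedBy hR.1) le_sup_right
  have hcP : c ∈ P := hP ▸ ⟨autInducedBy_mono (sup_le hR.1 hT.1) R hc,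
    autInducedBy_sup_le_Aplus hE hR.1 hc⟩
  obtain ⟨ψ, hψ, hψv⟩ := exists_extension (T := kNormalizer S R P) hRr
    ((mem_autGroup_iff hR.1).1 hmF) fun x hx => by
      obtain ⟨-, z, hz, hzv⟩ := mem_kNormalizer.1 hx
      refine mem_extender_of_congr (kNormalizer_le_normalizerIn P hx) (α := z) hzv ?_
      rw [congr_self_eq]
      have := hac _ ⟨z, hz, rfl⟩
      refine hPS ?_
      simpa [mul_assoc] using this
  obtain ⟨x, hx, hxN, hxv⟩ := mem_autInducedBy_iff.1 hc
  have hmc := (congr_mem_autRT hT hR.1 (le_kNormalizer hR.1 hIP) hψ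
    (fun r => hψv r _) (mem_kNormalizer.2 ⟨sup_le hR.1 hT.1 hx, c, hcP, hxv⟩) hx hxv).2
  rw [congr_self_eq] at hmc
  obtain ⟨R₁, hR₁⟩ := id hPsyl
  have htop := congrArg (Subgroup.map (Aplus F E R).subtype)
    (CfsgLib.Transfer.sylow_sup_pResidual R₁)
  rw [Subgroup.map_sup, ← MonoidHom.range_eq_map, Subgroup.range_subtype, hR₁,
    Subgroup.subgroupOf_map_subtype, inf_eq_left.2 hPA, ← coprimeGen_eq_map, sup_comm] at htop
  obtain ⟨b, hb, s, hs, hbs⟩ := exists_mul_of_sup (fun y hy z hz => coprimeGen_conj_mem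
    (fun g hg => mul_mem (mul_mem (hPA hy) hg) (inv_mem (hPA hy))) hz)
    (htop.symm ▸ inv_mem ha : a⁻¹ ∈ coprimeGen p (Aplus F E R) ⊔ P)
  have hb' : b ∈ coprimeGen p (AE F E R) :=
    (Subgroup.closure_le _).2
      (fun g hg => mem_coprimeGen (mem_AE_of_coprime hS hE hR.1 hg.1 hg.2) hg.2) hb
  rw [show γ * c * γ⁻¹ = b * (s * (a * γ * c * (a * γ)⁻¹) * s⁻¹) * b⁻¹ by
    rw [show b = a⁻¹ * s⁻¹ by rw [← hbs, mul_inv_cancel_right]]; group]
  exact mul_mem (mul_mem (Subgroup.mem_sup_left hb')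
    (Subgroup.mem_sup_right (conj_mem_autRT hT hR.1 (hPS hs) hmc)))
    (inv_mem (Subgroup.mem_sup_left hb'))

/-- Isomorphisms between fully normalized subgroups respect `JB`. -/
theorem congr_mem_JB (hR : F.IsFullyNormalized R) (hR' : F.IsFullyNormalized R') {e : R ≃* R'}
    (he : IsIso F e) {g : MulAut R} (hg : g ∈ JB F E p R) : MulAut.congr e g ∈ JB F E p R' := by
  have hF := hE.1.2.1
  have hT := hE.1.2.2.2.1
  by_cases hH : HT F T R
  · have hH' := hH.of_isConj hT he.isConj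
    rw [mem_JB_of_HT hH] at hg
    rw [mem_JB_of_HT hH']
    refine (?_ : (coprimeGen p (AE F E R) ⊔ autInducedBy (R ⊔ T) R).map
      (MulAut.congr e).toMonoidHom ≤ _) ⟨g, hg, rfl⟩
    rw [Subgroup.map_sup]
    refine sup_le (le_sup_of_le_left (map_coprimeGen_le _ fun a ha => congr_mem_AE hE he ha)) ?_
    rintro _ ⟨c, hc, rfl⟩
    obtain ⟨e', χ, he', hχ, hv⟩ := exists_normalizer_iso hS hF hR hR' he.isConj
    obtain ⟨x, hx, hxN, hxv⟩ := mem_autInducedBy_iff.1 hc
    have h1 := (congr_mem_autRT hT hR.1 (le_normalizerIn hR.1) hχ (fun r => hv r _)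
      (x := x) ⟨sup_le hR.1 hT.1 hx, hxN⟩ hx hxv).2
    show MulAut.congr e c ∈ _
    rw [show MulAut.congr e c = MulAut.congr (e'.symm.trans e) (MulAut.congr e' c) by
      rw [← congr_trans, show e'.trans (e'.symm.trans e) = e from MulEquiv.ext fun y => by simp],
      congr_self_eq (e'.symm.trans e)]
    exact conj_autRT_mem_JB hS hE hR' (he'.symm.trans he).mem_autGroup h1
  · have hH' : ¬ HT F T R' := fun h => hH (h.of_isConj hT he.symm.isConj)
    obtain ⟨a, ha, hga⟩ := (mem_JB_of_not_HT hH).1 hg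
    obtain ⟨e₁, he₁, he₁v⟩ := exists_ext1_iso hS hF hT hR hR' he
    exact (mem_JB_of_not_HT hH').2
      ⟨MulAut.congr e₁ a, congr_mem_J he₁ ha, hga.congr fun x => (he₁v x).symm⟩

theorem Gen.mem_JB {g : MulAut R} (hg : Gen F E p R g) :
    ∀ {R' : Subgroup Ω} {e : R ≃* R'}, F.IsFullyNormalized R' → IsIso F e →
      MulAut.congr e g ∈ JB F E p R' := by
  have hT := hE.1.2.2.2.1
  induction hg with
  | @seed R g hR hH hg hgp =>
    intro R' e hR' he
    rw [mem_JB_of_HT (hH.of_isConj hT he.isConj)]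
    exact Subgroup.mem_sup_left (mem_coprimeGen (congr_mem_AE hE he hg) (by
      rwa [show orderOf (MulAut.congr e g) = orderOf g from
        orderOf_injective (MulAut.congr e).toMonoidHom (MulAut.congr e).injective g]))
  | @inn R g hR hg =>
    intro R' e hR' he
    exact congr_mem_JB hS hE hR hR' he (autRT_le_JB hS hE hR hg)
  | @res R g a hR hH ha hga _ =>
    intro R' e hR' he
    exact congr_mem_JB hS hE hR hR' he ((mem_JB_of_not_HT hH).2 ⟨a, ha.mem_J, hga⟩)
  | conj e he _ ih =>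
    intro R' e' hR' he'
    rw [← congr_trans]
    exact ih hR' (he.trans he')
  | mul _ _ ih ih' =>
    intro R' e hR' he
    rw [map_mul]
    exact mul_mem (ih hR' he) (ih' hR' he)

/-- **The description of `J` at a fully normalized subgroup.** -/
theorem J_eq_JB (hR : F.IsFullyNormalized R) : J F E p R = JB F E p R := by
  refine le_antisymm ((Subgroup.closure_le _).2 fun g hg => ?_) (JB_le_J hS hE hR)
  have := Gen.mem_JB hS hE hg (e := MulEquiv.refl R) hR (IsIso.refl hR.1)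
  rwa [show MulAut.congr (MulEquiv.refl R) g = g from MulEquiv.ext fun x => rfl] at this

end CfsgLib.FusionComponents
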