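import Cfsg.Agent.FusionComponents.Balance.Climb
import Cfsg.Agent.FusionComponents.ComponentNormal
import Cfsg.Agent.FusionPIndex.Basic
import Cfsg.Agent.FusionPIndex.Limit
import Cfsg.Agent.Fusion.PPowerIndexNormal

/-!
# The balance theorem for layers

The layer of the normalizer system of a fully normalized subgroup is a subsystem of the layer of
the fusion system.
-/

set_option autoImplicit false

universe u

namespace CfsgLib.FusionComponents

open Cfsg Cfsg.FusionSystem CfsgLib.Fusion CfsgLib.FusionPIndex CfsgLib.PPowerIndexNormal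

variable {Ω : Type u} [Group Ω] {S T U X : Subgroup Ω} {F : FusionSystem S} {p : ℕ}

/-- **The layer balance theorem.** -/
theorem layer_balance [Finite S] [Fact p.Prime] (hS : IsPGroup p S) (hF : F.IsSaturated p)
    (hX : F.IsFullyNormalized X) {N : FusionSystem (normalizerIn S X)}
    (hN : F.IsNormalizerSystem X N) {EN : FusionSystem U} (hEN : EN.IsLayerOf N p)
    {E : FusionSystem T} (hE : E.IsLayerOf F p) : EN.IsSubsystemOf E := by
  have hNS := normalizerIn_le S X
  have := finite_of_le hNS
  have hNp : IsPGroup p (normalizerIn S X) := hS.to_le hNS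
  have hUN := hEN.1.1.2.2.2.1.1
  have := finite_of_le hUN
  have hUp : IsPGroup p U := hNp.to_le hUN
  have hTS := hE.1.1.2.2.2.1.1
  obtain ⟨O, hO, hOhyp, hOE⟩ := exists_balance_normal hS hE.1 hX hN
  have hle : EN.IsSubsystemOf O := by
    refine hEN.2.2 _ O hO fun V C hC => ?_
    have hVT := component_le_layer hS hF hE (Nat.card S) (Nat.le_add_left _ _) hX hN C hC
    have hVN := le_of_isSubsystemOf (isSubsystemOf_of_subnormal hC.1)
    rcases component_dichotomy hNp hC hO with h | ⟨-, hCZ⟩
    · exact h
    · have := finite_of_le hVN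
      exact (not_centralized hC.2
        (fun v hv => Subgroup.mem_sup_right (show v ∈ normalizerIn T X from ⟨hVT hv, (hVN hv).2⟩)) hCZ).elim
  -- the layer of the normalizer system is perfect
  have hUT : U ≤ T := by
    have hhU : EN.hyperfocalSubgroup p ≤ U := FusionTransport.hyperfocalSubgroup_le EN p
    obtain ⟨D, hDs, hDi⟩ := PPowerIndex.exists_pPowerIndex (p := p) (Nat.card U) hUp EN hEN.1.1.1
      _ hhU le_rfl (Nat.le_add_left _ _)
    have hDn : D.IsNormalIn EN p := isNormalIn_of_pPowerIndex hUp hEN.1.1.1 hhU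
      (fun s hs t ht => conj_mem_hyperfocal hs ht) hDs hDi
    have hsub : EN.IsSubsystemOf D := by
      refine (layer_isLayerOf_self hNp hEN).2.2 _ D hDn fun V C hC => ?_
      have hCE := isSubsystemOf_of_subnormal hC.1
      rcases component_dichotomy hUp hC hDn with h | ⟨-, hCD⟩
      · exact h
      · have := finite_of_le (le_of_isSubsystemOf hCE)
        exact (not_centralized hC.2 (hC.2.2.1.ge.trans (hyperfocal_mono hCE)) hCD).elim
    exact (le_of_isSubsystemOf hsub).trans (hOhyp EN hle)
  refine isSubsystemOf_of_pResidual hUp hEN.1.1.1 hUT fun P hP => ?_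
  rintro _ ⟨a, ha, rfl⟩
  suffices h : pResidual p (EN.autGroup P) ≤ (E.autGroup P).comap (EN.autGroup P).subtype from h ha
  refine (Subgroup.closure_le _).2 ?_
  rintro ⟨b, hb⟩ hbc
  have hbc' : (orderOf b).Coprime p := by
    have h : (orderOf (⟨b, hb⟩ : EN.autGroup P)).Coprime p := hbc
    rwa [Subgroup.orderOf_mk] at h
  exact hOE P (hP.trans hUT) b
    ((mem_autGroup_iff (hP.trans (le_of_isSubsystemOf hle))).2
      (hle P ((mem_autGroup_iff hP).1 hb))) hbc'

end CfsgLib.FusionComponents
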