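import Cfsg.Agent.FusionComponents.Balance.NFamily
import Cfsg.Agent.FusionLayer.Residual.Normal
import Cfsg.Agent.FusionPIndex.Limit

/-!
# A normal subsystem of the normalizer system lying in `E` modulo inner automorphisms

The `p'`-residual of the system generated by the family of `X N_T(X)` is normal in `N_F(X)`; its
hyperfocal subgroup lies in `T` and its automorphisms of order prime to `p` of subgroups of `T`
are in `E`.
-/

set_option autoImplicit false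
set_option linter.unusedSectionVars false

namespace CfsgLib.FusionComponents

open Cfsg Cfsg.FusionSystem CfsgLib.Fusion CfsgLib.FusionClosed

variable {Ω : Type*} [Group Ω] {S T Z U : Subgroup Ω} {F : FusionSystem S} {E : FusionSystem T}
  {G : FusionSystem U} {p : ℕ}

/-- `φ` is conjugation by an element of `Z` modulo `T`, composed with a map of `E` on `P ⊓ T`. -/
def ModT (E : FusionSystem T) (Z P : Subgroup Ω) (φ : P →* Ω) : Prop :=
  ∃ z ∈ Z, (∀ x : P, (z * (x : Ω) * z⁻¹)⁻¹ * φ x ∈ T) ∧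
    ∃ e ∈ E.Hom (P ⊓ T), ∀ x : ↥(P ⊓ T), φ ⟨x, x.2.1⟩ = z * e x * z⁻¹

/-- The maps of `G` satisfying `ModT` form a system. -/
theorem exists_modSystem [Finite S] (hE : E.IsNormalIn F p) (hZ : Z ≤ S) {D : FusionSystem Z}
    (hD : D.IsSubsystemOf F) :
    ∃ M : FusionSystem Z, ∀ (P : Subgroup Ω) (φ : P →* Ω),
      φ ∈ M.Hom P ↔ φ ∈ D.Hom P ∧ ModT E Z P φ := by
  have hT := hE.1.2.2.2.1
  refine ⟨{
    Hom := fun P => {φ | φ ∈ D.Hom P ∧ ModT E Z P φ}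
    le_of_mem := fun h => D.le_of_mem h.1
    injective_of_mem := fun h => D.injective_of_mem h.1
    conj_mem := ?_
    comp_mem := ?_
    inv_mem := ?_ }, fun P φ => Iff.rfl⟩
  · intro P g hP hg
    refine ⟨D.conj_mem hP hg, g, hg, fun x => ?_, (P ⊓ T).subtype, subtype_mem inf_le_right,
      fun x => rfl⟩
    show (g * (x : Ω) * g⁻¹)⁻¹ * (g * x * g⁻¹) ∈ T
    rw [inv_mul_cancel]
    exact one_mem _
  · rintro P Q φ ψ ⟨hφ, z, hz, hφT, e, he, hev⟩ ⟨hψ, w, hw, hψT, d, hd, hdv⟩ h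
    have hmem : ∀ x : ↥(P ⊓ T), z * e x * z⁻¹ ∈ Q ⊓ T := fun x =>
      ⟨hev x ▸ h _, hev x ▸ stronglyClosed_apply hT (hD P hφ) (x := ⟨x, x.2.1⟩) x.2.2⟩
    obtain ⟨d', hd', hd'v⟩ := exists_conj_E hE hd (z := z⁻¹) (inv_mem (hZ hz)) (R := e.range) (by
      rintro _ ⟨x, rfl⟩
      rw [inv_inv]
      exact hmem x)
    refine ⟨D.comp_mem hφ hψ h, w * z, Z.mul_mem hw hz, fun x => ?_,
      d'.comp (e.codRestrict e.range fun x => ⟨x, rfl⟩), E.comp_mem he hd' fun x => ⟨x, rfl⟩,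
      fun x => ?_⟩
    · show (w * z * (x : Ω) * (w * z)⁻¹)⁻¹ * ψ ⟨φ x, h x⟩ ∈ T
      rw [show (w * z * (x : Ω) * (w * z)⁻¹)⁻¹ * ψ ⟨φ x, h x⟩ =
        w * ((z * (x : Ω) * z⁻¹)⁻¹ * φ x) * w⁻¹ * ((w * φ x * w⁻¹)⁻¹ * ψ ⟨φ x, h x⟩) by group]
      exact mul_mem (FusionFactor.conj_mem_of_stronglyClosed hT (hZ hw) (hφT x))
        (hψT ⟨φ x, h x⟩)
    · show ψ ⟨φ ⟨x, _⟩, _⟩ = w * z * d' ⟨e x, _⟩ * (w * z)⁻¹
      rw [hd'v ⟨e x, ⟨x, rfl⟩⟩]
      have h1 := hdv ⟨z * e x * z⁻¹, hmem x⟩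
      rw [show (⟨φ ⟨(x : Ω), x.2.1⟩, h _⟩ : Q) = ⟨z * e x * z⁻¹, (hmem x).1⟩ from
        Subtype.ext (hev x), h1]
      rw [show (⟨z⁻¹⁻¹ * (e x) * z⁻¹, _⟩ : ↥(Q ⊓ T)) = ⟨z * e x * z⁻¹, hmem x⟩ from
        Subtype.ext (by simp only [inv_inv])]
      group
  · rintro P φ ⟨hφ, z, hz, hφT, e, he, hev⟩
    obtain ⟨ψ, hψ, hψv⟩ := D.inv_mem hφ
    obtain ⟨ε, hε, hεv⟩ := E.inv_mem he
    have hR : ∀ y ∈ φ.range ⊓ T, z⁻¹ * y * z ∈ e.range := by
      rintro y ⟨⟨v, rfl⟩, hy⟩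
      have hv : (v : Ω) ∈ T := (stronglyClosed_apply_iff hT (hD P hφ)).1 hy
      refine ⟨⟨v, v.2, hv⟩, ?_⟩
      rw [show φ v = z * e ⟨v, v.2, hv⟩ * z⁻¹ from hev ⟨v, v.2, hv⟩]
      group
    obtain ⟨e', he', he'v⟩ := exists_conj_E hE hε (hZ hz) hR
    refine ⟨ψ, ⟨hψ, z⁻¹, Z.inv_mem hz, ?_, e', he', fun y => ?_⟩, hψv⟩
    · rintro ⟨_, v, rfl⟩
      rw [hψv]
      show (z⁻¹ * φ v * z⁻¹⁻¹)⁻¹ * (v : Ω) ∈ T
      rw [show (z⁻¹ * φ v * z⁻¹⁻¹)⁻¹ * (v : Ω) =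
        z⁻¹ * ((z * (v : Ω) * z⁻¹)⁻¹ * φ v)⁻¹ * z⁻¹⁻¹ by group]
      exact FusionFactor.conj_mem_of_stronglyClosed hT (inv_mem (hZ hz)) (inv_mem (hφT v))
    · obtain ⟨y, ⟨v, hv⟩, hy⟩ := y
      subst hv
      have hvT : (v : Ω) ∈ T := (stronglyClosed_apply_iff hT (hD P hφ)).1 hy
      rw [he'v, hψv]
      have h1 : (⟨z⁻¹ * φ v * z, hR _ ⟨⟨v, rfl⟩, hy⟩⟩ : e.range) =
          ⟨e ⟨v, v.2, hvT⟩, ⟨_, rfl⟩⟩ := Subtype.ext (by
        show z⁻¹ * φ v * z = _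
        rw [show φ v = z * e ⟨v, v.2, hvT⟩ * z⁻¹ from hev ⟨v, v.2, hvT⟩]
        group)
      rw [h1, hεv]
      group

/-- Automorphisms of order prime to `p` satisfying `ModT` are trivial modulo `T`. -/
theorem tr_of_modT [Finite S] [Fact p.Prime] (hS : IsPGroup p S) (hT : F.StronglyClosed T)
    (hZ : Z ≤ S) {P : Subgroup Ω} {α : MulAut P} (hαp : (orderOf α).Coprime p) {z : Ω}
    (hz : z ∈ Z) (hv : ∀ x : P, (z * (x : Ω) * z⁻¹)⁻¹ * (α x : Ω) ∈ T) : Tr T α := by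
  have hzS : ∀ n : ℕ, z ^ n ∈ S := fun n => pow_mem (hZ hz) n
  have hpow : ∀ (n : ℕ) (x : P), (z ^ n * (x : Ω) * (z ^ n)⁻¹)⁻¹ * ((α ^ n) x : Ω) ∈ T := by
    intro n
    induction n with
    | zero => intro x; simp
    | succ n ih =>
      intro x
      rw [pow_succ' α, MulAut.mul_apply, pow_succ' z]
      rw [show (z * z ^ n * (x : Ω) * (z * z ^ n)⁻¹)⁻¹ * (α ((α ^ n) x) : Ω) =
        z * ((z ^ n * (x : Ω) * (z ^ n)⁻¹)⁻¹ * ((α ^ n) x : Ω)) * z⁻¹ *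
          ((z * ((α ^ n) x : Ω) * z⁻¹)⁻¹ * (α ((α ^ n) x) : Ω)) by group]
      exact mul_mem (FusionFactor.conj_mem_of_stronglyClosed hT (hZ hz) (ih x)) (hv _)
  obtain ⟨n, hn⟩ : ∃ n, n = orderOf α := ⟨_, rfl⟩
  have hone : ∀ x : P, (z ^ n * (x : Ω) * (z ^ n)⁻¹)⁻¹ * (x : Ω) ∈ T := fun x => by
    have := hpow n x
    rwa [hn, pow_orderOf_eq_one, MulAut.one_apply, ← hn] at this
  have hmul : ∀ (m : ℕ) (x : P),
      ((z ^ n) ^ m * (x : Ω) * ((z ^ n) ^ m)⁻¹)⁻¹ * (x : Ω) ∈ T := by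
    intro m
    induction m with
    | zero => intro x; simp
    | succ m ih =>
      intro x
      rw [pow_succ' (z ^ n)]
      rw [show (z ^ n * (z ^ n) ^ m * (x : Ω) * (z ^ n * (z ^ n) ^ m)⁻¹)⁻¹ * (x : Ω) =
        z ^ n * (((z ^ n) ^ m * (x : Ω) * ((z ^ n) ^ m)⁻¹)⁻¹ * x) * (z ^ n)⁻¹ *
          ((z ^ n * (x : Ω) * (z ^ n)⁻¹)⁻¹ * x) by group]
      exact mul_mem (FusionFactor.conj_mem_of_stronglyClosed hT (hzS n) (ih x)) (hone x)
  obtain ⟨j, hj⟩ := hS ⟨z, hZ hz⟩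
  have hzj : orderOf z ∣ p ^ j := orderOf_dvd_of_pow_eq_one (congrArg Subtype.val hj)
  obtain ⟨m, hm⟩ := exists_pow_eq_self_of_coprime (n := n) (x := z)
    (Nat.Coprime.coprime_dvd_right hzj (hn ▸ hαp.pow_right j))
  intro x
  have h1 := hmul m x
  rw [hm] at h1
  rw [show (x : Ω)⁻¹ * (α x : Ω) = ((z * (x : Ω) * z⁻¹)⁻¹ * x)⁻¹ *
    ((z * (x : Ω) * z⁻¹)⁻¹ * (α x : Ω)) by group]
  exact mul_mem (inv_mem h1) (hv x)

/-- Automorphisms of order prime to `p` of subgroups of `T` satisfying `ModT` are in `E`. -/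
theorem mem_autGroup_of_modT [Finite S] [Fact p.Prime] (hS : IsPGroup p S)
    (hE : E.IsNormalIn F p) {P : Subgroup Ω} (hPT : P ≤ T) {α : MulAut P}
    (hαp : (orderOf α).Coprime p) {z : Ω} (hz : z ∈ S) {e : P →* Ω} (he : e ∈ E.Hom P)
    (hv : ∀ x : P, (α x : Ω) = z * e x * z⁻¹) : α ∈ E.autGroup P := by
  have hiter : ∀ n : ℕ, ∃ f ∈ E.Hom P, ∀ x : P, ((α ^ n) x : Ω) = z ^ n * f x * (z ^ n)⁻¹ := by
    intro n
    induction n with
    | zero => exact ⟨P.subtype, subtype_mem hPT, fun x => by simp⟩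
    | succ n ih =>
      obtain ⟨f, hf, hfv⟩ := ih
      obtain ⟨e', he', he'v⟩ := exists_conj_E hE he (z := (z ^ n)⁻¹) (inv_mem (pow_mem hz n))
        (R := f.range) (by
          rintro _ ⟨x, rfl⟩
          rw [inv_inv, ← hfv]
          exact Subtype.mem _)
      refine ⟨e'.comp (f.codRestrict f.range fun x => ⟨x, rfl⟩),
        E.comp_mem hf he' fun x => ⟨x, rfl⟩, fun x => ?_⟩
      show _ = z ^ (n + 1) * e' ⟨f x, _⟩ * (z ^ (n + 1))⁻¹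
      rw [he'v ⟨f x, ⟨x, rfl⟩⟩, pow_succ' α, MulAut.mul_apply, hv, pow_succ' z]
      rw [show (⟨(z ^ n)⁻¹⁻¹ * f x * (z ^ n)⁻¹, _⟩ : P) = (α ^ n) x from
        Subtype.ext (by rw [hfv]; simp only [inv_inv])]
      group
  obtain ⟨n, hn⟩ : ∃ n, n = orderOf α := ⟨_, rfl⟩
  obtain ⟨f, hf, hfv⟩ := hiter n
  obtain ⟨w, hw⟩ : ∃ w, w = (z⁻¹) ^ n := ⟨_, rfl⟩
  have hwS : w ∈ S := hw ▸ pow_mem (inv_mem hz) n
  have hw1 : conjHom P w ∈ E.Hom P := by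
    refine mem_congr hf fun x => ?_
    have h1 := hfv x
    rw [hn, pow_orderOf_eq_one, MulAut.one_apply, ← hn] at h1
    show w * (x : Ω) * w⁻¹ = f x
    rw [hw, inv_pow, h1]
    group
  have hwm : ∀ m : ℕ, conjHom P (w ^ m) ∈ E.Hom P := by
    intro m
    induction m with
    | zero => exact mem_congr (subtype_mem hPT) fun x => by simp [conjHom]
    | succ m ih =>
      obtain ⟨e', he', he'v⟩ := exists_conj_E hE hw1 (z := w ^ m) (pow_mem hwS m)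
        (R := (conjHom P (w ^ m)).range) (by
          rintro _ ⟨x, rfl⟩
          show (w ^ m)⁻¹ * (w ^ m * (x : Ω) * (w ^ m)⁻¹) * w ^ m ∈ P
          rw [show (w ^ m)⁻¹ * (w ^ m * (x : Ω) * (w ^ m)⁻¹) * w ^ m = x by group]
          exact x.2)
      refine mem_congr (E.comp_mem ih he' fun x => ⟨x, rfl⟩) fun x => ?_
      show w ^ (m + 1) * (x : Ω) * (w ^ (m + 1))⁻¹ = e' ⟨_, ⟨x, rfl⟩⟩
      rw [he'v]
      show _ = w ^ m * (w * ((w ^ m)⁻¹ * (w ^ m * (x : Ω) * (w ^ m)⁻¹) * w ^ m) * w⁻¹) * (w ^ m)⁻¹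
      rw [pow_succ]
      group
  obtain ⟨j, hj⟩ := hS ⟨z, hz⟩
  have hzj : (z⁻¹) ^ p ^ j = 1 := by
    rw [inv_pow, show z ^ p ^ j = 1 from congrArg Subtype.val hj, inv_one]
  obtain ⟨m, hm⟩ := exists_pow_eq_self_of_coprime (n := n) (x := z⁻¹)
    (Nat.Coprime.coprime_dvd_right (orderOf_dvd_of_pow_eq_one hzj) (hn ▸ hαp.pow_right j))
  have hzi := hwm m
  rw [hw, hm] at hzi
  obtain ⟨c, hc, hcv⟩ := E.inv_mem hzi
  have hmem : ∀ x : P, e x ∈ (conjHom P z⁻¹).range := fun x => ⟨α x, by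
    show z⁻¹ * (α x : Ω) * z⁻¹⁻¹ = e x
    rw [hv]
    group⟩
  refine mem_autGroup_of_le_of_eq hPT (E.comp_mem he hc hmem) fun x => ?_
  show (α x : Ω) = c ⟨e x, hmem x⟩
  rw [← hcv (α x)]
  refine congrArg c (Subtype.ext ?_)
  show z⁻¹ * (α x : Ω) * z⁻¹⁻¹ = e x
  rw [hv]
  group

variable [Finite S] [Fact p.Prime] (hS : IsPGroup p S) (hE : E.IsNormalIn F p) {X : Subgroup Ω}
  (hX : F.IsFullyNormalized X) {N : FusionSystem (normalizerIn S X)}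
  (hN : F.IsNormalizerSystem X N)
include hS hE hX hN

/-- **The normal subsystem of the normalizer system over `X N_T(X)`.** -/
theorem exists_balance_normal :
    ∃ O : FusionSystem (X ⊔ normalizerIn T X), O.IsNormalIn N p ∧
      (∀ {U : Subgroup Ω} (C : FusionSystem U), C.IsSubsystemOf O → C.hyperfocalSubgroup p ≤ T) ∧
      ∀ P : Subgroup Ω, P ≤ T → ∀ α ∈ O.autGroup P, (orderOf α).Coprime p →
        α ∈ E.autGroup P := by
  have hF := hE.1.2.1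
  have hT := hE.1.2.2.2.1
  have hNs : N.IsSaturated p := isSaturated_normalizerSystem hS hF hX hN
  have hNp : IsPGroup p (normalizerIn S X) := hS.to_le (normalizerIn_le S X)
  have := finite_of_le (normalizerIn_le S X)
  have hfam := JN_family hS hE hX hN
  have hZN := hfam.closed.1
  have hZS : X ⊔ normalizerIn T X ≤ S := hZN.trans (normalizerIn_le S X)
  have := finite_of_le hZS
  obtain ⟨M, hM⟩ := exists_modSystem (Z := X ⊔ normalizerIn T X) hE hZS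
    (D := restrictSystem N hZN) fun P φ hφ => WeakClosed.normSystem_le hN P hφ.1
  have hgen : (genSystem N hZN (JN F E p X)).IsSubsystemOf M := genSystem_le fun P hP g hg => by
    have hPS : P ≤ S := hP.1.trans hZS
    have hgN : g ∈ N.autGroup P := JN_le_autGroup hS hE hX hN (hP.1.trans hZN) hg
    refine (mem_autGroup_iff hP.1).2 ((hM P _).2
      ⟨⟨(mem_autGroup_iff (hP.1.trans hZN)).1 hgN, hP.1, fun x => hP.1 (g x).2⟩, ?_⟩)
    obtain ⟨α, hα, -, hgα⟩ := hg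
    have hPXS : P ⊔ X ≤ S := sup_le hPS hX.1
    obtain ⟨a, ha, _, ⟨r, rfl⟩, hac⟩ :=
      exists_of_mem_Aplus hS hE hPXS (J_le_Aplus hS hE hα)
    obtain ⟨-, haT, b, hb, hba⟩ := ha
    have hrZ : (r : Ω) ∈ X ⊔ normalizerIn T X := sup_le hP.1 le_sup_left r.2
    have hv : ∀ x : P, (g x : Ω) =
        (a (r * ⟨x, Subgroup.mem_sup_left x.2⟩ * r⁻¹) : Ω) := fun x => by
      rw [← hgα x, ← hac]
      rfl
    have hR : ∀ y ∈ P ⊓ T, ((r : Ω)⁻¹)⁻¹ * y * (r : Ω)⁻¹ ∈ (P ⊔ X) ⊓ T := fun y hy => by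
      rw [inv_inv]
      exact ⟨(r * ⟨y, Subgroup.mem_sup_left hy.1⟩ * r⁻¹ : ↥(P ⊔ X)).2,
        FusionFactor.conj_mem_of_stronglyClosed hT (hPXS r.2) hy.2⟩
    obtain ⟨e, he, hev⟩ := exists_conj_E hE ((mem_autGroup_iff inf_le_right).1 hb)
      (z := (r : Ω)⁻¹) (inv_mem (hPXS r.2)) hR
    refine ⟨r, hrZ, fun x => ?_, e, he, fun x => ?_⟩
    · show ((r : Ω) * x * (r : Ω)⁻¹)⁻¹ * (g x : Ω) ∈ T
      rw [hv]
      exact haT (r * ⟨x, Subgroup.mem_sup_left x.2⟩ * r⁻¹)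
    · show (g ⟨x, x.2.1⟩ : Ω) = _
      rw [hv, hev]
      have hm : (r : Ω) * x * (r : Ω)⁻¹ ∈ (P ⊔ X) ⊓ T := by
        have := hR x x.2
        rwa [inv_inv] at this
      rw [show ((((P ⊔ X) ⊓ T).subtype.comp b.toMonoidHom)
        ⟨((r : Ω)⁻¹)⁻¹ * x * (r : Ω)⁻¹, hR x x.2⟩ : Ω) = (b ⟨_, hm⟩ : Ω) from
          congrArg (fun w => (b w : Ω)) (Subtype.ext (by simp only [inv_inv]))]
      rw [← hba ⟨_, hm⟩]
      group
      exact congrArg (fun w => (a w : Ω)) (Subtype.ext (by simp))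
  have hwn := genSystem_isWeaklyNormalIn_self hNp hNs hfam
  have hZp : IsPGroup p ↥(X ⊔ normalizerIn T X) := hS.to_le hZS
  have hO := PPrimeResidual.residual_isPPrimeResidual hZp hwn.1
  obtain ⟨O, hOd⟩ : ∃ O, O = PPrimeResidual.residual (genSystem N hZN (JN F E p X)) p := ⟨_, rfl⟩
  rw [← hOd] at hO
  have hOM : O.IsSubsystemOf M := fun P φ hφ => hgen P (hO.2.1.1 P hφ)
  have hmod : ∀ (P : Subgroup Ω) (α : MulAut P), P ≤ X ⊔ normalizerIn T X → α ∈ O.autGroup P →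
      ModT E (X ⊔ normalizerIn T X) P (P.subtype.comp α.toMonoidHom) := fun P α hP hα =>
    ((hM P _).1 (hOM P ((mem_autGroup_iff hP).1 hα))).2
  refine ⟨O, FusionLayer.isNormalIn_of_isPPrimeResidual hNp hwn hO, fun {U} C hC => ?_,
    fun P hPT α hα hαp => ?_⟩
  · refine (Subgroup.closure_le _).2 ?_
    rintro _ ⟨P, α, x, hP, hα, rfl⟩
    have hUZ : U ≤ X ⊔ normalizerIn T X :=
      le_left (hC U (subtype_mem le_rfl : U.subtype ∈ C.Hom U))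
    let L : Subgroup (C.autGroup P) :=
      { carrier := {a | Tr T (a : MulAut P)}
        one_mem' := Tr.one
        mul_mem' := fun ha hb => Tr.mul ha hb
        inv_mem' := fun ha => Tr.inv ha }
    suffices hle : pResidual p (C.autGroup P) ≤ L from hle hα x
    refine (Subgroup.closure_le _).2 ?_
    rintro ⟨a, ha⟩ hac
    have hac' : (orderOf a).Coprime p := by
      have h : (orderOf (⟨a, ha⟩ : C.autGroup P)).Coprime p := hac
      rwa [Subgroup.orderOf_mk] at h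
    have haO : a ∈ O.autGroup P :=
      (mem_autGroup_iff (hP.trans hUZ)).2 (hC P ((mem_autGroup_iff hP).1 ha))
    obtain ⟨z, hz, hzT, -⟩ := hmod P a (hP.trans hUZ) haO
    exact tr_of_modT hS hT hZS hac' hz hzT
  · by_cases hPZ : P ≤ X ⊔ normalizerIn T X
    · obtain ⟨z, hz, -, e, he, hev⟩ := hmod P α hPZ hα
      have hle : P ≤ P ⊓ T := le_inf le_rfl hPT
      exact mem_autGroup_of_modT hS hE hPT hαp (hZS hz) (restrict_mem he hle)
        fun x => hev ⟨x, hle x.2⟩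
    · rw [autGroup_eq_bot hPZ, Subgroup.mem_bot] at hα
      rw [hα]
      exact one_mem _

end CfsgLib.FusionComponents
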