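import Cfsg.Agent.FusionComponents.Balance.Extend
import Cfsg.Agent.WeakClosed.Normalizer

/-!
# The family in a normalizer system

Let `X` be fully normalized, `N` its normalizer system and `Z = X N_T(X)`. The automorphisms of
`P ≤ Z` induced by the elements of `J (P X)` preserving `X` form a family in `N` over `Z`.
-/

set_option autoImplicit false
set_option linter.unusedSectionVars false

namespace CfsgLib.FusionComponents

open Cfsg Cfsg.FusionSystem CfsgLib.Fusion CfsgLib.FusionClosed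

variable {Ω : Type*} [Group Ω] {S T : Subgroup Ω} {F : FusionSystem S} {E : FusionSystem T}
  {X : Subgroup Ω} {p : ℕ}

/-- An automorphism of order prime to `p` fixing a subgroup containing its centralizer is
trivial. -/
theorem eq_one_of_fix_coprime {W P : Subgroup Ω} [Finite W] [Fact p.Prime] (hW : IsPGroup p W)
    (hPW : P ≤ W) (hC : centralizerIn W P ≤ P) {k : MulAut W} (hk : (orderOf k).Coprime p)
    (hfix : ∀ x : P, k ⟨x, hPW x.2⟩ = ⟨x, hPW x.2⟩) : k = 1 := by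
  induction hd : Nat.card W - Nat.card P using Nat.strong_induction_on generalizing P with
  | _ d ih =>
  rcases hPW.eq_or_lt with rfl | hlt
  · exact MulEquiv.ext fun x => hfix x
  obtain ⟨Q, hQ⟩ : ∃ Q, Q = normalizerIn W P := ⟨_, rfl⟩
  have hPQ : P < Q := hQ ▸ lt_normalizerIn hW hlt
  have hQW : Q ≤ W := hQ ▸ normalizerIn_le W P
  have hdisp : ∀ x : W, (x : Ω) ∈ Q → (x : Ω)⁻¹ * (k x : Ω) ∈ P := by
    intro x hx
    refine hC (mem_centralizerIn'.2 ⟨W.mul_mem (W.inv_mem x.2) (k x).2, fun q hq => ?_⟩)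
    have hxq : (x : Ω) * q * (x : Ω)⁻¹ ∈ P := by
      rw [hQ] at hx
      exact (Subgroup.mem_normalizer_iff.1 hx.2 q).1 hq
    have h1 : (k (x * ⟨q, hPW hq⟩ * x⁻¹) : Ω) = (x : Ω) * q * (x : Ω)⁻¹ :=
      congrArg Subtype.val (hfix ⟨_, hxq⟩)
    rw [map_mul, map_mul, map_inv, hfix ⟨q, hq⟩] at h1
    simp only [Subgroup.coe_mul, Subgroup.coe_inv] at h1
    calc (x : Ω)⁻¹ * (k x : Ω) * q * ((x : Ω)⁻¹ * (k x : Ω))⁻¹
        = (x : Ω)⁻¹ * ((k x : Ω) * q * (k x : Ω)⁻¹) * x := by group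
      _ = q := by rw [h1]; group
  have hkQ : ∀ x : Q, (k ⟨x, hQW x.2⟩ : Ω) ∈ Q := fun x => by
    rw [← mul_inv_cancel_left (x : Ω) (k ⟨x, hQW x.2⟩ : Ω)]
    exact Q.mul_mem x.2 (hPQ.le (hdisp ⟨x, hQW x.2⟩ x.2))
  have hiter : ∀ (n : ℕ) (x : W) (hx : (x : Ω) ∈ Q),
      ((k ^ n) x : W) = x * (x⁻¹ * k x) ^ n := by
    intro n
    induction n with
    | zero => intro x _; simp
    | succ n ihn =>
      intro x hx
      have hf : k (x⁻¹ * k x) = x⁻¹ * k x := hfix ⟨_, hdisp x hx⟩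
      rw [pow_succ', MulAut.mul_apply, ihn x hx, map_mul, map_pow, hf, pow_succ', ← mul_assoc,
        mul_inv_cancel_left]
  have hfixQ : ∀ x : Q, k ⟨x, hQW x.2⟩ = ⟨x, hQW x.2⟩ := by
    intro x
    obtain ⟨w, hw⟩ : ∃ w : W, w = (⟨x, hQW x.2⟩ : W)⁻¹ * k ⟨x, hQW x.2⟩ := ⟨_, rfl⟩
    have h1 := hiter (orderOf k) ⟨x, hQW x.2⟩ x.2
    rw [pow_orderOf_eq_one, MulAut.one_apply, left_eq_mul, ← hw] at h1
    obtain ⟨j, hj⟩ := hW w
    have h2 : w = 1 := orderOf_eq_one_iff.1 (Nat.eq_one_of_dvd_coprimes (hk.pow_right j)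
      (orderOf_dvd_of_pow_eq_one h1) (orderOf_dvd_of_pow_eq_one hj))
    rw [hw, inv_mul_eq_one] at h2
    exact h2.symm
  have h1 := card_lt_of_lt hPQ hQW
  have h2 := Subgroup.card_le_of_le hQW
  exact ih (Nat.card W - Nat.card Q) (by omega) hQW
    (((centralizerIn_anti hPQ.le).trans hC).trans hPQ.le) hfixQ rfl

/-- The automorphisms of `P` induced by the elements of `J (P ⊔ X)` preserving `X`. -/
def JN (F : FusionSystem S) (E : FusionSystem T) (p : ℕ) (X P : Subgroup Ω) :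
    Subgroup (MulAut P) where
  carrier := {g | ∃ α ∈ J F E p (P ⊔ X), (∀ x : ↥(P ⊔ X), (α x : Ω) ∈ X ↔ (x : Ω) ∈ X) ∧
    Agrees le_sup_left g α}
  one_mem' := ⟨1, one_mem _, fun _ => Iff.rfl, Agrees.one _⟩
  mul_mem' := fun ⟨α, hα, hαX, hgα⟩ ⟨β, hβ, hβX, hgβ⟩ =>
    ⟨α * β, mul_mem hα hβ, fun x => (hαX (β x)).trans (hβX x), hgα.mul hgβ⟩
  inv_mem' := fun ⟨α, hα, hαX, hgα⟩ => ⟨α⁻¹, inv_mem hα, fun x => by
    have h := hαX (α⁻¹ x)
    rw [MulAut.apply_inv_self] at h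
    exact h.symm, hgα.inv⟩

theorem stab_iff {W : Subgroup Ω} [Finite X] (hXW : X ≤ W) {α : MulAut W}
    (h : ∀ x : X, (α ⟨x, hXW x.2⟩ : Ω) ∈ X) (x : W) : (α x : Ω) ∈ X ↔ (x : Ω) ∈ X := by
  refine ⟨fun hx => ?_, fun hx => h ⟨x, hx⟩⟩
  have hinj : Function.Injective fun y : X => (⟨(α ⟨y, hXW y.2⟩ : Ω), h y⟩ : X) := fun a b e => by
    have h2 : (⟨a, hXW a.2⟩ : W) = ⟨b, hXW b.2⟩ :=
      α.injective (Subtype.ext (congrArg (fun w : X => (w : Ω)) e :))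
    exact Subtype.ext (congrArg (fun w : W => (w : Ω)) h2 :)
  obtain ⟨y, hy⟩ := Finite.injective_iff_surjective.1 hinj ⟨_, hx⟩
  have h1 : (⟨y, hXW y.2⟩ : W) = x :=
    α.injective (Subtype.ext (congrArg (fun w : X => (w : Ω)) hy :))
  rw [← h1]
  exact y.2

/-- Transport of a map of `E` by conjugation. -/
theorem exists_conj_E (hE : E.IsNormalIn F p) {A R : Subgroup Ω} {e : A →* Ω} (he : e ∈ E.Hom A)
    {z : Ω} (hz : z ∈ S) (hR : ∀ y ∈ R, z⁻¹ * y * z ∈ A) :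
    ∃ e' ∈ E.Hom R, ∀ y : R, e' y = z * e ⟨_, hR y y.2⟩ * z⁻¹ := by
  have hsi := strongInvariant_of_invariant hE.1.2.2
  have hT := hE.1.2.2.2.1
  obtain ⟨χ, hχ, hv⟩ := hsi A T (le_left he) le_rfl e he (apply_mem he) (conjHom T z)
    (F.conj_mem hT.1 hz)
  have hle : R ≤ (A.subgroupOf T).map (conjHom T z) := fun y hy =>
    ⟨⟨z⁻¹ * y * z, le_left he (hR y hy)⟩, hR y hy, by
      show z * (z⁻¹ * y * z) * z⁻¹ = y
      group⟩
  refine ⟨restrictHom χ hle, restrict_mem hχ hle, fun y => ?_⟩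
  have e1 : conjHom T z (Subgroup.inclusion (le_left he) ⟨_, hR y y.2⟩) = (y : Ω) := by
    show z * (z⁻¹ * (y : Ω) * z) * z⁻¹ = y
    group
  show χ (Subgroup.inclusion hle y) = _
  rw [show Subgroup.inclusion hle y =
    (⟨conjHom T z (Subgroup.inclusion (le_left he) ⟨_, hR y y.2⟩), e1.symm ▸ hle y.2⟩ :
      ((A.subgroupOf T).map (conjHom T z) : Subgroup Ω)) from Subtype.ext e1.symm]
  exact hv _ _

section

variable [Finite S] [Fact p.Prime] (hS : IsPGroup p S) (hE : E.IsNormalIn F p)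
  (hX : F.IsFullyNormalized X) {N : FusionSystem (normalizerIn S X)}
  (hN : F.IsNormalizerSystem X N)
include hS hE hX hN

theorem Z_le : X ⊔ normalizerIn T X ≤ normalizerIn S X :=
  sup_le (le_normalizerIn hX.1) (inf_le_inf_right _ hE.1.2.2.2.1.1)

theorem Z_le_sup {P : Subgroup Ω} (hP : P ≤ X ⊔ normalizerIn T X) : P ⊔ X ≤ X ⊔ T :=
  sup_le (hP.trans (sup_le_sup_left (normalizerIn_le T X) X)) le_sup_left

theorem Z_le_sup' (P : Subgroup Ω) :
    X ⊔ normalizerIn T X ≤ (P ⊔ X) ⊔ T :=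
  sup_le (le_sup_right.trans le_sup_left) ((normalizerIn_le T X).trans le_sup_right)

theorem mem_Z_of_sup {x : Ω} (hx : x ∈ X ⊔ T) (hn : x ∈ normalizerIn S X) :
    x ∈ X ⊔ normalizerIn T X := by
  obtain ⟨r, hr, t, ht, rfl⟩ := exists_rt hE.1.2.2.2.1 hX.1 hx
  refine Subgroup.mul_mem_sup hr ⟨ht, ?_⟩
  rw [← inv_mul_cancel_left r t]
  exact mul_mem (Subgroup.inv_mem _ (Subgroup.le_normalizer hr)) hn.2

/-- A map on a subgroup containing `X` and preserving it respects `X N_T(X)`. -/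
theorem apply_mem_Z {W : Subgroup Ω} (hXW : X ≤ W) {ψ : W →* Ω} (hψ : ψ ∈ F.Hom W)
    (hψX : ∀ x : W, (x : Ω) ∈ X → ψ x ∈ X) {x : W} (hn : ψ x ∈ normalizerIn S X)
    (hx : (x : Ω) ∈ X ⊔ T) : ψ x ∈ X ⊔ normalizerIn T X := by
  obtain ⟨r, hr, t, ht, hrt⟩ := exists_rt hE.1.2.2.2.1 hX.1 hx
  refine mem_Z_of_sup hS hE hX hN ?_ hn
  have htW : t ∈ W := by
    rw [← inv_mul_cancel_left r t, hrt]
    exact W.mul_mem (W.inv_mem (hXW hr)) x.2
  rw [show x = ⟨r, hXW hr⟩ * ⟨t, htW⟩ from Subtype.ext hrt.symm, map_mul]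
  exact Subgroup.mul_mem_sup (hψX _ hr) (stronglyClosed_apply hE.1.2.2.2.1 hψ ht)

theorem Z_stronglyClosed : N.StronglyClosed (X ⊔ normalizerIn T X) := by
  refine ⟨Z_le hS hE hX hN, fun P hP φ hφ x => ?_⟩
  obtain ⟨ω, hω, hωP, hωX⟩ := WeakClosed.normSystem_ext hN hφ
  rw [← hωP]
  exact apply_mem_Z hS hE hX hN le_sup_right hω
    (fun y hy => hωX.le ⟨y, hy, rfl⟩) (hωP x ▸ apply_mem hφ x)
    (Z_le_sup hS hE hX hN hP (Subgroup.mem_sup_left x.2))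

theorem JN_le_autGroup {P : Subgroup Ω} (hP : P ≤ normalizerIn S X) :
    JN F E p X P ≤ N.autGroup P := by
  rintro g ⟨α, hα, hαX, hgα⟩
  have hPX : P ⊔ X ≤ normalizerIn S X := sup_le hP (le_normalizerIn hX.1)
  have hαI := (mem_autGroup_iff (hPX.trans (normalizerIn_le S X))).1 (J_le_autGroup hS hE hα)
  refine mem_autGroup_of_le_of_eq hP (φ := restrictHom ((P ⊔ X).subtype.comp α.toMonoidHom)
    le_sup_left) (restrict_mem (WeakClosed.mem_normSystem hN hαI le_sup_right hPX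
      (fun x => hPX (α x).2) ?_) _) fun x => (hgα x).symm
  ext y
  constructor
  · rintro ⟨x, hx, rfl⟩
    exact (hαX x).2 hx
  · intro hy
    obtain ⟨x, hx⟩ := α.surjective ⟨y, Subgroup.mem_sup_right hy⟩
    exact ⟨x, (hαX x).1 (hx.symm ▸ hy), congrArg Subtype.val hx⟩

theorem JN_covariant {P Q : Subgroup Ω} {e : P ≃* Q} (he : IsIso N e) {g : MulAut P}
    (hg : g ∈ JN F E p X P) : MulAut.congr e g ∈ JN F E p X Q := by
  obtain ⟨α, hα, hαX, hgα⟩ := hg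
  obtain ⟨ω, hω, hωP, hωX⟩ := WeakClosed.normSystem_ext hN he
  obtain ⟨eX, heX, heXv⟩ := Fusion.exists_iso hω (Q := Q ⊔ X) (by
    rw [range_extension hωP hωX, range_subtype_comp])
  have hiff : ∀ x : ↥(P ⊔ X), (eX x : Ω) ∈ X ↔ (x : Ω) ∈ X := fun x => by
    rw [heXv]
    constructor
    · intro h
      exact (mem_imgHom_apply_iff (F.injective_of_mem hω)).1 (hωX.ge h)
    · exact fun h => hωX.le ⟨x, h, rfl⟩
  refine ⟨MulAut.congr eX α, congr_mem_J heX hα, fun y => ?_, hgα.congr fun x =>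
    ((heXv _).trans (hωP x)).symm⟩
  obtain ⟨x, rfl⟩ := eX.surjective y
  rw [congr_apply, hiff, hiff]
  exact hαX x

theorem JN_aut_le {P : Subgroup Ω} (hP : P ≤ X ⊔ normalizerIn T X) :
    autInducedBy (X ⊔ normalizerIn T X) P ≤ JN F E p X P := by
  intro c hc
  obtain ⟨z, hz, hzN, hzv⟩ := mem_autInducedBy_iff.1 hc
  have hPX : P ⊔ X ≤ S :=
    sup_le ((hP.trans (Z_le hS hE hX hN)).trans (normalizerIn_le S X)) hX.1
  have hzX : z ∈ Subgroup.normalizer (X : Set Ω) := (Z_le hS hE hX hN hz).2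
  have hzPX : z ∈ Subgroup.normalizer ((P ⊔ X : Subgroup Ω) : Set Ω) := by
    have := finite_of_le hPX
    refine SatCriterion.mem_normalizer_of_finite ?_
    suffices h : P ⊔ X ≤ (P ⊔ X).comap (MulAut.conj z).toMonoidHom from fun y hy => h hy
    exact sup_le (fun y hy => Subgroup.mem_sup_left ((Subgroup.mem_normalizer_iff.1 hzN y).1 hy))
      fun y hy => Subgroup.mem_sup_right ((Subgroup.mem_normalizer_iff.1 hzX y).1 hy)
  exact ⟨(P ⊔ X).normalizerMonoidHom ⟨z, hzPX⟩, autRT_le_J hS hE hPX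
    (mem_autInducedBy_iff.2 ⟨z, Z_le_sup' hS hE hX hN P hz, hzPX, fun _ => rfl⟩),
    fun x => (Subgroup.mem_normalizer_iff.1 hzX x).symm, fun x => (hzv x).symm⟩

theorem JN_sylow {P : Subgroup Ω} (hP : InH N (X ⊔ normalizerIn T X) P)
    (hPn : N.IsFullyNormalized P) :
    IsSylowIn p (JN F E p X P) (autInducedBy (X ⊔ normalizerIn T X) P) := by
  have hF := hE.1.2.1
  have hT := hE.1.2.2.2.1
  have hNs : N.IsSaturated p := isSaturated_normalizerSystem hS hF hX hN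
  have hNp : IsPGroup p (normalizerIn S X) := hS.to_le (normalizerIn_le S X)
  have := finite_of_le (normalizerIn_le S X)
  obtain ⟨Z, hZ⟩ : ∃ Z, Z = X ⊔ normalizerIn T X := ⟨_, rfl⟩
  have hPZ : P ≤ Z := hZ ▸ hP.1
  have hZN : Z ≤ normalizerIn S X := hZ ▸ Z_le hS hE hX hN
  have hPN : P ≤ normalizerIn S X := hPZ.trans hZN
  have hPXN : P ⊔ X ≤ normalizerIn S X := sup_le hPN (le_normalizerIn hX.1)
  have hPXS : P ⊔ X ≤ S := hPXN.trans (normalizerIn_le S X)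
  have hPS : P ≤ S := le_sup_left.trans hPXS
  have hPXT : P ⊔ X ≤ X ⊔ T := Z_le_sup hS hE hX hN hP.1
  have := finite_of_le hPXS
  have := finite_mulAut (V := P ⊔ X)
  have := finite_of_le hPS
  have := finite_mulAut (V := P)
  let A : Subgroup (MulAut ↥(P ⊔ X)) :=
    { carrier := {α | α ∈ J F E p (P ⊔ X) ∧ (∀ x : ↥(P ⊔ X), (α x : Ω) ∈ X ↔ (x : Ω) ∈ X) ∧
        ∃ g, Agrees le_sup_left g α}
      one_mem' := ⟨one_mem _, fun _ => Iff.rfl, 1, Agrees.one _⟩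
      mul_mem' := fun {α β} ⟨hα, hαX, g, hgα⟩ ⟨hβ, hβX, g', hgβ⟩ =>
        ⟨mul_mem hα hβ, fun x => (hαX (β x)).trans (hβX x), g * g', hgα.mul hgβ⟩
      inv_mem' := fun {α} ⟨hα, hαX, g, hgα⟩ => ⟨inv_mem hα, fun x => by
        have h := hαX (α⁻¹ x)
        rw [MulAut.apply_inv_self] at h
        exact h.symm, g⁻¹, hgα.inv⟩ }
  have hA' : ∀ a : A, ∃ g, Agrees le_sup_left g (a : MulAut ↥(P ⊔ X)) := fun a => a.2.2.2
  choose r hr using hA'
  let f : A →* MulAut P := MonoidHom.mk' r fun a b => (hr (a * b)).unique ((hr a).mul (hr b))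
  have hfr : f.range = JN F E p X P := by
    refine le_antisymm ?_ fun g hg => ?_
    · rintro _ ⟨a, rfl⟩
      exact ⟨a, a.2.1, a.2.2.1, hr a⟩
    · obtain ⟨α, hα, hαX, hgα⟩ := hg
      exact ⟨⟨α, hα, hαX, g, hgα⟩, (hr ⟨α, hα, hαX, g, hgα⟩).unique hgα⟩
  obtain ⟨K, hKA, hKp, hK⟩ := exists_isSylowIn p A
  obtain ⟨V, θ, hθ, hV, hθK⟩ := exists_conj_autRT hS hE hPXS (fun a ha => (hKA ha).1) hKp
  obtain ⟨eX, heX, heXv⟩ := exists_iso_restrict (φ := V.subtype.comp θ.toMonoidHom) hθ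
    (le_sup_right : X ≤ P ⊔ X)
  have hVle : V ≤ imgHom (V.subtype.comp θ.toMonoidHom) X ⊔ T :=
    le_sup_of_iso hT hX.1 le_sup_right hPXT hθ
  generalize hX' : imgHom (V.subtype.comp θ.toMonoidHom) X = X' at eX heX heXv hVle
  have hX'S : X' ≤ S := heX.le_right
  obtain ⟨hXa, hXr⟩ := automized_receptive hS hF hX
  obtain ⟨χ, hχ, hχN, himg⟩ := exists_map_normalizerIn hS hXa hXr (isConj_symm heX.isConj)
  have hX'N : X' ≤ normalizerIn S X' := le_normalizerIn hX'S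
  have hVN : ∀ v ∈ V, v ∈ normalizerIn S X' := by
    intro v hv
    obtain ⟨y, hy⟩ := θ.surjective ⟨v, hv⟩
    refine ⟨hV.1 hv, ?_⟩
    have h1 := map_mem_normalizer (ψ := V.subtype.comp θ.toMonoidHom)
      (le_sup_right : X ≤ P ⊔ X) (g := y) (hPXN y.2).2
    rw [hX', show (V.subtype.comp θ.toMonoidHom) y = v from congrArg Subtype.val hy] at h1
    exact h1
  have hX'iff : ∀ x : ↥(P ⊔ X), (θ x : Ω) ∈ X' ↔ (x : Ω) ∈ X := fun x => by
    rw [← hX']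
    exact mem_imgHom_apply_iff (φ := V.subtype.comp θ.toMonoidHom) (F.injective_of_mem hθ)
  have hφm : restrictHom χ hVN ∈ F.Hom V := restrict_mem hχ hVN
  obtain ⟨φ, hφdef⟩ : ∃ φ, φ = (restrictHom χ hVN).comp θ.toMonoidHom := ⟨_, rfl⟩
  have hφ : φ ∈ F.Hom (P ⊔ X) := hφdef ▸ hθ.comp_hom hφm
  have hφv : ∀ x, φ x = χ ⟨(θ x : Ω), hVN _ (θ x).2⟩ := fun x => by rw [hφdef]; rfl
  have hφX : imgHom φ X = X := by
    ext y
    constructor
    · rintro ⟨x, hx, rfl⟩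
      rw [hφv]
      exact himg.le ⟨_, (hX'iff x).2 hx, rfl⟩
    · intro hy
      obtain ⟨w, hw, rfl⟩ := himg.ge hy
      obtain ⟨u, hu⟩ := eX.surjective ⟨w, hw⟩
      refine ⟨⟨u, Subgroup.mem_sup_right u.2⟩, u.2, (hφv _).trans (congrArg χ (Subtype.ext ?_))⟩
      exact (heXv u).symm.trans (congrArg Subtype.val hu)
  have hφN : φ ∈ N.Hom (P ⊔ X) := WeakClosed.mem_normSystem hN hφ le_sup_right hPXN
    (fun x => hφv x ▸ hχN _) hφX
  obtain ⟨ε, hε, hεv⟩ := exists_iso_restrict hφN (le_sup_left : P ≤ P ⊔ X)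
  generalize imgHom φ P = P' at ε hε hεv
  have hP'N : P' ≤ normalizerIn S X := hε.le_right
  obtain ⟨hPa, hPr⟩ := automized_receptive hNp hNs hPn
  obtain ⟨ω, hω, -, hωimg⟩ := exists_map_normalizerIn hNp hPa hPr (isConj_symm hε.isConj)
  have hP'NN : P' ≤ normalizerIn (normalizerIn S X) P' := le_normalizerIn hP'N
  obtain ⟨eω, heω, heωv⟩ := Fusion.exists_iso (restrict_mem hω hP'NN)
    ((range_restrictHom ω hP'NN).trans hωimg)
  have hmap := hK.map_hom f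
  rw [hfr] at hmap
  have hKJ : (K.subgroupOf A).map f ≤ JN F E p X P := hfr ▸ Subgroup.map_le_range f _
  obtain ⟨-, hmax⟩ := (isSylowIn_iff hKJ).1 hmap
  refine isSylowIn_of_card_max (JN_aut_le hS hE hX hN hP.1)
    (isPGroup_autInducedBy (hS.to_le ((hZ ▸ hZN).trans (normalizerIn_le S X))) P)
    fun Y hY hYp => (hmax Y hY hYp).trans ?_
  refine card_le_of_conj_mem (a := (ε.trans eω : MulAut P)) fun g hg => ?_
  obtain ⟨k, hk, rfl⟩ := hg
  obtain ⟨x, hx, hxN, hxv⟩ := mem_autInducedBy_iff.1 (hθK _ (Subgroup.mem_subgroupOf.1 hk))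
  have hxn : x ∈ normalizerIn S X' := by
    refine ⟨sup_le hV.1 hT.1 hx, ?_⟩
    have := finite_of_le hX'S
    refine SatCriterion.mem_normalizer_of_finite fun y hy => ?_
    obtain ⟨u, hu⟩ := eX.surjective ⟨y, hy⟩
    have hyv : y = (θ ⟨u, Subgroup.mem_sup_right u.2⟩ : Ω) :=
      (congrArg Subtype.val hu).symm.trans (heXv u)
    rw [hyv, ← hxv (θ _), congr_apply, hX'iff]
    exact (k.2.2.1 _).2 u.2
  obtain ⟨x', hx'⟩ : ∃ x', x' = χ ⟨x, hxn⟩ := ⟨_, rfl⟩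
  have hx'Z : x' ∈ Z := by
    rw [hx', hZ]
    refine mem_Z_of_sup hS hE hX hN ?_ (hχN _)
    obtain ⟨r, hr', t, ht, hrt⟩ := exists_rt hT hX'S (sup_le hVle le_sup_right hx)
    have htN : t ∈ normalizerIn S X' := by
      rw [← inv_mul_cancel_left r t, hrt]
      exact (normalizerIn S X').mul_mem ((normalizerIn S X').inv_mem (hX'N hr')) hxn
    rw [show (⟨x, hxn⟩ : normalizerIn S X') = ⟨r, hX'N hr'⟩ * ⟨t, htN⟩ from Subtype.ext hrt.symm,
      map_mul]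
    exact Subgroup.mul_mem_sup (himg.le ⟨_, hr', rfl⟩) (stronglyClosed_apply hT hχ ht)
  have hx'c : ∀ q : P, (ε (f k q) : Ω) = x' * (ε q : Ω) * x'⁻¹ := fun q => by
    rw [hεv, hεv, hφv, hφv, hx', ← map_inv, ← map_mul, ← map_mul]
    refine congrArg χ (Subtype.ext ?_)
    rw [show (⟨((f k) q : Ω), Subgroup.mem_sup_left ((f k) q).2⟩ : ↥(P ⊔ X)) =
      (k : MulAut ↥(P ⊔ X)) ⟨q, Subgroup.mem_sup_left q.2⟩ from Subtype.ext (hr k q).symm]
    show (θ ((k : MulAut ↥(P ⊔ X)) _) : Ω) = _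
    rw [← congr_apply (e := θ)]
    exact hxv _
  have hx'n : x' ∈ normalizerIn (normalizerIn S X) P' := by
    refine ⟨hZN hx'Z, ?_⟩
    have := finite_of_le (hP'N.trans (normalizerIn_le S X))
    refine SatCriterion.mem_normalizer_of_finite fun y hy => ?_
    obtain ⟨q, hq⟩ := ε.surjective ⟨y, hy⟩
    rw [show y = (ε q : Ω) from (congrArg Subtype.val hq).symm, ← hx'c]
    exact Subtype.mem _
  rw [← congr_self_eq, congr_trans]
  refine Subgroup.subset_closure ⟨ω ⟨x', hx'n⟩,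
    apply_mem_stronglyClosed (Z_stronglyClosed hS hE hX hN) hω (x := ⟨x', hx'n⟩) (hZ ▸ hx'Z),
    fun y => ?_⟩
  obtain ⟨u, rfl⟩ := eω.surjective y
  obtain ⟨q, rfl⟩ := ε.surjective u
  rw [congr_apply, congr_apply, heωv, heωv, restrictHom_apply, restrictHom_apply, ← map_inv,
    ← map_mul, ← map_mul]
  exact congrArg ω (Subtype.ext (hx'c q))

theorem JN_restrict {W R : Subgroup Ω} (h : R ≤ W) (hW : W ≤ X ⊔ normalizerIn T X)
    {a : MulAut W} (ha : a ∈ JN F E p X W) {b : MulAut R}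
    (hab : Agrees h b a) : b ∈ JN F E p X R := by
  have hT := hE.1.2.2.2.1
  obtain ⟨α, hα, hαX, haα⟩ := ha
  have hWS : W ⊔ X ≤ S :=
    sup_le ((hW.trans (Z_le hS hE hX hN)).trans (normalizerIn_le S X)) hX.1
  have hle : R ⊔ X ≤ W ⊔ X := sup_le_sup_right h X
  have := finite_of_le hWS
  have := finite_of_le (hle.trans hWS)
  have := finite_of_le hX.1
  have hmem : ∀ x (hx : x ∈ R ⊔ X), (α ⟨x, hle hx⟩ : Ω) ∈ R ⊔ X := by
    suffices h' : R ⊔ X ≤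
        (((R ⊔ X).subgroupOf (W ⊔ X)).comap α.toMonoidHom).map (W ⊔ X).subtype by
      intro x hx
      obtain ⟨y, hy, hyx⟩ := h' hx
      rw [show (⟨x, hle hx⟩ : ↥(W ⊔ X)) = y from Subtype.ext hyx.symm]
      exact hy
    refine sup_le (fun x hx => ⟨⟨x, hle (Subgroup.mem_sup_left hx)⟩, ?_, rfl⟩)
      fun x hx => ⟨⟨x, Subgroup.mem_sup_right hx⟩, ?_, rfl⟩
    · show (α ⟨x, _⟩ : Ω) ∈ R ⊔ X
      rw [haα ⟨x, h hx⟩, hab ⟨x, hx⟩]
      exact Subgroup.mem_sup_left (Subtype.mem _)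
    · exact Subgroup.mem_sup_right ((hαX ⟨x, _⟩).2 hx)
  obtain ⟨β, -, hβv⟩ := exists_aut_restrict
    ((mem_autGroup_iff hWS).1 (J_le_autGroup hS hE hα)) hle hmem
  have hRXS : R ⊔ X ≤ S := hle.trans hWS
  have hres := (resProp_and_extProp hS hE hRXS).1 (W ⊔ X) hle
    ((Z_le_sup hS hE hX hN hW).trans (sup_le_sup_right le_sup_right T)) α hα β
    fun x => (hβv x).symm
  exact ⟨β, hres, stab_iff le_sup_right fun x => (hβv _).symm ▸ (hαX _).2 x.2,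
    fun x => (hβv _).trans ((haα ⟨x, h x.2⟩).trans (hab x))⟩

theorem JN_extend {P : Subgroup Ω} (hP : InH N (X ⊔ normalizerIn T X) P)
    (hPn : N.IsFullyNormalized P) {g : MulAut P} (hg : g ∈ JN F E p X P)
    (hgp : (orderOf g).Coprime p) {Q : Subgroup (MulAut P)} (hI : Inn P ≤ Q)
    (hQ : Q ≤ autInducedBy (X ⊔ normalizerIn T X) P) (hgQ : ∀ z ∈ Q, g * z * g⁻¹ ∈ Q) :
    ∃ hPW : P ≤ kNormalizer (X ⊔ normalizerIn T X) P Q,
      ∃ β ∈ JN F E p X (kNormalizer (X ⊔ normalizerIn T X) P Q), Agrees hPW g β := by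
  have hF := hE.1.2.1
  have hT := hE.1.2.2.2.1
  have hNs : N.IsSaturated p := isSaturated_normalizerSystem hS hF hX hN
  have hNp : IsPGroup p (normalizerIn S X) := hS.to_le (normalizerIn_le S X)
  have := finite_of_le (normalizerIn_le S X)
  obtain ⟨Z, hZ⟩ : ∃ Z, Z = X ⊔ normalizerIn T X := ⟨_, rfl⟩
  rw [← hZ] at hQ ⊢
  have hPZ : P ≤ Z := hZ ▸ hP.1
  have hZN : Z ≤ normalizerIn S X := hZ ▸ Z_le hS hE hX hN
  have hZS : Z ≤ S := hZN.trans (normalizerIn_le S X)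
  obtain ⟨W, hW⟩ : ∃ W, W = kNormalizer Z P Q := ⟨_, rfl⟩
  rw [← hW]
  have hPW : P ≤ W := hW ▸ le_kNormalizer hPZ hI
  refine ⟨hPW, ?_⟩
  have hWZ : W ≤ Z := hW ▸ kNormalizer_le Q
  have hWn : W ≤ Subgroup.normalizer (P : Set Ω) :=
    hW ▸ (kNormalizer_le_normalizerIn Q).trans inf_le_right
  -- extension in `N`
  obtain ⟨-, hPr⟩ := automized_receptive hNp hNs hPn
  obtain ⟨ψ, hψ, hψv⟩ := exists_extension (T := W) hPr
    ((mem_autGroup_iff (hPZ.trans hZN)).1 (JN_le_autGroup hS hE hX hN (hPZ.trans hZN) hg))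
    fun x hx => by
      obtain ⟨-, z, hz, hzv⟩ := mem_kNormalizer.1 (hW ▸ hx)
      refine mem_extender_of_congr ⟨hZN (hWZ hx), hWn hx⟩ hzv ?_
      rw [congr_self_eq]
      exact autInducedBy_mono hZN P (hQ (hgQ z hz))
  have hψW : ∀ x (hx : x ∈ W), ψ ⟨x, hx⟩ ∈ W := by
    intro x hx
    obtain ⟨-, z, hz, hzv⟩ := mem_kNormalizer.1 (hW ▸ hx)
    refine hW.ge (mem_kNormalizer.2 ⟨hZ.ge ((Z_stronglyClosed hS hE hX hN).2 W (hZ ▸ hWZ) ψ hψ _),
      g * z * g⁻¹, hgQ z hz, fun q => ?_⟩)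
    obtain ⟨r, rfl⟩ := g.surjective q
    show (g (z (g⁻¹ (g r))) : Ω) = _
    rw [MulAut.inv_apply_self, ← hψv _ (hPW (Subtype.mem _)), ← hψv r (hPW r.2), ← map_inv,
      ← map_mul, ← map_mul]
    exact congrArg ψ (Subtype.ext (hzv r))
  obtain ⟨ω, hω, hωW, hωX⟩ := WeakClosed.normSystem_ext hN hψ
  have hWXN : W ⊔ X ≤ normalizerIn S X := sup_le (hWZ.trans hZN) (le_normalizerIn hX.1)
  have hWXS : W ⊔ X ≤ S := hWXN.trans (normalizerIn_le S X)
  have := finite_of_le hWXS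
  have := finite_mulAut (V := W ⊔ X)
  obtain ⟨b₀, hb₀, hb₀v⟩ := exists_aut_restrict hω le_rfl fun x hx => by
    have h1 : ω ⟨x, hx⟩ ∈ ψ.range ⊔ X := range_extension hωW hωX ▸ ⟨_, rfl⟩
    refine sup_le_sup_right ?_ X h1
    rintro _ ⟨w, rfl⟩
    exact hψW w w.2
  have hPWX : P ≤ W ⊔ X := hPW.trans le_sup_left
  obtain ⟨k, hk, hkg⟩ := FusionLayer.exists_coprime_pow hgp b₀
  have hgb : Agrees hPWX g (b₀ ^ k) := by
    have h1 : Agrees hPWX g b₀ := fun x =>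
      (hb₀v _).trans ((hωW ⟨x, hPW x.2⟩).trans (hψv x _))
    have h2 := h1.pow k
    rwa [hkg] at h2
  have hbF : b₀ ^ k ∈ F.autGroup (W ⊔ X) := pow_mem hb₀ k
  have hbX : b₀ ^ k ∈ SatCriterion.stab F (W ⊔ X) X := by
    have := finite_of_le hX.1
    refine Subgroup.pow_mem _ (?_ : b₀ ∈ SatCriterion.stab F (W ⊔ X) X) k
    refine ⟨hb₀, stab_iff le_sup_right fun x => ?_⟩
    rw [hb₀v]
    exact hωX.le ⟨⟨x, _⟩, x.2, rfl⟩
  generalize b₀ ^ k = b at hk hgb hbF hbX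
  -- the restriction to `P ⊔ X`
  obtain ⟨α₀, hα₀, hα₀X, hgα₀⟩ := hg
  obtain ⟨R, hR⟩ : ∃ R, R = P ⊔ X := ⟨_, rfl⟩
  have hPR : P ≤ R := hR ▸ le_sup_left
  have hXR : X ≤ R := hR ▸ le_sup_right
  have hRWX : R ≤ W ⊔ X := hR ▸ sup_le_sup_right hPW X
  have hRS : R ≤ S := hRWX.trans hWXS
  have := finite_of_le hRS
  have := finite_mulAut (V := R)
  have hbR : ∀ x (hx : x ∈ R), (b ⟨x, hRWX hx⟩ : Ω) ∈ R := by
    suffices h' : R ≤ ((R.subgroupOf (W ⊔ X)).comap b.toMonoidHom).map (W ⊔ X).subtype by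
      intro x hx
      obtain ⟨y, hy, hyx⟩ := h' hx
      rw [show (⟨x, hRWX hx⟩ : ↥(W ⊔ X)) = y from Subtype.ext hyx.symm]
      exact hy
    conv_lhs => rw [hR]
    refine sup_le (fun x hx => ⟨⟨x, hRWX (hPR hx)⟩, ?_, rfl⟩)
      fun x hx => ⟨⟨x, hRWX (hXR hx)⟩, hXR ((hbX.2 _).2 hx), rfl⟩
    show (b ⟨x, _⟩ : Ω) ∈ R
    rw [hgb ⟨x, hx⟩]
    exact hPR (Subtype.mem _)
  obtain ⟨a, haF, hav⟩ := exists_aut_restrict ((mem_autGroup_iff hWXS).1 hbF) hRWX hbR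
  have hab : Agrees hRWX a b := fun x => (hav x).symm
  have hap := hab.coprime hk
  have hag : Agrees hPR g a := fun x => (hav _).trans (hgb x)
  have haX : ∀ x : R, (a x : Ω) ∈ X ↔ (x : Ω) ∈ X := fun x => by
    rw [hav]
    exact hbX.2 _
  -- `a` lies in `J R`
  have haJ : a ∈ J F E p R := by
    subst hR
    have hCP : centralizerIn (P ⊔ X) P ≤ P :=
      (inf_le_inf_right _ (hZ ▸ sup_le hPZ (hZ ▸ le_sup_left))).trans
        (hP.2 P (isConj_refl (hPZ.trans hZN)))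
    let K₀ : Subgroup (MulAut ↥(P ⊔ X)) :=
      { carrier := {c | c ∈ F.autGroup (P ⊔ X) ∧ Agrees le_sup_left (1 : MulAut P) c}
        one_mem' := ⟨one_mem _, Agrees.one _⟩
        mul_mem' := fun {c d} hc hd => ⟨mul_mem hc.1 hd.1, by
          have := hc.2.mul hd.2
          rwa [one_mul] at this⟩
        inv_mem' := fun {c} hc => ⟨inv_mem hc.1, by
          have := hc.2.inv
          rwa [inv_one] at this⟩ }
    have hK₀p : IsPGroup p K₀ := by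
      rintro ⟨c, hc⟩
      obtain ⟨u, v, -, hv, ⟨j, hj⟩, hvp, huv⟩ := LocalStructure.exists_pPart_mul (p := p) c
      have hvK : v ∈ K₀ := Subgroup.zpowers_le.2 hc hv
      have hv1 : v = 1 := eq_one_of_fix_coprime (hS.to_le hRS) le_sup_left hCP hvp
        fun x => Subtype.ext (hvK.2 x)
      refine ⟨j, Subtype.ext ?_⟩
      show c ^ p ^ j = 1
      rw [← huv, hv1, mul_one, ← hj, pow_orderOf_eq_one]
    refine mem_of_coprime_sup hK₀p
      (fun z hz y hy => J_conj_mem hRS hz.1 hy) ?_ hap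
    have h1 : α₀⁻¹ * a ∈ K₀ := ⟨mul_mem (inv_mem (J_le_autGroup hS hE hα₀)) haF, by
      have := hgα₀.inv.mul hag
      rwa [inv_mul_cancel] at this⟩
    have h2 := mul_mem (Subgroup.mem_sup_left hα₀ : α₀ ∈ J F E p (P ⊔ X) ⊔ K₀)
      (Subgroup.mem_sup_right h1)
    rwa [mul_inv_cancel_left] at h2
  -- transport to a fully normalized conjugate
  obtain ⟨Q', hQ'⟩ : ∃ Q', Q' = autInducedBy (W ⊔ X) R := ⟨_, rfl⟩
  have hWXn : W ⊔ X ≤ Subgroup.normalizer (R : Set Ω) := by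
    intro x hx
    refine SatCriterion.mem_normalizer_of_finite ?_
    suffices h : R ≤ R.comap (MulAut.conj x).toMonoidHom from fun y hy => h hy
    have hgen : W ⊔ X ≤ Subgroup.normalizer (R : Set Ω) := by
      refine sup_le (fun w hw => SatCriterion.mem_normalizer_of_finite ?_)
        (hXR.trans Subgroup.le_normalizer)
      suffices h : R ≤ R.comap (MulAut.conj w).toMonoidHom from fun y hy => h hy
      conv_lhs => rw [hR]
      exact sup_le (fun y hy => hPR ((Subgroup.mem_normalizer_iff.1 (hWn hw) y).1 hy))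
        fun y hy => hXR ((Subgroup.mem_normalizer_iff.1 (hZN (hWZ hw)).2 y).1 hy)
    exact fun y hy => (Subgroup.mem_normalizer_iff.1 (hgen hx) y).1 hy
  have hWXR : W ⊔ X ≤ R ⊔ T := sup_le
    (hWZ.trans (hZ ▸ (Z_le_sup' hS hE hX hN P).trans (hR ▸ le_rfl)))
    (hXR.trans le_sup_left)
  obtain ⟨R₁, hc, hR₁⟩ := exists_fullyNormalized (F := F) hRS
  obtain ⟨hR₁a, hR₁r⟩ := automized_receptive hS hF hR₁
  obtain ⟨χ, hχ, -, himg⟩ := exists_map_normalizerIn hS hR₁a hR₁r hc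
  have hRN : R ≤ normalizerIn S R := le_normalizerIn hRS
  obtain ⟨e, he, hev⟩ := Fusion.exists_iso (restrict_mem hχ hRN)
    ((range_restrictHom χ hRN).trans himg)
  have hWXNR : W ⊔ X ≤ normalizerIn S R := le_inf hWXS hWXn
  obtain ⟨eW, heW, heWv⟩ := exists_iso_restrict hχ hWXNR
  generalize hW₁ : imgHom χ (W ⊔ X) = W₁ at eW heW heWv
  obtain ⟨M, hM⟩ : ∃ M, M = kNormalizer (R₁ ⊔ T) R₁ (Q'.map (MulAut.congr e).toMonoidHom) :=
    ⟨_, rfl⟩
  have hQ'T : Q'.map (MulAut.congr e).toMonoidHom ≤ autInducedBy (R₁ ⊔ T) R₁ := by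
    rintro _ ⟨z, hz, rfl⟩
    obtain ⟨x, hx, hxN, hxv⟩ := mem_autInducedBy_iff.1 (hQ' ▸ hz)
    exact (congr_mem_autRT hT hRS hRN hχ (fun r => (hev r).symm) (x := x) (hWXNR hx) (hWXR hx)
      hxv).2
  have hW₁M : W₁ = M := by
    refine le_antisymm (fun y hy => ?_) fun y hy => ?_
    · rw [← hW₁] at hy
      obtain ⟨⟨x, hxN⟩, hx, rfl⟩ := hy
      have hz : R.normalizerMonoidHom ⟨x, hxN.2⟩ ∈ Q' :=
        hQ' ▸ mem_autInducedBy_iff.2 ⟨x, hx, hxN.2, fun _ => rfl⟩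
      refine hM.ge (mem_kNormalizer.2 ⟨(congr_mem_autRT hT hRS hRN hχ (fun r => (hev r).symm) hxN
        (hWXR hx) (c := R.normalizerMonoidHom ⟨x, hxN.2⟩) fun _ => rfl).1, _, ⟨_, hz, rfl⟩,
        fun r => ?_⟩)
      obtain ⟨q, rfl⟩ := e.surjective r
      show (MulAut.congr e _ (e q) : Ω) = _
      rw [congr_apply, hev, hev, restrictHom_apply, restrictHom_apply, ← map_inv, ← map_mul,
        ← map_mul]
      rfl
    · obtain ⟨hyRT, _, ⟨z, hz, rfl⟩, hyv⟩ := mem_kNormalizer.1 (hM ▸ hy)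
      obtain ⟨x, hx, hxN, hxv⟩ := mem_autInducedBy_iff.1 (hQ' ▸ hz)
      obtain ⟨d, hd⟩ : ∃ d, d = (χ ⟨x, hWXNR hx⟩)⁻¹ * y := ⟨_, rfl⟩
      have hχx := (congr_mem_autRT hT hRS hRN hχ (fun r => (hev r).symm) (x := x) (hWXNR hx)
        (hWXR hx) hxv).1
      have hdRT : d ∈ R₁ ⊔ T := hd ▸ (R₁ ⊔ T).mul_mem ((R₁ ⊔ T).inv_mem hχx) hyRT
      have hdS : d ∈ S := sup_le hR₁.1 hT.1 hdRT
      have hdC : ∀ r ∈ R₁, d * r * d⁻¹ = r := by
        intro r hr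
        obtain ⟨q, hq⟩ := e.surjective ⟨r, hr⟩
        have hr' : r = (e q : Ω) := (congrArg Subtype.val hq).symm
        have h1 : y * r * y⁻¹ = χ ⟨x, hWXNR hx⟩ * r * (χ ⟨x, hWXNR hx⟩)⁻¹ := by
          rw [hr', ← hyv (e q), show (MulAut.congr e).toMonoidHom z (e q) = e (z q) from
            congr_apply z q, hev, hev, restrictHom_apply, restrictHom_apply, ← map_inv, ← map_mul,
            ← map_mul]
          exact congrArg χ (Subtype.ext (hxv q))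
        calc d * r * d⁻¹
            = (χ ⟨x, hWXNR hx⟩)⁻¹ * (y * r * y⁻¹) * χ ⟨x, hWXNR hx⟩ := by rw [hd]; group
          _ = r := by rw [h1]; group
      obtain ⟨X₁, hX₁⟩ : ∃ X₁, X₁ = imgHom χ X := ⟨_, rfl⟩
      have hX₁R : X₁ ≤ R₁ := hX₁ ▸ himg ▸ imgHom_mono χ hXR
      have hR₁T : R₁ ≤ X₁ ⊔ T := by
        rw [← himg]
        rintro _ ⟨w, hw, rfl⟩
        obtain ⟨r, hr, t, ht, hrt⟩ := exists_rt hT hX.1
          ((hR ▸ Z_le_sup hS hE hX hN hP.1 : R ≤ X ⊔ T) hw)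
        have htw : t ∈ normalizerIn S R := by
          rw [← inv_mul_cancel_left r t, hrt]
          exact (normalizerIn S R).mul_mem ((normalizerIn S R).inv_mem (hRN (hXR hr))) w.2
        rw [show w = ⟨r, hRN (hXR hr)⟩ * ⟨t, htw⟩ from Subtype.ext hrt.symm, map_mul]
        exact Subgroup.mul_mem_sup (hX₁ ▸ ⟨_, hr, rfl⟩) (stronglyClosed_apply hT hχ ht)
      have hcX₁ : F.IsConj X X₁ := hX₁ ▸ isConj_restrict hχ (hXR.trans hRN)
      obtain ⟨hXa, hXr⟩ := automized_receptive hS hF hX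
      obtain ⟨κ, hκ, hκN, hκimg⟩ := exists_map_normalizerIn hS hXa hXr (isConj_symm hcX₁)
      have hX₁N : X₁ ≤ normalizerIn S X₁ := le_normalizerIn (hX₁R.trans hR₁.1)
      have hR₁N : R₁ ≤ normalizerIn S X₁ := by
        rw [← himg, hX₁]
        rintro _ ⟨w, hw, rfl⟩
        exact ⟨apply_mem hχ w, map_mem_normalizer (hXR.trans hRN) (g := w)
          ((sup_le (hPZ.trans hZN) (le_normalizerIn hX.1)) (hR ▸ hw)).2⟩
      have hdN : d ∈ normalizerIn S X₁ := centralizerIn_le_normalizerIn S X₁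
        (mem_centralizerIn'.2 ⟨hdS, fun r hr => hdC r (hX₁R hr)⟩)
      have hχR : ∀ q : R, χ ⟨q, hRN q.2⟩ ∈ normalizerIn S X₁ := fun q =>
        hR₁N (himg.le ⟨_, q.2, rfl⟩)
      obtain ⟨φ, hφdef⟩ : ∃ φ, φ = κ.comp ((restrictHom χ hRN).codRestrict _ hχR) := ⟨_, rfl⟩
      have hφ : φ ∈ F.Hom R := hφdef ▸ F.comp_mem (restrict_mem hχ hRN) hκ hχR
      have hφv : ∀ q, φ q = κ ⟨χ ⟨q, hRN q.2⟩, hχR q⟩ := fun q => by rw [hφdef]; rfl
      have hφX : imgHom φ X = X := by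
        ext u
        constructor
        · rintro ⟨q, hq, rfl⟩
          rw [hφv]
          exact hκimg.le ⟨⟨χ ⟨q, hRN q.2⟩, hχR q⟩, hX₁.ge ⟨⟨q, hRN q.2⟩, hq, rfl⟩, rfl⟩
        · intro hu
          obtain ⟨w, hw, rfl⟩ := hκimg.ge hu
          obtain ⟨v, hv, hvw⟩ := hX₁.le hw
          exact ⟨⟨v, hXR hv⟩, hv, (hφv _).trans (congrArg κ (Subtype.ext hvw))⟩
      have hφN : φ ∈ N.Hom R := WeakClosed.mem_normSystem hN hφ hXR
        (hRWX.trans hWXN) (fun q => hφv q ▸ hκN _) hφX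
      have hconjP : N.IsConj P (imgHom φ P) := isConj_restrict hφN hPR
      have hκd : κ ⟨d, hdN⟩ ∈ centralizerIn (X ⊔ normalizerIn T X) (imgHom φ P) := by
        refine mem_centralizerIn'.2 ⟨mem_Z_of_sup hS hE hX hN ?_ (hκN _), ?_⟩
        · obtain ⟨r, hr, t, ht, hrt⟩ := exists_rt hT (hX₁R.trans hR₁.1)
            (sup_le hR₁T le_sup_right hdRT)
          have htN : t ∈ normalizerIn S X₁ := by
            rw [← inv_mul_cancel_left r t, hrt]
            exact (normalizerIn S X₁).mul_mem ((normalizerIn S X₁).inv_mem (hX₁N hr)) hdN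
          rw [show (⟨d, hdN⟩ : normalizerIn S X₁) = ⟨r, hX₁N hr⟩ * ⟨t, htN⟩ from
            Subtype.ext hrt.symm, map_mul]
          exact Subgroup.mul_mem_sup (hκimg.le ⟨_, hr, rfl⟩) (stronglyClosed_apply hT hκ ht)
        · rintro _ ⟨q, -, rfl⟩
          rw [hφv, ← map_inv, ← map_mul, ← map_mul]
          exact congrArg κ (Subtype.ext (hdC _ (himg.le ⟨_, q.2, rfl⟩)))
      obtain ⟨q, -, hq⟩ := hP.2 _ hconjP hκd
      rw [hφv] at hq
      have hdχ : χ ⟨q, hRN q.2⟩ = d := congrArg Subtype.val (F.injective_of_mem hκ hq)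
      rw [← hW₁]
      refine ⟨⟨x, hWXNR hx⟩ * ⟨q, hRN q.2⟩, (W ⊔ X).mul_mem hx (hRWX q.2), ?_⟩
      rw [map_mul, hdχ, hd, mul_inv_cancel_left]
  have hIn : Inn R₁ ≤ Q'.map (MulAut.congr e).toMonoidHom := fun y hy =>
    ⟨MulAut.congr e.symm y, hQ'.ge (autInducedBy_mono hRWX R (Inn_eq R ▸ congr_Inn hy)),
      (MulAut.congr e).apply_symm_apply y⟩
  have haQ : ∀ z ∈ Q', a * z * a⁻¹ ∈ Q' := by
    intro z hz
    obtain ⟨x, hx, -, hxv⟩ := mem_autInducedBy_iff.1 (hQ' ▸ hz)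
    rw [hQ']
    refine Subgroup.subset_closure ⟨_, (b ⟨x, hx⟩).2, fun r => ?_⟩
    obtain ⟨q, rfl⟩ := a.surjective r
    show (a (z (a⁻¹ (a q))) : Ω) = _
    rw [MulAut.inv_apply_self, ← hab, ← hab q, ← Subgroup.coe_inv, ← Subgroup.coe_mul,
      ← Subgroup.coe_mul, ← map_inv, ← map_mul, ← map_mul]
    exact congrArg (fun w => (b w : Ω)) (Subtype.ext (hxv q))
  obtain ⟨hR₁M, β₁, hβ₁, -, hβ₁a⟩ : ∃ (h : R₁ ≤ M), ∃ β ∈ J F E p M,
      (orderOf β).Coprime p ∧ Agrees h (MulAut.congr e a) β := by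
    rw [hM]
    refine (resProp_and_extProp hS hE hR₁.1).2 hR₁ _ (congr_mem_J he haJ) ?_ _ hIn hQ'T ?_
    · rwa [show orderOf (MulAut.congr e a) = orderOf a from
        orderOf_injective (MulAut.congr e).toMonoidHom (MulAut.congr e).injective a]
    · rintro _ ⟨z, hz, rfl⟩
      refine ⟨a * z * a⁻¹, haQ z hz, ?_⟩
      show MulAut.congr e (a * z * a⁻¹) = MulAut.congr e a * MulAut.congr e z * _
      rw [map_mul, map_mul, map_inv]
  subst hW₁M
  have haβ : Agrees hRWX a (MulAut.congr eW.symm β₁) := by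
    have h1 := hβ₁a.congr (h' := hRWX) (e := eW.symm) (e₀ := e.symm) fun y => by
      obtain ⟨r, rfl⟩ := e.surjective y
      rw [MulEquiv.symm_apply_apply, show (⟨(e r : Ω), hR₁M (e r).2⟩ : W₁) =
        eW ⟨r, hRWX r.2⟩ from Subtype.ext (by rw [heWv, hev]; rfl), MulEquiv.symm_apply_apply]
    rwa [congr_symm_congr] at h1
  have hβJ : MulAut.congr eW.symm β₁ ∈ J F E p (W ⊔ X) := congr_mem_J heW.symm hβ₁
  generalize MulAut.congr eW.symm β₁ = β at haβ hβJ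
  have := finite_of_le hX.1
  have hβX : ∀ x : ↥(W ⊔ X), (β x : Ω) ∈ X ↔ (x : Ω) ∈ X := stab_iff le_sup_right fun x => by
    have h1 := haβ ⟨x, hXR x.2⟩
    rw [h1]
    exact (haX _).2 x.2
  have hgβ : Agrees hPWX g β := hag.trans haβ
  have hβW : ∀ x (hx : x ∈ W), (β ⟨x, Subgroup.mem_sup_left hx⟩ : Ω) ∈ W := by
    intro x hx
    obtain ⟨-, z, hz, hzv⟩ := mem_kNormalizer.1 (hW ▸ hx)
    refine hW.ge (mem_kNormalizer.2 ⟨sup_le hWZ (hZ ▸ le_sup_left) (Subtype.mem _),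
      g * z * g⁻¹, hgQ z hz, fun q => ?_⟩)
    obtain ⟨r, rfl⟩ := g.surjective q
    show (g (z (g⁻¹ (g r))) : Ω) = _
    rw [MulAut.inv_apply_self, ← hgβ, ← hgβ r, ← Subgroup.coe_inv, ← Subgroup.coe_mul,
      ← Subgroup.coe_mul, ← map_inv, ← map_mul, ← map_mul]
    exact congrArg (fun w => (β w : Ω)) (Subtype.ext (hzv r))
  obtain ⟨β₀, -, hβ₀v⟩ := exists_aut_restrict
    ((mem_autGroup_iff hWXS).1 (J_le_autGroup hS hE hβJ)) le_sup_left hβW
  exact ⟨β₀, ⟨β, hβJ, hβX, fun x => (hβ₀v x).symm⟩, fun x => (hβ₀v _).trans (hgβ x)⟩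

/-- **The family in the normalizer system.** -/
theorem JN_family : Family N p (X ⊔ normalizerIn T X) (JN F E p X) where
  closed := Z_stronglyClosed hS hE hX hN
  le_aut _ hP := JN_le_autGroup hS hE hX hN (hP.1.trans (Z_le hS hE hX hN))
  covariant _ _ _ _ he _ ha := JN_covariant hS hE hX hN he ha
  aut_le _ hP := JN_aut_le hS hE hX hN hP.1
  sylow _ hP hn := JN_sylow hS hE hX hN hP hn
  restrict _ _ h _ hW _ ha _ _ hab := JN_restrict hS hE hX hN h hW ha hab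
  extend _ hP hn _ hg hgp _ hI hQ hgQ := JN_extend hS hE hX hN hP hn hg hgp hI hQ hgQ

end

end CfsgLib.FusionComponents
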