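import Cfsg.Agent.FusionComponents.Balance.Basic
import Cfsg.Agent.FusionResidual.Residual
import Cfsg.Agent.FusionComponents.InterFamily

/-!
# The automorphisms at subgroups containing their centralizer in `T`

A `p'`-element of `AE F E R` normalizing a subgroup of `Aut_S(R)` centralizes it modulo the
automorphisms induced by `R T`; 
-/

set_option autoImplicit false

namespace CfsgLib.FusionComponents

open Cfsg Cfsg.FusionSystem CfsgLib.Fusion CfsgLib.FusionClosed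

variable {Ω : Type*} [Group Ω] {S T : Subgroup Ω} {F : FusionSystem S} {E : FusionSystem T}
  {R R' M : Subgroup Ω} {p : ℕ}

/-- `Aut_{RT}(R)` is normalized by `Aut_S(R)`. -/
theorem conj_mem_autRT [Finite S] (hT : F.StronglyClosed T) (_hR : R ≤ S) {s z : MulAut R}
    (hs : s ∈ autInducedBy S R) (hz : z ∈ autInducedBy (R ⊔ T) R) :
    s * z * s⁻¹ ∈ autInducedBy (R ⊔ T) R := by
  obtain ⟨u, hu, huN, huv⟩ := mem_autInducedBy_iff.1 hs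
  obtain ⟨x, hx, -, hxv⟩ := mem_autInducedBy_iff.1 hz
  have hcomap : R ⊔ T ≤ (R ⊔ T).comap (MulAut.conj u).toMonoidHom := sup_le
    (fun r hr => Subgroup.mem_sup_left ((Subgroup.mem_normalizer_iff.1 huN r).1 hr))
    fun t ht => Subgroup.mem_sup_right (FusionFactor.conj_mem_of_stronglyClosed hT hu ht)
  refine Subgroup.subset_closure ⟨u * x * u⁻¹, hcomap hx, fun r => ?_⟩
  obtain ⟨q, rfl⟩ := s.surjective r
  show (s (z (s⁻¹ (s q))) : Ω) = _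
  rw [MulAut.inv_apply_self, huv, hxv, huv]
  group

/-- An automorphism of order prime to `p` is determined modulo `E` by its restriction to a subgroup
containing its centralizer in `T`. -/
theorem aut_mem_of_restrict [Finite S] [Fact p.Prime] (hS : IsPGroup p S)
    (hE : E.IsNormalIn F p) {R₀ M₀ : Subgroup Ω} (hRM : R₀ ≤ M₀) (hM : M₀ ≤ T)
    (hn : M₀ ≤ Subgroup.normalizer (R₀ : Set Ω)) (hH : InH F T R₀) {ψ : MulAut M₀}
    (hψ : ψ ∈ F.autGroup M₀) (hψp : (orderOf ψ).Coprime p) {b : MulAut R₀}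
    (hb : b ∈ E.autGroup R₀) (hbψ : Agrees hRM b ψ) : ψ ∈ E.autGroup M₀ := by
  obtain ⟨⟨hEs, hF, hinv⟩, -⟩ := id hE
  have hT := hinv.2.1
  have hsi := strongInvariant_of_invariant hinv
  have hTp : IsPGroup p T := hS.to_le hT.1
  have := finite_of_le hT.1
  have hR₀S := hH.1.trans hT.1
  obtain ⟨Q, hcQ, hQ⟩ := exists_fullyNormalized (F := F) hR₀S
  obtain ⟨ha, hr⟩ := automized_receptive hS hF hQ
  obtain ⟨χ, hχ, -, himg⟩ := exists_map_normalizerIn hS ha hr hcQ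
  have hMN : M₀ ≤ normalizerIn S R₀ := le_inf (hM.trans hT.1) hn
  obtain ⟨e₀, he₀, he₀v⟩ := Fusion.exists_iso (restrict_mem hχ (le_normalizerIn hR₀S))
    ((range_restrictHom χ _).trans himg)
  obtain ⟨e, he, hev⟩ := exists_iso_restrict hχ hMN
  generalize hM' : imgHom χ M₀ = M' at e he hev
  have hQM : Q ≤ M' := by
    rw [← hM', ← himg]
    exact imgHom_mono χ hRM
  have hM'T : M' ≤ T := by
    rw [← hM']
    rintro _ ⟨x, hx, rfl⟩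
    exact stronglyClosed_apply hT hχ (hM hx)
  have hM'n : M' ≤ Subgroup.normalizer (Q : Set Ω) := by
    rw [← hM', ← himg]
    rintro _ ⟨x, hx, rfl⟩
    exact map_mem_normalizer (le_normalizerIn hR₀S) x.2.2
  have hQT : Q ≤ T := hQM.trans hM'T
  have hQH : InH F T Q := hH.of_isConj hT hcQ
  have hagree : Agrees hQM (MulAut.congr e₀ b) (MulAut.congr e ψ) :=
    hbψ.congr fun x => (he₀v x).trans (hev ⟨x, hRM x.2⟩).symm
  have hψ' : MulAut.congr e ψ ∈ F.autGroup M' := congr_mem_autGroup he hψ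
  have hb' : MulAut.congr e₀ b ∈ E.autGroup Q := congr_mem_of_invariant hsi hH.1 hQT he₀ hb
  have hψp' : (orderOf (MulAut.congr e ψ)).Coprime p := by
    rwa [show orderOf (MulAut.congr e ψ) = orderOf ψ from
      orderOf_injective (MulAut.congr e).toMonoidHom (MulAut.congr e).injective ψ]
  suffices key : MulAut.congr e ψ ∈ E.autGroup M' by
    have h2 := congr_mem_of_invariant hsi hM'T hM he.symm key
    rwa [congr_symm_congr] at h2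
  generalize MulAut.congr e ψ = ψ' at hagree hψ' hψp' ⊢
  generalize MulAut.congr e₀ b = b' at hagree hb'
  obtain ⟨-, hQr⟩ := automized_receptive hTp hEs
    (FusionLayer.isFullyNormalized_of_big hS hF hinv.1 hT hQT hQ)
  have hM'S := hM'T.trans hT.1
  have := finite_of_le hM'S
  obtain ⟨ε, hε, hεv⟩ := exists_extension (T := M') hQr ((mem_autGroup_iff hQT).1 hb')
    fun x hx => by
      refine mem_extender_of_congr ⟨hM'T hx, hM'n hx⟩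
        (α := Q.normalizerMonoidHom ⟨x, hM'n hx⟩) (fun _ => rfl) ?_
      rw [congr_self_eq]
      refine Subgroup.subset_closure ⟨(ψ' ⟨x, hx⟩ : Ω), hM'T (Subtype.mem _), fun q => ?_⟩
      obtain ⟨r, rfl⟩ := b'.surjective q
      show (b' (Q.normalizerMonoidHom ⟨x, hM'n hx⟩ (b'⁻¹ (b' r))) : Ω) = _
      rw [MulAut.inv_apply_self, ← hagree, ← hagree r, ← Subgroup.coe_inv, ← Subgroup.coe_mul,
        ← Subgroup.coe_mul, ← map_inv, ← map_mul, ← map_mul]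
      exact congrArg (fun w => (ψ' w : Ω)) (Subtype.ext rfl)
  have hmem : ∀ x : M', ε x ∈ M' := by
    intro x
    have h1 : (ψ' x : Ω)⁻¹ * ε x ∈ centralizerIn T Q := by
      refine mem_centralizerIn'.2 ⟨mul_mem (inv_mem (hM'T (ψ' x).2)) (apply_mem hε x),
        fun q hq => ?_⟩
      obtain ⟨r, hr⟩ := b'.surjective ⟨q, hq⟩
      have hxr : (x : Ω) * r * (x : Ω)⁻¹ ∈ Q :=
        (Subgroup.mem_normalizer_iff.1 (hM'n x.2) r).1 r.2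
      have hre : (⟨(x : Ω) * r * (x : Ω)⁻¹, hQM hxr⟩ : M') = x * ⟨r, hQM r.2⟩ * x⁻¹ :=
        Subtype.ext rfl
      have e1 : ε x * (b' r : Ω) * (ε x)⁻¹ = (ψ' x : Ω) * (b' r : Ω) * (ψ' x : Ω)⁻¹ :=
        calc ε x * (b' r : Ω) * (ε x)⁻¹ = ε ⟨_, hQM hxr⟩ := by
              rw [hre, map_mul, map_mul, map_inv, hεv r (hQM r.2)]
          _ = (b' ⟨_, hxr⟩ : Ω) := hεv ⟨_, hxr⟩ _
          _ = (ψ' ⟨_, hQM hxr⟩ : Ω) := (hagree ⟨_, hxr⟩).symm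
          _ = _ := by
              rw [hre, map_mul, map_mul, map_inv, ← hagree r]
              rfl
      rw [hr] at e1
      calc (ψ' x : Ω)⁻¹ * ε x * q * ((ψ' x : Ω)⁻¹ * ε x)⁻¹
          = (ψ' x : Ω)⁻¹ * (ε x * q * (ε x)⁻¹) * (ψ' x : Ω) := by group
        _ = q := by rw [e1]; group
    have := M'.mul_mem (ψ' x).2 (hQM (hQH.2 Q (isConj_refl hQ.1) h1))
    rwa [mul_inv_cancel_left] at this
  obtain ⟨ε', hε', hε'v⟩ := exists_aut_restrict hε le_rfl fun x hx => hmem ⟨x, hx⟩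
  obtain ⟨K, hKp, hKF, hK⟩ := exists_fixer_pGroup hS hE hE hQM hM'S hM'n
    ((inf_le_inf_right _ hM'T).trans (hQH.2 Q (isConj_refl hQ.1)))
  have hε'F : ε' ∈ F.autGroup M' :=
    (mem_autGroup_iff hM'S).2 (hinv.1 _ ((mem_autGroup_iff hM'T).1 hε'))
  have hk : ε'⁻¹ * ψ' ∈ K := hK _ (mul_mem (inv_mem hε'F) hψ') fun q => by
    rw [MulAut.mul_apply, show ψ' ⟨q, hQM q.2⟩ = ε' ⟨q, hQM q.2⟩ from Subtype.ext
      ((hagree q).trans ((hεv q (hQM q.2)).symm.trans (hε'v ⟨q, hQM q.2⟩).symm)),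
      MulAut.inv_apply_self]
  refine mem_of_coprime_sup hKp (fun z hz a ha => ?_) ?_ hψp'
  · rw [← congr_self_eq]
    exact congr_mem_of_invariant hsi hM'T hM'T ((mem_autGroup_iff hM'S).1 (hKF hz)) ha
  · have := mul_mem (Subgroup.mem_sup_left hε' : ε' ∈ E.autGroup M' ⊔ K)
      (Subgroup.mem_sup_right hk)
    rwa [mul_inv_cancel_left] at this

variable [Finite S] [Fact p.Prime] (hS : IsPGroup p S) (hE : E.IsNormalIn F p)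
include hS hE

/-- The trivial extension, of order prime to `p`. -/
theorem exists_trivialExt_coprime {R₀ : Subgroup Ω} (hH : InH F T R₀) {b : MulAut R₀}
    (hb : b ∈ E.autGroup R₀) (hbp : (orderOf b).Coprime p) :
    ∃ β ∈ F.autGroup (R₀ ⊔ centralizerIn S R₀), (orderOf β).Coprime p ∧
      Agrees le_sup_left b β ∧ Tr R₀ β := by
  have hsub := hE.1.2.2.1
  have hR₀S := hH.1.trans hE.1.2.2.2.1.1
  have hcen : E.IsCentric R₀ :=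
    ⟨hH.1, fun Q ⟨φ, hφ, hr⟩ => hH.2 Q ⟨φ, hsub R₀ hφ, hr⟩⟩
  obtain ⟨β, hβ, h1, h2⟩ := FusionLayer.trivialExt_of_normal hS hE hcen hb
  have hWS : R₀ ⊔ centralizerIn S R₀ ≤ S := sup_le hR₀S (centralizerIn_le S R₀)
  have := finite_of_le hWS
  have := finite_mulAut (V := R₀ ⊔ centralizerIn S R₀)
  obtain ⟨k, hk, hkb⟩ := FusionLayer.exists_coprime_pow hbp β
  have hab : Agrees le_sup_left b β := fun x => h1 x
  have htr : Tr R₀ β := fun w => by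
    obtain ⟨r, hr, c, hc, hrc⟩ := FusionLayer.exists_mul_of_mem_sup
      ((centralizerIn_le_normalizerIn S R₀).trans inf_le_right) w.2
    have hw : w = ⟨r, Subgroup.mem_sup_left hr⟩ * ⟨c, Subgroup.mem_sup_right hc⟩ :=
      Subtype.ext hrc.symm
    have hcc := (mem_centralizerIn'.1 (inv_mem hc : c⁻¹ ∈ centralizerIn S R₀)).2
      (r⁻¹ * (b ⟨r, hr⟩ : Ω)) (mul_mem (inv_mem hr) (Subtype.mem _))
    rw [hw, map_mul, Subgroup.coe_mul, Subgroup.coe_mul, hab ⟨r, hr⟩]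
    rw [show (r * c)⁻¹ * ((b ⟨r, hr⟩ : Ω) * (β ⟨c, Subgroup.mem_sup_right hc⟩ : Ω)) =
      c⁻¹ * (r⁻¹ * (b ⟨r, hr⟩ : Ω)) * (c⁻¹)⁻¹ *
        (c⁻¹ * (β ⟨c, Subgroup.mem_sup_right hc⟩ : Ω)) by group, hcc]
    exact mul_mem (mul_mem (inv_mem hr) (Subtype.mem _)) (h2 ⟨c, _⟩ hc).1
  refine ⟨β ^ k, pow_mem hβ k, hk, ?_, htr.pow k⟩
  have := hab.pow k
  rwa [hkb] at this

/-- An extension of order prime to `p` to `M C_S(R ⊓ T)`, trivial modulo `T`, of `g` modulo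
`K2 F T R`. -/
theorem exists_ext_mod_map (hR : F.IsFullyNormalized R) (hR₀ : F.IsFullyNormalized (R ⊓ T))
    (hH : HT F T R) {g : MulAut R} (hg : g ∈ AE F E R) (hgp : (orderOf g).Coprime p)
    (hRM : R ≤ M) (hM : M ≤ normalizerIn S R)
    (hgM : ∀ z ∈ autInducedBy M R, g * z * g⁻¹ ∈ autInducedBy M R) :
    ∃ φ ∈ F.autGroup (M ⊔ centralizerIn S (R ⊓ T)), (orderOf φ).Coprime p ∧ Tr T φ ∧
      ∃ a κ : MulAut R, (∀ (r : R) (hr : (r : Ω) ∈ M ⊔ centralizerIn S (R ⊓ T)),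
        (φ ⟨r, hr⟩ : Ω) = a r) ∧ g = a * κ⁻¹ ∧
        ∃ y ∈ centralizerIn S (R ⊓ T), ∃ _ : y ∈ Subgroup.normalizer (R : Set Ω),
          ∀ r : R, (κ r : Ω) = y * r * y⁻¹ := by
  obtain ⟨⟨hEs, hF, hinv⟩, -⟩ := id hE
  have hT := hinv.2.1
  have hsi := strongInvariant_of_invariant hinv
  obtain ⟨hgF, hgT, b, hb, hbg⟩ := id hg
  have := finite_of_le hR.1
  have := finite_mulAut (V := R)
  obtain ⟨R₀, hR₀d⟩ : ∃ R₀, R₀ = R ⊓ T := ⟨_, rfl⟩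
  have hR₀R : R₀ ≤ R := hR₀d ▸ inf_le_left
  have hR₀T : R₀ ≤ T := hR₀d ▸ inf_le_right
  rw [HT] at hH
  subst hR₀d
  have hR₀S : R ⊓ T ≤ S := hR₀T.trans hT.1
  have hN0 : M ≤ normalizerIn S (R ⊓ T) := fun m hm =>
    ⟨(hM hm).1, normalizerIn_le_normalizer_inf hT (hM hm)⟩
  have := finite_of_le hR₀S
  have := finite_mulAut (V := R ⊓ T)
  have hbp : (orderOf b).Coprime p := by
    refine hgp.coprime_dvd_left (orderOf_dvd_of_pow_eq_one ?_)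
    refine (hbg.pow (orderOf g)).unique ?_
    rw [pow_orderOf_eq_one]
    exact Agrees.one inf_le_left
  obtain ⟨β, hβ, hβp, hβb, hβT⟩ := exists_trivialExt_coprime hS hE hH hb hbp
  obtain ⟨C, hC⟩ : ∃ C, C = centralizerIn S (R ⊓ T) := ⟨_, rfl⟩
  obtain ⟨W, hW⟩ : ∃ W, W = R ⊓ T ⊔ centralizerIn S (R ⊓ T) := ⟨_, rfl⟩
  subst hW
  rw [← hC]
  have hCW : C ≤ R ⊓ T ⊔ centralizerIn S (R ⊓ T) := hC ▸ le_sup_right
  have hWS : R ⊓ T ⊔ centralizerIn S (R ⊓ T) ≤ S := sup_le hR₀S (centralizerIn_le _ _)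
  have := finite_of_le hWS
  have := finite_mulAut (V := R ⊓ T ⊔ centralizerIn S (R ⊓ T))
  obtain ⟨N₀, hN₀⟩ : ∃ N₀, N₀ = normalizerIn S (R ⊓ T) := ⟨_, rfl⟩
  have hN₀C : ∀ x ∈ N₀, ∀ c ∈ C, x * c * x⁻¹ ∈ C := by
    intro x hx c hc
    rw [hN₀] at hx
    rw [hC] at hc ⊢
    refine mem_centralizerIn'.2 ⟨mul_mem (mul_mem hx.1 hc.1) (inv_mem hx.1), fun y hy => ?_⟩
    have h1 := (mem_centralizerIn'.1 hc).2 _ ((Subgroup.mem_normalizer_iff''.1 hx.2 y).1 hy)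
    calc x * c * x⁻¹ * y * (x * c * x⁻¹)⁻¹ = x * (c * (x⁻¹ * y * x) * c⁻¹) * x⁻¹ := by group
      _ = y := by rw [h1]; group
  have hN₀W : N₀ ≤ Subgroup.normalizer
      ((R ⊓ T ⊔ centralizerIn S (R ⊓ T) : Subgroup Ω) : Set Ω) := by
    intro x hx
    refine SatCriterion.mem_normalizer_of_finite ?_
    suffices h : R ⊓ T ⊔ centralizerIn S (R ⊓ T) ≤
        (R ⊓ T ⊔ centralizerIn S (R ⊓ T)).comap (MulAut.conj x).toMonoidHom from fun y hy => h hy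
    exact sup_le
      (fun y hy => Subgroup.mem_sup_left
        ((Subgroup.mem_normalizer_iff.1 (hN₀ ▸ hx : x ∈ normalizerIn S (R ⊓ T)).2 y).1 hy))
      fun y hy => hCW (hN₀C x hx y (hC ▸ hy))
  rw [← hN₀] at hN0
  have hCN₀ : C ≤ N₀ := hC ▸ hN₀ ▸ centralizerIn_le_normalizerIn _ _
  have hN₀S : N₀ ≤ S := hN₀ ▸ normalizerIn_le _ _
  have hN₀R : N₀ ≤ Subgroup.normalizer ((R ⊓ T : Subgroup Ω) : Set Ω) := hN₀ ▸ inf_le_right
  obtain ⟨M', hM'⟩ : ∃ M', M' = M ⊔ C := ⟨_, rfl⟩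
  rw [← hM']
  have hMM' : M ≤ M' := hM' ▸ le_sup_left
  have hCM' : C ≤ M' := hM' ▸ le_sup_right
  have hM'N₀ : M' ≤ N₀ := hM' ▸ sup_le hN0 hCN₀
  have hWM' : R ⊓ T ⊔ centralizerIn S (R ⊓ T) ≤ M' :=
    sup_le ((hR₀R.trans hRM).trans hMM') (hC ▸ hCM')
  let f := (R ⊓ T ⊔ centralizerIn S (R ⊓ T)).normalizerMonoidHom
  let fN : N₀ →* MulAut ↥(R ⊓ T ⊔ centralizerIn S (R ⊓ T)) :=
    f.comp (Subgroup.inclusion hN₀W)
  let f₀ : N₀ →* MulAut ↥(R ⊓ T) :=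
    (R ⊓ T).normalizerMonoidHom.comp (Subgroup.inclusion hN₀R)
  have hf₀ : ∀ x : N₀, Agrees le_sup_left (f₀ x) (fN x) := fun x q => rfl
  have hfW : ∀ x : N₀, fN x ∈ F.autGroup (R ⊓ T ⊔ centralizerIn S (R ⊓ T)) := fun x =>
    autInducedBy_le_autGroup hWS
      (mem_autInducedBy_iff.2 ⟨x, hN₀S x.2, hN₀W x.2, fun _ => rfl⟩)
  have hfT : ∀ (x : N₀) (a : MulAut ↥(R ⊓ T ⊔ centralizerIn S (R ⊓ T))), Tr (R ⊓ T) a →
      Tr (R ⊓ T) (fN x * a * (fN x)⁻¹) := by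
    intro x a ha w
    obtain ⟨v, rfl⟩ := (fN x).surjective w
    show ((fN x v : _) : Ω)⁻¹ * ((fN x (a ((fN x)⁻¹ (fN x v)))) : Ω) ∈ R ⊓ T
    rw [MulAut.inv_apply_self,
      show ((fN x v : _) : Ω) = (x : Ω) * v * (x : Ω)⁻¹ from rfl,
      show ((fN x (a v) : _) : Ω) = (x : Ω) * (a v : Ω) * (x : Ω)⁻¹ from rfl,
      show ((x : Ω) * v * (x : Ω)⁻¹)⁻¹ * ((x : Ω) * (a v : Ω) * (x : Ω)⁻¹) =
        (x : Ω) * ((v : Ω)⁻¹ * (a v : Ω)) * (x : Ω)⁻¹ by group]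
    exact (Subgroup.mem_normalizer_iff.1 (hN₀R x.2) _).1 (ha v)
  have := finite_of_le hT.1
  obtain ⟨ha₀, -⟩ := automized_receptive (hS.to_le hT.1) hEs
    (FusionLayer.isFullyNormalized_of_big hS hF hinv.1 hT hR₀T hR₀)
  have hkey : ∀ m ∈ M, ∃ u : N₀, (u : Ω) ∈ M' ∧ (∃ t ∈ T, ∃ y ∈ C, t * y * m = u ∧ t ∈ M') ∧
      ∀ hm : m ∈ N₀, β * fN ⟨m, hm⟩ * β⁻¹ = fN u := by
    intro m hm
    obtain ⟨m', hm', hm'R, hm'v⟩ := mem_autInducedBy_iff.1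
      (hgM _ (mem_autInducedBy_iff.2 ⟨m, hm, (hM hm).2, fun _ => rfl⟩ :
        R.normalizerMonoidHom ⟨m, (hM hm).2⟩ ∈ autInducedBy M R))
    have h0 : b * f₀ ⟨m, hN0 hm⟩ * b⁻¹ = f₀ ⟨m', hN0 hm'⟩ := by
      have h1 : Agrees (inf_le_left : R ⊓ T ≤ R) (f₀ ⟨m, hN0 hm⟩)
          (R.normalizerMonoidHom ⟨m, (hM hm).2⟩) := fun q => rfl
      exact ((hbg.mul h1).mul hbg.inv).unique fun q => hm'v ⟨q, q.2.1⟩
    obtain ⟨d, hd⟩ : ∃ d : N₀, d = ⟨m', hN0 hm'⟩ * (⟨m, hN0 hm⟩ : N₀)⁻¹ := ⟨_, rfl⟩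
    have hdM : (d : Ω) ∈ M := hd ▸ M.mul_mem hm' (M.inv_mem hm)
    have hα₀ : f₀ d = b * (f₀ ⟨m, hN0 hm⟩ * b⁻¹ * (f₀ ⟨m, hN0 hm⟩)⁻¹) := by
      rw [hd, map_mul, map_inv, ← h0]
      group
    have hαE : f₀ d ∈ E.autGroup (R ⊓ T) := by
      rw [hα₀]
      refine mul_mem hb ?_
      rw [← congr_self_eq]
      exact congr_mem_of_invariant hsi hR₀T hR₀T
        ((mem_autGroup_iff hR₀S).1 (autInducedBy_le_autGroup hR₀S
          (mem_autInducedBy_iff.2 ⟨m, (hM hm).1, hN₀R (hN0 hm), fun _ => rfl⟩))) (inv_mem hb)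
    obtain ⟨t, ht, htN, htv⟩ := mem_autInducedBy_iff.1 (mem_autInducedBy_of_normal hS hT.1 ha₀ hαE
      (mem_autInducedBy_iff.2 ⟨d, hN₀S d.2, hN₀R d.2, fun _ => rfl⟩))
    have htN₀ : t ∈ N₀ := hN₀ ▸ ⟨hT.1 ht, htN⟩
    have htd : t⁻¹ * (d : Ω) ∈ C := by
      rw [hC]
      refine mem_centralizerIn'.2 ⟨mul_mem (inv_mem (hT.1 ht)) (hN₀S d.2), fun q hq => ?_⟩
      have h1 : (d : Ω) * q * (d : Ω)⁻¹ = t * q * t⁻¹ := htv ⟨q, hq⟩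
      calc t⁻¹ * (d : Ω) * q * (t⁻¹ * (d : Ω))⁻¹ = t⁻¹ * ((d : Ω) * q * (d : Ω)⁻¹) * t := by group
        _ = q := by rw [h1]; group
    have htM' : t ∈ M' := by
      have := M'.mul_mem (hMM' hdM) (M'.inv_mem (hCM' htd))
      rwa [mul_inv_rev, inv_inv, mul_inv_cancel_left] at this
    have hft : Tr (R ⊓ T) (fN ⟨t, htN₀⟩) := by
      intro w
      obtain ⟨r, hr, c, hc, hrc⟩ := FusionLayer.exists_mul_of_mem_sup
        ((centralizerIn_le_normalizerIn S (R ⊓ T)).trans inf_le_right) w.2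
      have hc' : c⁻¹ * (t * c * t⁻¹) ∈ R ⊓ T := by
        refine hH.2 _ (isConj_refl hR₀S) ⟨?_, mul_mem (Subgroup.inv_mem _ hc.2)
          (hC ▸ hN₀C t htN₀ c (hC ▸ hc) : t * c * t⁻¹ ∈ centralizerIn S (R ⊓ T)).2⟩
        rw [show c⁻¹ * (t * c * t⁻¹) = c⁻¹ * t * (c⁻¹)⁻¹ * t⁻¹ by group]
        exact mul_mem (FusionFactor.conj_mem_of_stronglyClosed hT (inv_mem hc.1) ht) (Subgroup.inv_mem _ ht)
      show (w : Ω)⁻¹ * (t * w * t⁻¹) ∈ R ⊓ T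
      rw [← hrc, show (r * c)⁻¹ * (t * (r * c) * t⁻¹) =
        c⁻¹ * (r⁻¹ * (t * r * t⁻¹)) * (c⁻¹)⁻¹ * (c⁻¹ * (t * c * t⁻¹)) by group,
        (mem_centralizerIn'.1 (inv_mem hc : c⁻¹ ∈ centralizerIn S (R ⊓ T))).2 _
          (mul_mem (inv_mem hr) ((Subgroup.mem_normalizer_iff.1 (hN₀R htN₀) r).1 hr))]
      exact mul_mem (mul_mem (inv_mem hr) ((Subgroup.mem_normalizer_iff.1 (hN₀R htN₀) r).1 hr)) hc'
    obtain ⟨α, hα⟩ : ∃ α, α = (fN ⟨t, htN₀⟩)⁻¹ *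
        (β * (fN ⟨m, hN0 hm⟩ * β⁻¹ * (fN ⟨m, hN0 hm⟩)⁻¹)) := ⟨_, rfl⟩
    have hαT : Tr (R ⊓ T) α := hα ▸ hft.inv.mul (hβT.mul (hfT _ _ hβT.inv))
    have hαfix : Agrees le_sup_left (1 : MulAut ↥(R ⊓ T)) α := by
      have h1 := (hf₀ ⟨t, htN₀⟩).inv.mul
        (hβb.mul (((hf₀ ⟨m, hN0 hm⟩).mul hβb.inv).mul (hf₀ ⟨m, hN0 hm⟩).inv))
      rw [← hα, ← hα₀, show f₀ d = f₀ ⟨t, htN₀⟩ from MulEquiv.ext fun q => Subtype.ext (htv q),
        inv_mul_cancel] at h1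
      exact h1
    have hαF : α ∈ F.autGroup (R ⊓ T ⊔ centralizerIn S (R ⊓ T)) := hα ▸ mul_mem
      (inv_mem (hfW _)) (mul_mem hβ (mul_mem (mul_mem (hfW _) (inv_mem hβ)) (inv_mem (hfW _))))
    obtain ⟨i, hi⟩ := (hS.to_le hR₀S).exists_card_eq
    have hαfix' : ∀ x : ↥(R ⊓ T ⊔ centralizerIn S (R ⊓ T)), (x : Ω) ∈ R ⊓ T → α x = x :=
      fun x hx => Subtype.ext (hαfix ⟨x, hx⟩)
    have hαp : α ^ p ^ i = 1 := by
      refine FusionLayer.pow_eq_one_of_displacement (fun x => hαfix' _ (hαT x)) fun x => ?_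
      have h : (⟨_, hαT x⟩ : ↥(R ⊓ T)) ^ p ^ i = 1 := by rw [← hi]; exact pow_card_eq_one'
      exact Subtype.ext (congrArg Subtype.val h :)
    obtain ⟨y, hy, hyv⟩ := FusionLayer.inner_of_fix hS hF
      (fullyCentralized_of_normalized hS hF hR₀) hαF hαp hαfix'
    have hyC : y ∈ C := hC.symm ▸ hy
    obtain ⟨u, hu⟩ : ∃ u : N₀, u = ⟨t, htN₀⟩ * ⟨y, hCN₀ hyC⟩ * ⟨m, hN0 hm⟩ := ⟨_, rfl⟩
    refine ⟨u, hu ▸ M'.mul_mem (M'.mul_mem htM' (hCM' hyC)) (hMM' hm),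
      ⟨t, ht, y, hyC, hu ▸ rfl, htM'⟩, fun _ => ?_⟩
    rw [hu, map_mul, map_mul,
      show fN ⟨y, hCN₀ hyC⟩ = α from MulEquiv.ext fun x => Subtype.ext (hyv x).symm, hα]
    group
  -- the images of `M'`
  have hall : ∀ x (hx : x ∈ M'), ∃ u : N₀, (u : Ω) ∈ M' ∧
      β * fN ⟨x, hM'N₀ hx⟩ * β⁻¹ = fN u := by
    let Y : Subgroup ↥N₀ :=
      ((M'.subgroupOf N₀).map fN).comap ((MulAut.conj β).toMonoidHom.comp fN)
    suffices h : M' ≤ Y.map N₀.subtype by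
      intro x hx
      obtain ⟨z, hz, hzx⟩ := h hx
      obtain ⟨u, hu, huv⟩ := hz
      exact ⟨u, hu, by rw [show (⟨x, hM'N₀ hx⟩ : N₀) = z from Subtype.ext hzx.symm]; exact huv.symm⟩
    rw [hM']
    refine sup_le (fun m hm => ?_) fun c hc => ?_
    · obtain ⟨u, hu, -, huv⟩ := hkey m hm
      exact ⟨⟨m, hN0 hm⟩, ⟨u, hu, (huv _).symm⟩, rfl⟩
    · have hcW : c ∈ R ⊓ T ⊔ centralizerIn S (R ⊓ T) := hCW hc
      refine ⟨⟨c, hCN₀ hc⟩,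
        ⟨⟨(β ⟨c, hcW⟩ : Ω), hM'N₀ (hWM' (Subtype.mem _))⟩, hWM' (Subtype.mem _), ?_⟩, rfl⟩
      refine MulEquiv.ext fun w => ?_
      obtain ⟨v, rfl⟩ := β.surjective w
      show _ = β (fN ⟨c, hCN₀ hc⟩ (β⁻¹ (β v)))
      rw [MulAut.inv_apply_self]
      refine Subtype.ext ?_
      show (β ⟨c, hcW⟩ : Ω) * (β v : Ω) * (β ⟨c, hcW⟩ : Ω)⁻¹ = _
      rw [← Subgroup.coe_inv, ← Subgroup.coe_mul, ← Subgroup.coe_mul, ← map_inv, ← map_mul,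
        ← map_mul]
      exact congrArg (fun z => (β z : Ω)) (Subtype.ext rfl)
  -- the isomorphism of the normalizers
  obtain ⟨V, θ, hθ, hV, hθc⟩ := exists_iso_fullyNormalized hS hF hWS
    (Y := autInducedBy N₀ (R ⊓ T ⊔ centralizerIn S (R ⊓ T)))
    ((autInducedBy_mono hN₀S _).trans (autInducedBy_le_autGroup hWS))
    (isPGroup_autInducedBy (hS.to_le hN₀S) _)
  obtain ⟨-, hVr⟩ := automized_receptive hS hF hV
  obtain ⟨Θ, hΘ, hΘv⟩ := exists_extension (T := N₀) hVr hθ fun x hx =>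
    mem_extender_of_congr ⟨hN₀S hx, hN₀W hx⟩ (α := f ⟨x, hN₀W hx⟩) (fun _ => rfl)
      (hθc _ (mem_autInducedBy_iff.2 ⟨x, hx, hN₀W hx, fun _ => rfl⟩))
  have hR₀N₀ : R ⊓ T ≤ N₀ := hN₀ ▸ le_normalizerIn hR₀S
  obtain ⟨V₀, hV₀⟩ : ∃ V₀, V₀ = imgHom Θ (R ⊓ T) := ⟨_, rfl⟩
  have hΘN : ∀ x, Θ x ∈ normalizerIn S V₀ := fun x =>
    hV₀ ▸ SatCriterion.apply_mem_normalizerIn hΘ hR₀N₀ hN₀.le x
  obtain ⟨Θe, hΘe, hΘev⟩ := Fusion.exists_iso hΘ (Q := normalizerIn S V₀) (by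
    have := finite_of_le (normalizerIn_le S V₀)
    refine Subgroup.eq_of_le_of_card_ge (by rintro _ ⟨x, rfl⟩; exact hΘN x) ?_
    rw [← imgHom_self, card_imgHom (F.injective_of_mem hΘ) le_rfl, hN₀]
    exact hR₀.2 V₀ (hV₀ ▸ isConj_restrict hΘ hR₀N₀))
  have hV₀V : V₀ ≤ V := by
    rw [hV₀]
    rintro _ ⟨x, hx, rfl⟩
    rw [hΘv ⟨x, Subgroup.mem_sup_left hx⟩ x.2]
    exact Subtype.mem _
  have hM'S : M' ≤ S := hM'N₀.trans hN₀S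
  have := finite_of_le hM'S
  have hβI := (mem_autGroup_iff hWS).1 hβ
  obtain ⟨ψ, hψ, hψv⟩ := exists_extension (T := M') hVr (hβI.trans hθ) fun x hx => by
    obtain ⟨u, hu, huv⟩ := hall x hx
    refine mem_extender_of_congr ⟨hM'S hx, hN₀W (hM'N₀ hx)⟩ (α := fN ⟨x, hM'N₀ hx⟩)
      (fun _ => rfl) ?_
    rw [congr_trans, congr_self_eq, huv]
    exact hθc _ (mem_autInducedBy_iff.2 ⟨u, u.2, hN₀W u.2, fun _ => rfl⟩)
  have hψN : ∀ x : M', ∃ z : N₀, (z : Ω) ∈ M' ∧ Θ z = ψ x := by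
    intro x
    obtain ⟨u, hu, huv⟩ := hall x x.2
    have he : (Θ u)⁻¹ * ψ x ∈ centralizerIn S V := by
      refine mem_centralizerIn'.2 ⟨mul_mem (inv_mem (apply_mem hΘ u)) (apply_mem hψ x),
        fun v hv => ?_⟩
      obtain ⟨w, hw⟩ := (β.trans θ).surjective ⟨v, hv⟩
      have hwM : (w : Ω) ∈ M' := hWM' w.2
      have hwN : (w : Ω) ∈ N₀ := hM'N₀ hwM
      have h1 : ψ x * v * (ψ x)⁻¹ = Θ u * v * (Θ u)⁻¹ := by
        calc ψ x * v * (ψ x)⁻¹ = ψ ⟨(fN ⟨x, hM'N₀ x.2⟩ w : Ω), hWM' (Subtype.mem _)⟩ := by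
              rw [show (⟨(fN ⟨x, hM'N₀ x.2⟩ w : Ω), hWM' (Subtype.mem _)⟩ : M') =
                x * ⟨w, hwM⟩ * x⁻¹ from Subtype.ext rfl, map_mul, map_mul, map_inv, hψv w hwM, hw]
          _ = (θ (β (fN ⟨x, hM'N₀ x.2⟩ w)) : Ω) := hψv _ _
          _ = (θ (fN u (β w)) : Ω) := by
              rw [← huv, MulAut.mul_apply, MulAut.mul_apply, MulAut.inv_apply_self]
          _ = Θ ⟨(fN u (β w) : Ω), hM'N₀ (hWM' (Subtype.mem _))⟩ := (hΘv _ _).symm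
          _ = _ := by
              rw [show (⟨(fN u (β w) : Ω), hM'N₀ (hWM' (Subtype.mem _))⟩ : N₀) =
                u * ⟨(β w : Ω), hM'N₀ (hWM' (β w).2)⟩ * u⁻¹ from Subtype.ext rfl, map_mul, map_mul,
                map_inv, hΘv]
              rw [show ((θ (β w) : V) : Ω) = v from congrArg Subtype.val hw]
      calc (Θ u)⁻¹ * ψ x * v * ((Θ u)⁻¹ * ψ x)⁻¹
          = (Θ u)⁻¹ * (ψ x * v * (ψ x)⁻¹) * Θ u := by group
        _ = v := by rw [h1]; group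
    have he₀ := centralizerIn_anti hV₀V he
    obtain ⟨c, hc⟩ := Θe.surjective ⟨_, centralizerIn_le_normalizerIn _ _ he₀⟩
    have hcv : Θ c = (Θ u)⁻¹ * ψ x := (hΘev c).symm.trans (congrArg Subtype.val hc)
    have hcC : (c : Ω) ∈ C := by
      rw [hC]
      refine mem_centralizerIn'.2 ⟨hN₀S c.2, fun q hq => ?_⟩
      have h1 := (mem_centralizerIn'.1 he₀).2 (Θ ⟨q, hR₀N₀ hq⟩) (hV₀ ▸ ⟨⟨q, _⟩, hq, rfl⟩)
      rw [← hcv, ← map_inv, ← map_mul, ← map_mul] at h1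
      exact congrArg Subtype.val (F.injective_of_mem hΘ h1)
    exact ⟨u * c, M'.mul_mem hu (hCM' hcC), by rw [map_mul, hcv, mul_inv_cancel_left]⟩
  have hψV₀ : ∀ x, ψ x ∈ normalizerIn S V₀ := fun x => by
    obtain ⟨z, -, hz⟩ := hψN x
    exact hz ▸ hΘN z
  obtain ⟨φ₀, hφ₀, hφ₀v⟩ := exists_aut_restrict (F.comp_mem hψ hΘe.symm hψV₀) le_rfl
    fun x hx => by
      obtain ⟨z, hz, hzv⟩ := hψN ⟨x, hx⟩
      show ((Θe.symm ⟨ψ ⟨x, hx⟩, hψV₀ _⟩ : N₀) : Ω) ∈ M'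
      rw [show (⟨ψ ⟨x, hx⟩, hψV₀ _⟩ : normalizerIn S V₀) = Θe z from
        Subtype.ext (hzv.symm.trans (hΘev z).symm), MulEquiv.symm_apply_apply]
      exact hz
  have hβφ₀ : Agrees hWM' β φ₀ := fun w => by
    rw [hφ₀v]
    show ((Θe.symm ⟨ψ ⟨w, _⟩, _⟩ : N₀) : Ω) = (β w : Ω)
    rw [show (⟨ψ ⟨w, hWM' w.2⟩, hψV₀ _⟩ : normalizerIn S V₀) =
      Θe ⟨(β w : Ω), hM'N₀ (hWM' (β w).2)⟩ from Subtype.ext (by
        rw [hΘev, hΘv]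
        exact hψv w _), MulEquiv.symm_apply_apply]
  have := finite_mulAut (V := M')
  obtain ⟨k, hkp, hkβ⟩ := FusionLayer.exists_coprime_pow hβp φ₀
  obtain ⟨φ, hφd⟩ : ∃ φ, φ = φ₀ ^ k := ⟨_, rfl⟩
  rw [← hφd] at hkp
  have hφF : φ ∈ F.autGroup M' := hφd ▸ pow_mem hφ₀ k
  have hβφ : Agrees hWM' β φ := by
    have := hβφ₀.pow k
    rwa [hkβ, ← hφd] at this
  have hconj : ∀ x : M', β * fN ⟨x, hM'N₀ x.2⟩ * β⁻¹ = fN ⟨φ x, hM'N₀ (φ x).2⟩ := fun x => by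
    refine MulEquiv.ext fun w => ?_
    obtain ⟨v, rfl⟩ := β.surjective w
    rw [MulAut.mul_apply, MulAut.mul_apply, MulAut.inv_apply_self]
    refine Subtype.ext ?_
    show _ = (φ x : Ω) * (β v : Ω) * (φ x : Ω)⁻¹
    rw [← hβφ, ← hβφ v, ← Subgroup.coe_inv, ← Subgroup.coe_mul, ← Subgroup.coe_mul, ← map_inv,
      ← map_mul, ← map_mul]
    exact congrArg (fun z => (φ z : Ω)) (Subtype.ext rfl)
  -- `φ` is trivial modulo `T`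
  have hφT : ∀ x : M', (x : Ω)⁻¹ * (φ x : Ω) ∈ T := by
    let D : Subgroup M' :=
      { carrier := {x | (x : Ω)⁻¹ * (φ x : Ω) ∈ T}
        one_mem' := by simp
        mul_mem' := fun {a c} ha hc => by
          show ((a * c : M') : Ω)⁻¹ * (φ (a * c) : Ω) ∈ T
          rw [map_mul, Subgroup.coe_mul, Subgroup.coe_mul,
            show ((a : Ω) * c)⁻¹ * ((φ a : Ω) * (φ c : Ω)) =
              (c : Ω)⁻¹ * ((a : Ω)⁻¹ * (φ a : Ω)) * ((c : Ω)⁻¹)⁻¹ * ((c : Ω)⁻¹ * (φ c : Ω)) by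
            group]
          exact mul_mem (FusionFactor.conj_mem_of_stronglyClosed hT (inv_mem (hM'S c.2)) ha) hc
        inv_mem' := fun {a} ha => by
          show ((a⁻¹ : M') : Ω)⁻¹ * (φ a⁻¹ : Ω) ∈ T
          rw [map_inv, Subgroup.coe_inv, Subgroup.coe_inv,
            show ((a : Ω)⁻¹)⁻¹ * (φ a : Ω)⁻¹ =
              (a : Ω) * ((a : Ω)⁻¹ * (φ a : Ω))⁻¹ * (a : Ω)⁻¹ by group]
          exact FusionFactor.conj_mem_of_stronglyClosed hT (hM'S a.2) (inv_mem ha) }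
    suffices h : M' ≤ D.map M'.subtype by
      intro x
      obtain ⟨z, hz, hzx⟩ := h x.2
      rwa [show x = z from Subtype.ext hzx.symm]
    have hCD : ∀ c (hc : c ∈ C), c⁻¹ * (φ ⟨c, hCM' hc⟩ : Ω) ∈ T := fun c hc => by
      have := hβφ ⟨c, hCW hc⟩
      rw [this]
      exact (hβT ⟨c, hCW hc⟩).2
    conv_lhs => rw [hM']
    refine sup_le (fun m hm => ⟨⟨m, hMM' hm⟩, ?_, rfl⟩) fun c hc => ⟨⟨c, hCM' hc⟩, hCD c hc, rfl⟩
    obtain ⟨u, -, ⟨t, ht, y, hy, htym, htM'⟩, huv⟩ := hkey m hm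
    have h1 : fN ⟨φ ⟨m, hMM' hm⟩, hM'N₀ (Subtype.mem _)⟩ = fN u :=
      (hconj ⟨m, hMM' hm⟩).symm.trans (huv _)
    obtain ⟨c, hc⟩ : ∃ c, c = (u : Ω)⁻¹ * (φ ⟨m, hMM' hm⟩ : Ω) := ⟨_, rfl⟩
    have hcC : c ∈ C := by
      rw [hC, hc]
      refine mem_centralizerIn'.2 ⟨mul_mem (inv_mem (hN₀S u.2)) (hM'S (Subtype.mem _)),
        fun q hq => ?_⟩
      have h2 : (φ ⟨m, hMM' hm⟩ : Ω) * q * (φ ⟨m, hMM' hm⟩ : Ω)⁻¹ = u * q * (u : Ω)⁻¹ :=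
        congrArg (fun a : MulAut ↥(R ⊓ T ⊔ centralizerIn S (R ⊓ T)) =>
          ((a ⟨q, Subgroup.mem_sup_left hq⟩ : ↥(R ⊓ T ⊔ centralizerIn S (R ⊓ T))) : Ω)) h1
      calc (u : Ω)⁻¹ * (φ ⟨m, hMM' hm⟩ : Ω) * q * ((u : Ω)⁻¹ * (φ ⟨m, hMM' hm⟩ : Ω))⁻¹
          = (u : Ω)⁻¹ * ((φ ⟨m, hMM' hm⟩ : Ω) * q * (φ ⟨m, hMM' hm⟩ : Ω)⁻¹) * u := by group
        _ = q := by rw [h2]; group
    have hy' : m⁻¹ * y * m * c ∈ C := by
      refine mul_mem ?_ hcC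
      have := hN₀C m⁻¹ (inv_mem (hN0 hm)) y hy
      rwa [inv_inv] at this
    have ht' : m⁻¹ * t * m ∈ T := by
      have := FusionFactor.conj_mem_of_stronglyClosed hT (inv_mem (hM hm).1) ht
      rwa [inv_inv] at this
    have ht'M : m⁻¹ * t * m ∈ M' := M'.mul_mem (M'.mul_mem (M'.inv_mem (hMM' hm)) htM') (hMM' hm)
    obtain ⟨w, hw⟩ : ∃ w : M', w = (⟨m, hMM' hm⟩ : M')⁻¹ * φ ⟨m, hMM' hm⟩ := ⟨_, rfl⟩
    have hwe : w = ⟨_, ht'M⟩ * ⟨_, hCM' hy'⟩ := Subtype.ext (by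
      rw [hw, Subgroup.coe_mul, Subgroup.coe_inv, Subgroup.coe_mul]
      show m⁻¹ * (φ ⟨m, hMM' hm⟩ : Ω) = m⁻¹ * t * m * (m⁻¹ * y * m * c)
      rw [hc, ← htym]
      group)
    show m⁻¹ * (φ ⟨m, hMM' hm⟩ : Ω) ∈ T
    have hTn : (T.subgroupOf M').Normal := Subgroup.normal_subgroupOf_of_le_normalizer
      fun x hx => stronglyClosed_le_normalizer hT (hM'S hx)
    have hT' : ∀ x : M', (x : Ω) ∈ T → (φ x : Ω) ∈ T := fun x hx =>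
      stronglyClosed_apply hT ((mem_autGroup_iff hM'S).1 hφF) hx
    have := FusionLayer.displacement_mem hkp hTn
      (fun x hx => hT' x hx)
      (x := ⟨m, hMM' hm⟩) (by
        rw [Subgroup.mem_subgroupOf, ← hw, hwe, map_mul, mul_inv_rev, Subgroup.coe_mul,
          Subgroup.coe_mul, Subgroup.coe_mul, Subgroup.coe_inv, Subgroup.coe_inv]
        show (m⁻¹ * y * m * c)⁻¹ * (m⁻¹ * t * m)⁻¹ *
          ((φ ⟨_, ht'M⟩ : Ω) * (φ ⟨_, hCM' hy'⟩ : Ω)) ∈ T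
        rw [show (m⁻¹ * y * m * c)⁻¹ * (m⁻¹ * t * m)⁻¹ *
            ((φ ⟨_, ht'M⟩ : Ω) * (φ ⟨_, hCM' hy'⟩ : Ω)) =
          (m⁻¹ * y * m * c)⁻¹ * ((m⁻¹ * t * m)⁻¹ * (φ ⟨_, ht'M⟩ : Ω)) *
            ((m⁻¹ * y * m * c)⁻¹)⁻¹ * ((m⁻¹ * y * m * c)⁻¹ * (φ ⟨_, hCM' hy'⟩ : Ω)) by group]
        exact mul_mem (FusionFactor.conj_mem_of_stronglyClosed hT (inv_mem (hM'S (hCM' hy')))
          (mul_mem (inv_mem ht') (hT' _ ht'))) (hCD _ hy'))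
      ((hS.to_le hM'S) _)
    rwa [Subgroup.mem_subgroupOf] at this
  -- `φ` preserves `R`
  have hRM' : R ≤ M' := hRM.trans hMM'
  have hφR : ∀ r : R, (φ ⟨r, hRM' r.2⟩ : Ω) ∈ R := by
    intro r
    refine (Subgroup.mul_mem_cancel_left _ (inv_mem (g r).2)).1 (hR₀R (hH.2 _ (isConj_refl hR₀S)
      (mem_centralizerIn'.2 ⟨?_, fun q hq => ?_⟩)))
    · have := mul_mem (inv_mem (hgT r)) (hφT ⟨r, hRM' r.2⟩)
      rwa [mul_inv_rev, inv_inv, mul_assoc, mul_inv_cancel_left] at this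
    · obtain ⟨q', hq'⟩ := b.surjective ⟨q, hq⟩
      have hq'' : (β ⟨q', Subgroup.mem_sup_left q'.2⟩ : Ω) = q :=
        (hβb q').trans (congrArg Subtype.val hq')
      have hrq : (r : Ω) * q' * (r : Ω)⁻¹ ∈ R ⊓ T :=
        (Subgroup.mem_normalizer_iff.1 (hN₀R (hM'N₀ (hRM' r.2))) q').1 q'.2
      have e1 : (φ ⟨r, hRM' r.2⟩ : Ω) * q * (φ ⟨r, hRM' r.2⟩ : Ω)⁻¹ = (g r : Ω) * q * (g r : Ω)⁻¹ :=
        calc (φ ⟨r, hRM' r.2⟩ : Ω) * q * (φ ⟨r, hRM' r.2⟩ : Ω)⁻¹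
            = (φ ⟨_, hWM' (Subgroup.mem_sup_left hrq)⟩ : Ω) := by
              rw [← hq'', ← hβφ, ← Subgroup.coe_inv, ← Subgroup.coe_mul, ← Subgroup.coe_mul,
                ← map_inv, ← map_mul, ← map_mul]
              rfl
          _ = (b ⟨_, hrq⟩ : Ω) := (hβφ ⟨_, Subgroup.mem_sup_left hrq⟩).trans (hβb ⟨_, hrq⟩)
          _ = (g (r * ⟨q', hR₀R q'.2⟩ * r⁻¹) : Ω) := (hbg ⟨_, hrq⟩).symm
          _ = _ := by
              rw [map_mul, map_mul, map_inv, Subgroup.coe_mul, Subgroup.coe_mul, Subgroup.coe_inv,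
                hbg q', hq']
      calc (g r : Ω)⁻¹ * (φ ⟨r, hRM' r.2⟩ : Ω) * q * ((g r : Ω)⁻¹ * (φ ⟨r, hRM' r.2⟩ : Ω))⁻¹
          = (g r : Ω)⁻¹ * ((φ ⟨r, hRM' r.2⟩ : Ω) * q * (φ ⟨r, hRM' r.2⟩ : Ω)⁻¹) * (g r : Ω) := by
            group
        _ = q := by rw [e1]; group
  obtain ⟨a, haF, hav⟩ := exists_aut_restrict ((mem_autGroup_iff hM'S).1 hφF) hRM'
    fun x hx => hφR ⟨x, hx⟩
  have hav' : Agrees hRM' a φ := fun x => (hav x).symm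
  have hκ : g⁻¹ * a ∈ K2 F T R := by
    refine ⟨mul_mem (inv_mem hgF) haF, hgT.inv.mul fun x => ?_, fun x hx => ?_⟩
    · rw [← hav' x]
      exact hφT ⟨x, hRM' x.2⟩
    · rw [MulAut.mul_apply, show a x = g x from Subtype.ext (((hav' x).symm.trans
        ((hβφ ⟨x, Subgroup.mem_sup_left ⟨x.2, hx⟩⟩).trans (hβb ⟨x, x.2, hx⟩))).trans
          (hbg ⟨x, x.2, hx⟩).symm), MulAut.inv_apply_self]
  obtain ⟨y, hy, hyR, hyv⟩ := mem_autInducedBy_iff.1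
    (K2Inn_le_autInducedBy hS hF hT hR (Subgroup.mem_sup_left hκ))
  refine ⟨φ, hφF, hkp, hφT, a, g⁻¹ * a, fun r _ => hav' r, by group, y, ?_, hyR, hyv⟩
  rw [hC]
  refine mem_centralizerIn'.2 ⟨hy, fun q hq => ?_⟩
  have := hκ.2.2 ⟨q, hq.1⟩ hq.2
  exact (hyv ⟨q, hq.1⟩).symm.trans (congrArg Subtype.val this)

/-- An extension of order prime to `p` to `M C_S(R ⊓ T)`, trivial modulo `T`. -/
theorem exists_ext_mod (hR : F.IsFullyNormalized R) (hR₀ : F.IsFullyNormalized (R ⊓ T))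
    (hH : HT F T R) {g : MulAut R} (hg : g ∈ AE F E R) (hgp : (orderOf g).Coprime p)
    (hRM : R ≤ M) (hM : M ≤ normalizerIn S R)
    (hgM : ∀ z ∈ autInducedBy M R, g * z * g⁻¹ ∈ autInducedBy M R) :
    ∃ a κ : MulAut R, g = a * κ⁻¹ ∧ κ ∈ autInducedBy (M ⊔ centralizerIn S (R ⊓ T)) R ∧
      ∀ z ∈ autInducedBy (M ⊔ centralizerIn S (R ⊓ T)) R,
        a * z * a⁻¹ ∈ autInducedBy (M ⊔ centralizerIn S (R ⊓ T)) R ∧
          a * z * a⁻¹ * z⁻¹ ∈ autInducedBy (R ⊔ T) R := by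
  have hT := hE.1.2.2.2.1
  obtain ⟨φ, -, -, hφT, a, κ, hval, hgak, y, hy, hyR, hyv⟩ :=
    exists_ext_mod_map hS hE hR hR₀ hH hg hgp hRM hM hgM
  have hav' : Agrees (hRM.trans le_sup_left) a φ := fun r => hval r _
  have hM'S : M ⊔ centralizerIn S (R ⊓ T) ≤ S :=
    sup_le (hM.trans (normalizerIn_le S R)) (centralizerIn_le _ _)
  refine ⟨a, κ, hgak, mem_autInducedBy_iff.2 ⟨y, Subgroup.mem_sup_right hy, hyR, hyv⟩,
    fun z hz => ?_⟩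
  obtain ⟨x, hx, hxR, hxv⟩ := mem_autInducedBy_iff.1 hz
  have hze : ∀ r : R, ((a * z * a⁻¹) r : Ω) =
      (φ ⟨x, hx⟩ : Ω) * r * (φ ⟨x, hx⟩ : Ω)⁻¹ := fun r => by
    obtain ⟨s, rfl⟩ := a.surjective r
    rw [MulAut.mul_apply, MulAut.mul_apply, MulAut.inv_apply_self, ← hav', ← hav' s,
      ← Subgroup.coe_inv, ← Subgroup.coe_mul, ← Subgroup.coe_mul, ← map_inv, ← map_mul, ← map_mul]
    exact congrArg (fun w => (φ w : Ω)) (Subtype.ext (hxv s))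
  refine ⟨Subgroup.subset_closure ⟨_, (φ ⟨x, hx⟩).2, hze⟩,
    Subgroup.subset_closure ⟨(φ ⟨x, hx⟩ : Ω) * x⁻¹, Subgroup.mem_sup_right ?_, fun r => ?_⟩⟩
  · rw [show (φ ⟨x, hx⟩ : Ω) * x⁻¹ = x * (x⁻¹ * (φ ⟨x, hx⟩ : Ω)) * x⁻¹ by group]
    exact FusionFactor.conj_mem_of_stronglyClosed hT (hM'S hx) (hφT ⟨x, hx⟩)
  · obtain ⟨s, rfl⟩ := z.surjective r
    show ((a * z * a⁻¹) (z⁻¹ (z s)) : Ω) = _
    rw [MulAut.inv_apply_self, hze, hxv]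
    group

/-- **The key property of the seeds.** -/
theorem conj_mem_mod (hR : F.IsFullyNormalized R) (hR₀ : F.IsFullyNormalized (R ⊓ T))
    (hH : HT F T R) {g : MulAut R} (hg : g ∈ AE F E R) (hgp : (orderOf g).Coprime p)
    (hRM : R ≤ M) (hM : M ≤ normalizerIn S R)
    (hgM : ∀ z ∈ autInducedBy M R, g * z * g⁻¹ ∈ autInducedBy M R) :
    ∀ z ∈ autInducedBy M R, g * z * g⁻¹ * z⁻¹ ∈ autInducedBy (R ⊔ T) R := by
  obtain ⟨⟨hEs, hF, hinv⟩, -⟩ := id hE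
  have hT := hinv.2.1
  obtain ⟨a, κ, hgak, hκ, ha⟩ := exists_ext_mod hS hE hR hR₀ hH hg hgp hRM hM hgM
  obtain ⟨Q, hQ⟩ : ∃ Q, Q = autInducedBy (M ⊔ centralizerIn S (R ⊓ T)) R := ⟨_, rfl⟩
  rw [← hQ] at hκ ha
  have := finite_of_le hR.1
  have := finite_mulAut (V := R)
  have hQS : Q ≤ autInducedBy S R :=
    hQ ▸ autInducedBy_mono (sup_le (hM.trans inf_le_left) (centralizerIn_le _ _)) R
  obtain ⟨A, hA⟩ : ∃ A, A = autInducedBy S R := ⟨_, rfl⟩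
  rw [← hA] at hQS
  have hAn : ((autInducedBy (R ⊔ T) R).subgroupOf A).Normal := ⟨fun n hn s =>
    Subgroup.mem_subgroupOf.2 (conj_mem_autRT hT hR.1 (hA ▸ s.2) (Subgroup.mem_subgroupOf.1 hn))⟩
  let π := QuotientGroup.mk' ((autInducedBy (R ⊔ T) R).subgroupOf A)
  have hπ : ∀ {u v : A}, (u : MulAut R) * (v : MulAut R)⁻¹ ∈ autInducedBy (R ⊔ T) R → π u = π v :=
    fun {u v} h => QuotientGroup.eq_iff_div_mem.2 (Subgroup.mem_subgroupOf.2 (by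
      rw [div_eq_mul_inv]; exact h))
  obtain ⟨k, hk⟩ : ∃ k, k = π ⟨κ, hQS hκ⟩ := ⟨_, rfl⟩
  have hκQ : ∀ q ∈ Q, κ⁻¹ * q * κ ∈ Q := fun q hq => mul_mem (mul_mem (inv_mem hκ) hq) hκ
  have hstep : ∀ q (hq : q ∈ Q), ∃ hq' : g * q * g⁻¹ ∈ Q,
      π ⟨g * q * g⁻¹, hQS hq'⟩ = k⁻¹ * π ⟨q, hQS hq⟩ * k := fun q hq => by
    have e : g * q * g⁻¹ = a * (κ⁻¹ * q * κ) * a⁻¹ := by rw [hgak]; group
    obtain ⟨h1, h2⟩ := ha _ (hκQ q hq)
    refine ⟨e ▸ h1, ?_⟩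
    rw [hk, ← map_inv, ← map_mul, ← map_mul]
    refine hπ ?_
    show g * q * g⁻¹ * (κ⁻¹ * q * κ)⁻¹ ∈ _
    rw [e]
    exact h2
  intro z hz
  have hzQ : z ∈ Q := hQ ▸ autInducedBy_mono le_sup_left R hz
  have hiter : ∀ n : ℕ, ∃ hn : g ^ n * z * (g ^ n)⁻¹ ∈ Q,
      π ⟨_, hQS hn⟩ = (k ^ n)⁻¹ * π ⟨z, hQS hzQ⟩ * k ^ n := by
    intro n
    induction n with
    | zero => simp [hzQ]
    | succ n ih =>
      obtain ⟨hn, hnv⟩ := ih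
      obtain ⟨hn', hn'v⟩ := hstep _ hn
      have e : g ^ (n + 1) * z * (g ^ (n + 1))⁻¹ = g * (g ^ n * z * (g ^ n)⁻¹) * g⁻¹ := by
        rw [pow_succ', mul_inv_rev]
        group
      refine ⟨e ▸ hn', ?_⟩
      rw [show (⟨_, hQS (e ▸ hn')⟩ : A) = ⟨_, hQS hn'⟩ from Subtype.ext e, hn'v, hnv, pow_succ,
        mul_inv_rev]
      group
  obtain ⟨hn, hnv⟩ := hiter (orderOf g)
  have hcomm : Commute (k ^ orderOf g) (π ⟨z, hQS hzQ⟩) := by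
    rw [show (⟨_, hQS hn⟩ : A) = ⟨z, hQS hzQ⟩ from Subtype.ext (by
      show g ^ orderOf g * z * (g ^ orderOf g)⁻¹ = z
      rw [pow_orderOf_eq_one, one_mul, inv_one, mul_one])] at hnv
    show k ^ orderOf g * π _ = π _ * k ^ orderOf g
    calc k ^ orderOf g * π _ = k ^ orderOf g * ((k ^ orderOf g)⁻¹ * π _ * k ^ orderOf g) := by
          rw [← hnv]
      _ = _ := by group
  obtain ⟨j, hj⟩ := (isPGroup_autInducedBy hS R) ⟨κ, hA ▸ hQS hκ⟩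
  have hkj : orderOf k ∣ p ^ j := by
    refine orderOf_dvd_of_pow_eq_one ?_
    rw [hk, ← map_pow, show (⟨κ, hQS hκ⟩ : A) ^ p ^ j = 1 from
      Subtype.ext (by simpa using congrArg Subtype.val hj), map_one]
  obtain ⟨m, hm⟩ := exists_pow_eq_self_of_coprime (n := orderOf g) (x := k)
    (Nat.Coprime.coprime_dvd_right hkj (hgp.pow_right j))
  obtain ⟨h1, h1v⟩ := hstep z hzQ
  have hkc : Commute k (π ⟨z, hQS hzQ⟩) := hm ▸ hcomm.pow_left m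
  have hfin : π ⟨g * z * g⁻¹, hQS h1⟩ = π ⟨z, hQS hzQ⟩ := by
    rw [h1v, mul_assoc, ← hkc.eq, inv_mul_cancel_left]
  have := Subgroup.mem_subgroupOf.1 (QuotientGroup.eq_iff_div_mem.1 hfin)
  simpa [div_eq_mul_inv] using this

end CfsgLib.FusionComponents
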