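import Cfsg.Agent.FusionComponents.Balance.Gen

/-!
# `Aut_{RT}(R)` is a Sylow subgroup of `J R`
-/

set_option autoImplicit false
set_option linter.unusedSectionVars false

namespace CfsgLib.FusionComponents

open Cfsg Cfsg.FusionSystem CfsgLib.Fusion CfsgLib.FusionClosed

variable {Ω : Type*} [Group Ω] {S T : Subgroup Ω} {F : FusionSystem S} {E : FusionSystem T}
  {R R' : Subgroup Ω} {p : ℕ}

variable [Finite S] [Fact p.Prime] (hS : IsPGroup p S) (hE : E.IsNormalIn F p)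
include hS hE

theorem isPGroup_autRT (hR : R ≤ S) : IsPGroup p (autInducedBy (R ⊔ T) R) :=
  isPGroup_autInducedBy (hS.to_le (sup_le hR hE.1.2.2.2.1.1)) R

/-- The Sylow property passes between fully normalized conjugates. -/
theorem isSylowIn_of_conj (hR : F.IsFullyNormalized R) (hR' : F.IsFullyNormalized R')
    (hc : F.IsConj R R') (h : IsSylowIn p (J F E p R') (autInducedBy (R' ⊔ T) R')) :
    IsSylowIn p (J F E p R) (autInducedBy (R ⊔ T) R) := by
  have hF := hE.1.2.1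
  have hT := hE.1.2.2.2.1
  obtain ⟨e, χ, he, hχ, hv⟩ := exists_normalizer_iso hS hF hR' hR (isConj_symm hc)
  have := finite_of_le hR'.1
  have := finite_mulAut (V := R')
  have hmem : ∀ {A B : Subgroup Ω} {d : A ≃* B} {δ : normalizerIn S A ≃* normalizerIn S B},
      A ≤ S → IsIso F δ →
      (∀ (x : A) (hx : (x : Ω) ∈ normalizerIn S A), (δ ⟨x, hx⟩ : Ω) = d x) →
      ∀ c ∈ autInducedBy (A ⊔ T) A, MulAut.congr d c ∈ autInducedBy (B ⊔ T) B := by
    intro A B d δ hA hδ hdv c hc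
    obtain ⟨x, hx, hxN, hxv⟩ := mem_autInducedBy_iff.1 hc
    exact (congr_mem_autRT hT hA (le_normalizerIn hA) hδ (fun r => hdv r _)
      (x := x) ⟨sup_le hA hT.1 hx, hxN⟩ hx hxv).2
  have hsymm : ∀ (y : R) (hy : (y : Ω) ∈ normalizerIn S R),
      (χ.symm ⟨y, hy⟩ : Ω) = e.symm y := by
    intro y hy
    have h1 := hv (e.symm y) (le_normalizerIn hR'.1 (e.symm y).2)
    rw [MulEquiv.apply_symm_apply] at h1
    rw [show (⟨(y : Ω), hy⟩ : normalizerIn S R) =
      χ ⟨e.symm y, le_normalizerIn hR'.1 (e.symm y).2⟩ from Subtype.ext h1.symm,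
      MulEquiv.symm_apply_apply]
  have h2 := (isSylowIn_map_iff (f := (MulAut.congr e).toMonoidHom) (MulAut.congr e).injective
    (autRT_le_J hS hE hR'.1)).2 h
  rwa [show (J F E p R').map (MulAut.congr e).toMonoidHom = J F E p R from
      le_antisymm (by rintro _ ⟨a, ha, rfl⟩; exact congr_mem_J he ha)
        fun a ha => ⟨MulAut.congr e.symm a, congr_mem_J he.symm ha,
          (MulAut.congr e).apply_symm_apply a⟩,
    show (autInducedBy (R' ⊔ T) R').map (MulAut.congr e).toMonoidHom = autInducedBy (R ⊔ T) R from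
      le_antisymm (by rintro _ ⟨a, ha, rfl⟩; exact hmem hR'.1 hχ hv a ha)
        fun a ha => ⟨MulAut.congr e.symm a, hmem hR.1 hχ.symm hsymm a ha,
          (MulAut.congr e).apply_symm_apply a⟩] at h2

/-- The Sylow property in `HT`, at a good representative. -/
theorem isSylowIn_of_HT (hR : F.IsFullyNormalized R) (hR₀ : F.IsFullyNormalized (R ⊓ T))
    (hH : HT F T R) : IsSylowIn p (J F E p R) (autInducedBy (R ⊔ T) R) := by
  have hF := hE.1.2.1
  have hT := hE.1.2.2.2.1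
  have := finite_of_le hR.1
  have := finite_mulAut (V := R)
  have hJF : J F E p R ≤ F.autGroup R := J_le_autGroup hS hE
  have hJn : F.autGroup R ≤ Subgroup.normalizer (J F E p R : Set (MulAut R)) := fun a ha =>
    SatCriterion.mem_normalizer_of_finite fun g hg => J_conj_mem hR.1 ha hg
  have hsyl := IsSylowIn.inf_normal (automized_receptive hS hF hR).1.2
    (autInducedBy_le_autGroup hR.1) hJF hJn
  obtain ⟨P, hP⟩ := id hsyl
  obtain ⟨Tp, hTp⟩ : ∃ Tp, Tp = autInducedBy (R ⊔ T) R := ⟨_, rfl⟩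
  have hTpS : Tp ≤ autInducedBy S R := hTp ▸ autInducedBy_mono (sup_le hR.1 hT.1) R
  have hcore := residual_inf_le' P (N := Tp.subgroupOf (J F E p R)) fun g hg W hW hgW x hx => by
    obtain ⟨W', hW'⟩ : ∃ W', W' = W.map (J F E p R).subtype ⊔ Inn R := ⟨_, rfl⟩
    have hW'S : W' ≤ autInducedBy S R := by
      rw [hW']
      refine sup_le ?_ (Inn_le_autInducedBy hR.1)
      rintro _ ⟨w, hw, rfl⟩
      have h1 : w ∈ (P : Subgroup (J F E p R)) := hW hw
      rw [hP, Subgroup.mem_subgroupOf] at h1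
      exact h1.1
    obtain ⟨M, hM⟩ : ∃ M, M = kNormalizer S R W' := ⟨_, rfl⟩
    have hMW : autInducedBy M R = W' := by
      refine le_antisymm (fun z hz => ?_) fun z hz => ?_
      · obtain ⟨m, hm, -, hmv⟩ := mem_autInducedBy_iff.1 hz
        obtain ⟨-, a, ha, hav⟩ := mem_kNormalizer.1 (hM ▸ hm)
        rwa [show z = a from MulEquiv.ext fun r => Subtype.ext ((hmv r).trans (hav r).symm)]
      · obtain ⟨s, hs, hsN, hsv⟩ := mem_autInducedBy_iff.1 (hW'S hz)
        exact mem_autInducedBy_iff.2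
          ⟨s, hM ▸ mem_kNormalizer.2 ⟨hs, z, hz, hsv⟩, hsN, hsv⟩
    have hgA : (g : MulAut R) ∈ AE F E R := mem_AE_of_coprime hS hE hR.1
      (J_le_Aplus hS hE g.2) (by rwa [Subgroup.orderOf_coe])
    have hconj : ∀ z ∈ W', (g : MulAut R) * z * (g : MulAut R)⁻¹ ∈ W' := by
      suffices h : W'.map (MulAut.conj (g : MulAut R)).toMonoidHom ≤ W' from
        fun z hz => h ⟨z, hz, rfl⟩
      conv_lhs => rw [hW', Subgroup.map_sup]
      rw [hW']
      refine sup_le_sup ?_ ?_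
      · rintro _ ⟨_, ⟨w, hw, rfl⟩, rfl⟩
        exact ⟨g * w * g⁻¹, hgW w hw, rfl⟩
      · rintro _ ⟨z, hz, rfl⟩
        exact (Inn_normal R).conj_mem z hz _
    have hxW : (x : MulAut R) ∈ W' := hW' ▸ Subgroup.mem_sup_left ⟨x, hx, rfl⟩
    have h1 := conj_mem_mod hS hE hR hR₀ hH hgA (by rwa [Subgroup.orderOf_coe])
      (M := M) (hM ▸ le_kNormalizer hR.1 (hW' ▸ le_sup_right))
      (hM ▸ kNormalizer_le_normalizerIn W') (by rw [hMW]; exact hconj) x (hMW.symm ▸ hxW)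
    have h2 := conj_mem_autRT hT hR.1 (inv_mem (hW'S hxW)) h1
    rw [Subgroup.mem_subgroupOf, hTp]
    simpa [mul_assoc] using h2
  have hle : autInducedBy S R ⊓ J F E p R ≤ Tp := by
    intro z hz
    have hzJ := hz.2
    rw [J_eq_JB hS hE hR, mem_JB_of_HT hH] at hzJ
    obtain ⟨c, hc, t, ht, hct⟩ := exists_mul_of_sup (fun y hy a ha => coprimeGen_conj_mem
      (fun b hb => by
        rw [← congr_self_eq]
        exact congr_mem_AE hE ((mem_autGroup_iff hR.1).1 (autInducedBy_le_autGroup hR.1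
          (autInducedBy_mono (sup_le hR.1 hT.1) R hy))) hb) ha) hzJ
    have htJ : t ∈ J F E p R := autRT_le_J hS hE hR.1 ht
    have hcz : c = z * t⁻¹ := by rw [← hct, mul_inv_cancel_right]
    have hcS : c ∈ autInducedBy S R :=
      hcz ▸ mul_mem hz.1 (inv_mem (autInducedBy_mono (sup_le hR.1 hT.1) R ht))
    have hcR : c ∈ coprimeGen p (J F E p R) :=
      (Subgroup.closure_le _).2
        (fun g hg => mem_coprimeGen (Gen.seed hR.1 hH hg.1 hg.2).mem_J hg.2) hc
    rw [coprimeGen_eq_map] at hcR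
    obtain ⟨c', hc', rfl⟩ := hcR
    have hcP : c' ∈ (P : Subgroup (J F E p R)) := hP ▸ Subgroup.mem_subgroupOf.2 ⟨hcS, c'.2⟩
    rw [← hct]
    exact mul_mem (Subgroup.mem_subgroupOf.1 (hcore ⟨hcP, hc'⟩)) (hTp ▸ ht)
  rw [← hTp]
  rwa [show Tp = autInducedBy S R ⊓ J F E p R from
    le_antisymm (le_inf hTpS (hTp ▸ autRT_le_J hS hE hR.1)) hle]

theorem exists_conj_autRT_of (hsyl : ∀ V, F.IsFullyNormalized V → F.IsConj R V →
      IsSylowIn p (J F E p V) (autInducedBy (V ⊔ T) V))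
    (hR : R ≤ S) {X : Subgroup (MulAut R)} (hX : X ≤ J F E p R) (hXp : IsPGroup p X) :
    ∃ (V : Subgroup Ω) (e : R ≃* V), IsIso F e ∧ F.IsFullyNormalized V ∧
      ∀ x ∈ X, MulAut.congr e x ∈ autInducedBy (V ⊔ T) V := by
  obtain ⟨V, hc, hV⟩ := exists_fullyNormalized (F := F) hR
  obtain ⟨e₀, he₀⟩ := isConj_iff.1 hc
  have := finite_of_le hV.1
  have := finite_mulAut (V := V)
  obtain ⟨a, ha, hac⟩ := (hsyl V hV hc).exists_conj
    (X := X.map (MulAut.congr e₀).toMonoidHom)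
    (by rintro _ ⟨x, hx, rfl⟩; exact congr_mem_J he₀ (hX hx)) (hXp.map _)
  refine ⟨V, e₀.trans a, he₀.trans ((mem_autGroup_iff hV.1).1 (J_le_autGroup hS hE ha)), hV,
    fun x hx => ?_⟩
  rw [congr_trans, congr_self_eq]
  exact hac _ ⟨x, hx, rfl⟩

/-- The Sylow property outside `HT`. -/
theorem isSylowIn_of_not_HT (hR : F.IsFullyNormalized R) (hH : ¬ HT F T R)
    (habove : ∀ V, F.IsFullyNormalized V → Nat.card R < Nat.card V →
      IsSylowIn p (J F E p V) (autInducedBy (V ⊔ T) V)) :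
    IsSylowIn p (J F E p R) (autInducedBy (R ⊔ T) R) := by
  have hF := hE.1.2.1
  have hT := hE.1.2.2.2.1
  obtain ⟨X, hX⟩ : ∃ X, X = ext1 F T R := ⟨_, rfl⟩
  have hXS : X ≤ S := hX ▸ ext1_le_sup.trans (sup_le hR.1 hT.1)
  have hRX : R ≤ X := hX ▸ le_ext1
  have hcard : Nat.card R < Nat.card X := hX ▸ card_lt_of_lt (lt_ext1 hS hF hT hR hH) (hX ▸ hXS)
  have := finite_of_le hR.1
  have := finite_mulAut (V := R)
  have := finite_of_le hXS
  have := finite_mulAut (V := X)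
  obtain ⟨A, hA⟩ : ∃ A, A = J F E p X ⊓ SatCriterion.stab F X R := ⟨_, rfl⟩
  obtain ⟨K, hKA, hKp, hK⟩ := exists_isSylowIn p A
  obtain ⟨V, θ, hθ, hV, hθK⟩ := exists_conj_autRT_of hS hE (R := X)
    (fun V hV hc => habove V hV (hcard.trans_le (card_eq_of_isConj hc).le)) hXS
    (hKA.trans (hA ▸ inf_le_left)) hKp
  obtain ⟨eR, heR, heRv⟩ := exists_iso_restrict (φ := V.subtype.comp θ.toMonoidHom) hθ hRX
  generalize hR'' : imgHom (V.subtype.comp θ.toMonoidHom) R = R'' at eR heR heRv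
  have hR''S : R'' ≤ S := heR.le_right
  obtain ⟨ha, hr⟩ := automized_receptive hS hF hR
  obtain ⟨χ, hχ, -, himg⟩ := exists_map_normalizerIn hS ha hr (isConj_symm heR.isConj)
  have hR''N : R'' ≤ normalizerIn S R'' := le_normalizerIn hR''S
  obtain ⟨eχ, heχ, heχv⟩ := Fusion.exists_iso (restrict_mem hχ hR''N)
    ((range_restrictHom χ hR''N).trans himg)
  have hVle : V ⊔ T ≤ R'' ⊔ T := by
    refine sup_le (fun v hv => ?_) le_sup_right
    obtain ⟨y, hy⟩ := θ.surjective ⟨v, hv⟩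
    obtain ⟨r, hr', t, ht, hrt⟩ := exists_rt hT hR.1 (ext1_le_sup (hX ▸ y.2 : (y : Ω) ∈ ext1 F T R))
    have htX : t ∈ X := by
      rw [← inv_mul_cancel_left r t, hrt]
      exact X.mul_mem (X.inv_mem (hRX hr')) y.2
    have hv' : v = (θ ⟨r, hRX hr'⟩ : Ω) * (θ ⟨t, htX⟩ : Ω) := by
      rw [← Subgroup.coe_mul, ← map_mul, show (⟨r, hRX hr'⟩ : X) * ⟨t, htX⟩ = y from
        Subtype.ext hrt]
      exact (congrArg Subtype.val hy).symm
    rw [hv']
    exact Subgroup.mul_mem_sup (hR'' ▸ ⟨⟨r, hRX hr'⟩, hr', rfl⟩)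
      (stronglyClosed_apply hT hθ (x := ⟨t, htX⟩) ht)
  have hAstab : ∀ a : A, (a : MulAut X) ∈ SatCriterion.stab F X R := fun a =>
    (Subgroup.mem_inf.1 (hA ▸ a.2 : (a : MulAut X) ∈ J F E p X ⊓ _)).2
  obtain ⟨f, hfv⟩ : ∃ f : A →* MulAut R, ∀ a : A, Agrees hRX (f a) (a : MulAut X) :=
    ⟨(SatCriterion.res F hRX).comp ((A.subtype).codRestrict _ hAstab),
      fun a x => (SatCriterion.res_apply hRX ⟨(a : MulAut X), hAstab a⟩ x).symm⟩
  have hfr : f.range = J F E p R := by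
    refine le_antisymm ?_ fun g hg => ?_
    · rintro _ ⟨a, rfl⟩
      refine JB_le_J hS hE hR ((mem_JB_of_not_HT hH).2 ?_)
      subst hX
      have h1 := a.2
      simp only [hA, Subgroup.mem_inf] at h1
      exact ⟨a, h1.1, hfv a⟩
    · rw [J_eq_JB hS hE hR, mem_JB_of_not_HT hH] at hg
      obtain ⟨a, ha, hga⟩ := hg
      subst hX
      have haA : a ∈ A := hA ▸ ⟨ha, J_le_autGroup hS hE ha, fun x => ⟨fun h => by
          obtain ⟨y, hy⟩ := g.surjective ⟨_, h⟩
          have h1 : a ⟨y, hRX y.2⟩ = a x :=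
            Subtype.ext ((hga y).trans (congrArg Subtype.val hy))
          have h2 : (y : Ω) = x := congrArg Subtype.val (a.injective h1)
          exact h2 ▸ y.2,
        fun h => (hga ⟨x, h⟩).symm ▸ (g ⟨x, h⟩).2⟩⟩
      exact ⟨⟨a, haA⟩, (hfv ⟨a, haA⟩).unique hga⟩
  have hmap := hK.map_hom f
  rw [hfr] at hmap
  have hKJ : (K.subgroupOf A).map f ≤ J F E p R :=
    hfr ▸ Subgroup.map_le_range f _
  have : Finite (J F E p R) := inferInstance
  obtain ⟨hKp', hmax⟩ := (isSylowIn_iff hKJ).1 hmap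
  refine isSylowIn_of_card_max (autRT_le_J hS hE hR.1) (isPGroup_autRT hS hE hR.1)
    fun Y hY hYp => (hmax Y hY hYp).trans ?_
  refine card_le_of_conj_mem (a := (eR.trans eχ : MulAut R)) fun z hz => ?_
  obtain ⟨k, hk, rfl⟩ := hz
  obtain ⟨x, hx, hxN, hxv⟩ := mem_autInducedBy_iff.1
    (hθK _ (Subgroup.mem_subgroupOf.1 hk))
  have hc : ∀ y : R'', (MulAut.congr eR (f k) y : Ω) = x * y * x⁻¹ := fun y => by
    obtain ⟨r, rfl⟩ := eR.surjective y
    rw [congr_apply, heRv, heRv, show (⟨((f k) r : Ω), hRX ((f k) r).2⟩ : X) =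
      (k : MulAut X) ⟨r, hRX r.2⟩ from Subtype.ext (hfv k r).symm]
    show (θ ((k : MulAut X) ⟨r, _⟩) : Ω) = _
    rw [← congr_apply (e := θ)]
    exact hxv _
  have hxn : x ∈ normalizerIn S R'' := by
    refine ⟨sup_le hV.1 hT.1 hx, ?_⟩
    have := finite_of_le hR''S
    exact SatCriterion.mem_normalizer_of_finite fun y hy => hc ⟨y, hy⟩ ▸ Subtype.mem _
  have h2 := (congr_mem_autRT hT hR''S hR''N hχ (fun r => (heχv r).symm) hxn (hVle hx) hc).2
  rwa [← congr_trans, congr_self_eq] at h2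

/-- **`Aut_{RT}(R)` is a Sylow subgroup of `J R` at fully normalized `R`.** -/
theorem isSylowIn_J (hR : F.IsFullyNormalized R) :
    IsSylowIn p (J F E p R) (autInducedBy (R ⊔ T) R) := by
  induction hd : Nat.card S - Nat.card R using Nat.strong_induction_on generalizing R with
  | _ d ih =>
  by_cases hH : HT F T R
  · obtain ⟨Q, hc, hQ, hQ₀⟩ := exists_goodRep hS hE.1.2.1 hE.1.2.2.2.1 hR.1
    exact isSylowIn_of_conj hS hE hR hQ hc
      (isSylowIn_of_HT hS hE hQ hQ₀ (hH.of_isConj hE.1.2.2.2.1 hc))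
  · refine isSylowIn_of_not_HT hS hE hR hH fun V hV hlt => ih _ ?_ hV rfl
    have := Subgroup.card_le_of_le hV.1
    omega

/-- Every `p`-subgroup of `J R` is conjugate in `F` into the group induced by `R T`. -/
theorem exists_conj_autRT (hR : R ≤ S) {X : Subgroup (MulAut R)} (hX : X ≤ J F E p R)
    (hXp : IsPGroup p X) :
    ∃ (V : Subgroup Ω) (e : R ≃* V), IsIso F e ∧ F.IsFullyNormalized V ∧
      ∀ x ∈ X, MulAut.congr e x ∈ autInducedBy (V ⊔ T) V :=
  exists_conj_autRT_of hS hE (fun _ hV _ => isSylowIn_J hS hE hV) hR hX hXp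

end CfsgLib.FusionComponents
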